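import Mathlib
import Cfsg.Agent.Lib.MinDegree.Orth.Threshold
import Cfsg.Agent.Lib.Classical.EichlerSimple

/-!
Transitive sets of `E(xy + P)`: the radical of a singular point, the additive groups it fixes,
commutators along a totally singular line and the orbits they cut out.
-/

set_option autoImplicit false

namespace Cfsg.Agent.Lib.MinIndexOrth

open QuadraticMap
open Cfsg.Agent.Lib.Classical Cfsg.Agent.Lib.MinDegree.Orth

variable {F : Type*} [Field F] {U : Type*} [AddCommGroup U] [Module F U] (P : QuadraticForm F U)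

/-- the group -/
abbrev Grp : Subgroup ((F × F × (F × F × U)) ≃ₗ[F] (F × F × (F × F × U))) :=
  eichlerGroup (hypExt P)

/-- the radical of the standard singular point -/
def rad (w : F × F × U) : Grp P :=
  ⟨hypSiegel (hypExt P) w, hypSiegel_mem_eichler _ w⟩

/-- the exchange of the two planes -/
def sig : Grp P := ⟨planeSwap P, planeSwap_mem⟩

/-- the complement -/
def ind (k : eichlerGroup P) : Grp P := ⟨hypInd k.1, MinDegree.Orth.hypInd_mem_eichler k.2⟩

/-- the radical elements inside the complement -/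
def kS (c : U) : eichlerGroup P := ⟨hypSiegel P c, hypSiegel_mem_eichler P c⟩

/-- the radical of the second point -/
def tel (w : F × F × U) : Grp P := sig P * rad P w * (sig P)⁻¹

/-- `g` acts on the radical by `K` -/
def Acts (g : Grp P) (K : (F × F × U) ≃ₗ[F] (F × F × U)) : Prop :=
  ∀ w, g * rad P w = rad P (K w) * g

variable {P}

theorem rad_add (v w : F × F × U) : rad P (v + w) = rad P v * rad P w :=
  Subtype.ext (hypSiegel_add (hypExt P) v w).symm

theorem rad_zero : rad P (0 : F × F × U) = 1 := Subtype.ext hypSiegel_zero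

theorem rad_inv (w : F × F × U) : (rad P w)⁻¹ = rad P (-w) :=
  inv_eq_of_mul_eq_one_right (by rw [← rad_add, add_neg_cancel, rad_zero])

theorem rad_comm (v w : F × F × U) : rad P v * rad P w = rad P w * rad P v := by
  rw [← rad_add, ← rad_add, add_comm]

theorem ind_one : ind P 1 = 1 := Subtype.ext hypInd_one

theorem ind_mul (k l : eichlerGroup P) : ind P (k * l) = ind P k * ind P l :=
  Subtype.ext (hypInd_mul _ _)

theorem ind_inv (k : eichlerGroup P) : ind P k⁻¹ = (ind P k)⁻¹ :=
  eq_inv_of_mul_eq_one_left (by rw [← ind_mul, inv_mul_cancel, ind_one])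

theorem kS_add (c c' : U) : kS P (c + c') = kS P c * kS P c' :=
  Subtype.ext (hypSiegel_add P c c').symm

theorem acts_ind (k : eichlerGroup P) : Acts P (ind P k) k.1 := fun w => by
  refine Subtype.ext ?_
  show hypInd k.1 * hypSiegel (hypExt P) w = hypSiegel (hypExt P) (k.1 w) * hypInd k.1
  rw [← hypInd_conj_siegel k.1 (eichlerGroup_le P k.2) w, inv_mul_cancel_right]

theorem Acts.mul {g g' : Grp P} {K K' : (F × F × U) ≃ₗ[F] (F × F × U)} (h : Acts P g K)
    (h' : Acts P g' K') : Acts P (g * g') (K * K') := fun w => by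
  rw [mul_assoc, h', ← mul_assoc, h, mul_assoc]; rfl

theorem acts_rad (r : F × F × U) : Acts P (rad P r) 1 := fun w => rad_comm r w

theorem sig_rad_e (t : F) : sig P * rad P (t, 0, 0) = rad P (t, 0, 0) * sig P :=
  Subtype.ext (planeSwap_siegel_e t)

theorem sig_rad_mid (c : U) : sig P * rad P (0, 0, c) = ind P (kS P (-c)) * sig P :=
  Subtype.ext (planeSwap_siegel_mid c)

theorem sig_ind_kS (c : U) : sig P * ind P (kS P c) = rad P (0, 0, c) * sig P :=
  Subtype.ext (planeSwap_ind_siegel c)

theorem tel_eq (t : F) (c : U) : tel P (t, 0, c) = rad P (t, 0, 0) * ind P (kS P (-c)) := by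
  have e : ((t, 0, c) : F × F × U) = (t, 0, 0) + (0, 0, c) := by simp
  rw [tel, e, rad_add, ← mul_assoc, sig_rad_e, mul_assoc (rad P (t, 0, 0)) (sig P), sig_rad_mid,
    mul_assoc, mul_assoc, mul_inv_cancel, mul_one]

theorem acts_tel (t : F) (c : U) : Acts P (tel P (t, 0, c)) (hypSiegel P (-c)) := by
  rw [tel_eq]
  have := (acts_rad (P := P) (t, 0, 0)).mul (acts_ind (kS P (-c)))
  rw [one_mul] at this
  exact this

section fix

variable (P) {X : Type*} [MulAction (Grp P) X]

/-- the part of the radical fixing `x` -/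
def fixer (x : X) : AddSubgroup (F × F × U) where
  carrier := {w | rad P w • x = x}
  zero_mem' := by show rad P 0 • x = x; rw [rad_zero, one_smul]
  add_mem' {v w} hv hw := by
    show rad P (v + w) • x = x
    rw [rad_add, mul_smul, show rad P w • x = x from hw, show rad P v • x = x from hv]
  neg_mem' {w} hw := by
    show rad P (-w) • x = x
    rw [← rad_inv, inv_smul_eq_iff]
    exact (show rad P w • x = x from hw).symm

/-- the projection of the part of `fixer` orthogonal to the second point -/
def proj (x : X) : AddSubgroup U where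
  carrier := {c | ∃ a, ((a, 0, c) : F × F × U) ∈ fixer P x}
  zero_mem' := ⟨0, (fixer P x).zero_mem⟩
  add_mem' := fun {c c'} ⟨a, ha⟩ ⟨a', ha'⟩ => ⟨a + a', by simpa using (fixer P x).add_mem ha ha'⟩
  neg_mem' := fun {c} ⟨a, ha⟩ => ⟨-a, by simpa using (fixer P x).neg_mem ha⟩

/-- the part of the root group of the line -/
def zline (x : X) : AddSubgroup F where
  carrier := {t | ((t, 0, 0) : F × F × U) ∈ fixer P x}
  zero_mem' := (fixer P x).zero_mem
  add_mem' := fun {t t'} h h' => by
    show ((t + t', 0, 0) : F × F × U) ∈ fixer P x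
    simpa using (fixer P x).add_mem h h'
  neg_mem' := fun {t} h => by
    show ((-t, 0, 0) : F × F × U) ∈ fixer P x
    simpa using (fixer P x).neg_mem h

variable {P}

theorem mem_fixer {x : X} {w : F × F × U} : w ∈ fixer P x ↔ rad P w • x = x := Iff.rfl

theorem fixer_acts {g : Grp P} {K : (F × F × U) ≃ₗ[F] (F × F × U)} (h : Acts P g K) (x : X)
    (w : F × F × U) : K w ∈ fixer P (g • x) ↔ w ∈ fixer P x := by
  rw [mem_fixer, mem_fixer, smul_smul, ← h, mul_smul]
  exact smul_left_cancel_iff g

theorem fixer_rad (r : F × F × U) (x : X) : fixer P (rad P r • x) = fixer P x := by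
  ext w; exact fixer_acts (acts_rad r) x w

theorem mem_fixer_sig {x : X} {w : F × F × U} :
    w ∈ fixer P ((sig P)⁻¹ • x) ↔ tel P w • x = x := by
  rw [mem_fixer, eq_inv_smul_iff, smul_smul, smul_smul, tel]

theorem zline_sig (x : X) : zline P ((sig P)⁻¹ • x) = zline P x := by
  ext t
  show _ ∈ fixer P _ ↔ _ ∈ fixer P _
  rw [mem_fixer_sig, mem_fixer, tel, sig_rad_e, mul_inv_cancel_right]

/-- a fixing element acting as a radical element of the complement gives a root element -/
theorem comm_mem {x : X} {g : Grp P} {c m : U} {a : F} (hg : g • x = x)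
    (hK : Acts P g (hypSiegel P c)) (hv : ((a, 0, m) : F × F × U) ∈ fixer P x) :
    polar P c m ∈ zline P x := by
  have h1 := (fixer_acts hK x (a, 0, m)).2 hv
  rw [hg, hypSiegel_apply] at h1
  show _ ∈ fixer P x
  have h2 := (fixer P x).sub_mem hv h1
  convert h2 using 1
  refine Prod.ext ?_ (Prod.ext ?_ ?_) <;> simp

theorem polar_mem_zline {x : X} {c m : U} (hc : c ∈ proj P x) (hm : m ∈ proj P ((sig P)⁻¹ • x)) :
    polar P m c ∈ zline P x := by
  obtain ⟨a, ha⟩ := hc
  obtain ⟨b, hb⟩ := hm
  have h := comm_mem (mem_fixer_sig.1 hb) (acts_tel b m) ha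
  rw [polar_neg_left] at h
  simpa using (zline P x).neg_mem h

/-- the element moving the point along the line -/
def shift (P : QuadraticForm F U) : Grp P := tel P (0, 1, 0)

theorem shift_conj (a : F) (c : U) :
    shift P * rad P (a, 0, c) * (shift P)⁻¹
      = rad P (a, 0, 0) * (tel P (P c, 0, -c) * rad P (0, 0, c)) := by
  have hk : rad P (0, 1, 0) * ind P (kS P c) * (rad P (0, 1, 0))⁻¹
      = rad P (P c, 0, -c) * ind P (kS P c) := by
    rw [rad_inv, mul_assoc, acts_ind, ← mul_assoc, ← rad_add]
    congr 2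
    show _ + hypSiegel P c _ = _
    rw [hypSiegel_apply]
    simp
  have h0 : shift P * rad P (a, 0, 0) * (shift P)⁻¹ = rad P (a, 0, 0) := by
    have e1 : (sig P)⁻¹ * rad P (a, 0, 0) * sig P = rad P (a, 0, 0) := by
      rw [mul_assoc, ← sig_rad_e, inv_mul_cancel_left]
    calc shift P * rad P (a, 0, 0) * (shift P)⁻¹
        = sig P * (rad P (0, 1, 0) * ((sig P)⁻¹ * rad P (a, 0, 0) * sig P) * (rad P (0, 1, 0))⁻¹)
            * (sig P)⁻¹ := by unfold shift tel; group
      _ = sig P * rad P (a, 0, 0) * (sig P)⁻¹ := by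
          rw [e1, rad_comm, mul_inv_cancel_right]
      _ = rad P (a, 0, 0) := by rw [sig_rad_e, mul_inv_cancel_right]
  have hc : shift P * rad P (0, 0, c) * (shift P)⁻¹ = tel P (P c, 0, -c) * rad P (0, 0, c) := by
    have e1 : (sig P)⁻¹ * rad P (0, 0, c) * sig P = ind P (kS P c) := by
      rw [mul_assoc, ← sig_ind_kS, inv_mul_cancel_left]
    have e2 : sig P * ind P (kS P c) * (sig P)⁻¹ = rad P (0, 0, c) := by
      rw [sig_ind_kS, mul_inv_cancel_right]
    calc shift P * rad P (0, 0, c) * (shift P)⁻¹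
        = sig P * (rad P (0, 1, 0) * ((sig P)⁻¹ * rad P (0, 0, c) * sig P) * (rad P (0, 1, 0))⁻¹)
            * (sig P)⁻¹ := by unfold shift tel; group
      _ = sig P * (rad P (P c, 0, -c) * ind P (kS P c)) * (sig P)⁻¹ := by rw [e1, hk]
      _ = tel P (P c, 0, -c) * (sig P * ind P (kS P c) * (sig P)⁻¹) := by unfold tel; group
      _ = _ := by rw [e2]
  have e : ((a, 0, c) : F × F × U) = (a, 0, 0) + (0, 0, c) := by simp
  rw [e, rad_add, ← conj_mul, h0, hc]

/-- the third point of the line is orthogonal to the first two -/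
theorem polar_shift_mem {x : X} {c : U} (hc : c ∈ proj P ((shift P)⁻¹ • x)) :
    (∀ m ∈ proj P x, polar P c m ∈ zline P x) ∧
    ∀ m ∈ proj P ((sig P)⁻¹ • x), polar P c m ∈ zline P x := by
  obtain ⟨a, ha⟩ := hc
  rw [mem_fixer, eq_inv_smul_iff, smul_smul, smul_smul, shift_conj] at ha
  constructor
  · rintro m ⟨b, hb⟩
    refine comm_mem ha ?_ hb
    have := (acts_rad (P := P) (a, 0, 0)).mul
      ((acts_tel (P := P) (P c) (-c)).mul (acts_rad (0, 0, c)))
    simpa only [one_mul, mul_one, neg_neg] using this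
  · rintro m hm
    obtain ⟨b, hb⟩ := hm
    set g := rad P (a, 0, 0) * (tel P (P c, 0, -c) * rad P (0, 0, c)) with hg
    have hg' : ((sig P)⁻¹ * g * sig P) • ((sig P)⁻¹ • x) = (sig P)⁻¹ • x := by
      rw [mul_smul, mul_smul, smul_inv_smul, ha]
    have e : (sig P)⁻¹ * g * sig P
        = rad P (a, 0, 0) * (rad P (P c, 0, -c) * ind P (kS P c)) := by
      have e0 : (sig P)⁻¹ * rad P (a, 0, 0) * sig P = rad P (a, 0, 0) := by
        rw [mul_assoc, ← sig_rad_e, inv_mul_cancel_left]
      have e1 : (sig P)⁻¹ * rad P (0, 0, c) * sig P = ind P (kS P c) := by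
        rw [mul_assoc, ← sig_ind_kS, inv_mul_cancel_left]
      calc (sig P)⁻¹ * g * sig P
          = ((sig P)⁻¹ * rad P (a, 0, 0) * sig P) * (rad P (P c, 0, -c)
              * ((sig P)⁻¹ * rad P (0, 0, c) * sig P)) := by rw [hg]; unfold tel; group
        _ = _ := by rw [e0, e1]
    rw [e] at hg'
    have hA := (acts_rad (P := P) (a, 0, 0)).mul
      ((acts_rad (P := P) (P c, 0, -c)).mul (acts_ind (kS P c)))
    rw [one_mul, one_mul] at hA
    have h := comm_mem hg' hA hb
    rwa [zline_sig] at h

section finite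

variable [Finite X]

open scoped _root_.Classical in
/-- representatives in distinct orbits of the radical -/
theorem sum_index_le {ι : Type*} [Fintype ι] (pts : ι → X)
    (h : ∀ i j, (∃ r, rad P r • pts i = pts j) → i = j) :
    ∑ i, (fixer P (pts i)).index ≤ Nat.card X := by
  let f : (Σ i, (F × F × U) ⧸ fixer P (pts i)) → X := fun s =>
    Quotient.liftOn' s.2 (fun r => rad P r • pts s.1) fun r r' hr => by
      rw [QuotientAddGroup.leftRel_apply, mem_fixer, rad_add, ← rad_inv, mul_smul,
        inv_smul_eq_iff] at hr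
      exact hr.symm
  have hf : Function.Injective f := by
    rintro ⟨i, r⟩ ⟨j, r'⟩ e
    induction r using QuotientAddGroup.induction_on with | _ r => ?_
    induction r' using QuotientAddGroup.induction_on with | _ r' => ?_
    change rad P r • pts i = rad P r' • pts j at e
    obtain rfl := h i j ⟨-r' + r, by rw [rad_add, ← rad_inv, mul_smul, e, inv_smul_smul]⟩
    refine congrArg (Sigma.mk i) (QuotientAddGroup.eq.2 ?_)
    rw [mem_fixer, rad_add, ← rad_inv, mul_smul, ← e, inv_smul_smul]
  have hfin : Finite (Σ i, (F × F × U) ⧸ fixer P (pts i)) := Finite.of_injective f hf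
  calc ∑ i, (fixer P (pts i)).index = Nat.card (Σ i, (F × F × U) ⧸ fixer P (pts i)) := by
        have : ∀ i, Finite ((F × F × U) ⧸ fixer P (pts i)) := fun i =>
          Finite.of_injective (fun q => (⟨i, q⟩ : Σ i, (F × F × U) ⧸ fixer P (pts i)))
            fun q q' hq => eq_of_heq (Sigma.mk.inj hq).2
        rw [Nat.card_sigma]
        exact Finset.sum_congr rfl fun i _ => (fixer P (pts i)).index_eq_card
    _ ≤ Nat.card X := Nat.card_le_card_of_injective f hf

end finite

end fix

end Cfsg.Agent.Lib.MinIndexOrth
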