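import Cfsg.Agent.Lib.MinIndexOrth.Orbit

/-!
Cocycles of `E(xy + P₀)` in its natural module, restricted to a root group of a point: up to a
coboundary they vanish, except over two and three elements where a small kernel remains.
-/

set_option autoImplicit false
set_option linter.unusedSectionVars false

namespace Cfsg.Agent.Lib.MinIndexOrth

open QuadraticMap
open Cfsg.Agent.Lib.Classical Cfsg.Agent.Lib.MinDegree.Orth

variable {F : Type*} [Field F] [Finite F]
variable {V₀ : Type*} [AddCommGroup V₀] [Module F V₀] [Finite V₀] [Nontrivial V₀]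
variable {P₀ : QuadraticForm F V₀}

/-- the inner complement -/
def jU (j : eichlerGroup P₀) : eichlerGroup (hypExt P₀) :=
  ⟨hypInd j.1, MinDegree.Orth.hypInd_mem_eichler j.2⟩

theorem jU_mul (j l : eichlerGroup P₀) : jU (j * l) = jU j * jU l := Subtype.ext (hypInd_mul _ _)

theorem jU_kS (j : eichlerGroup P₀) (u : F × F × V₀) :
    jU j * kS (hypExt P₀) u = kS (hypExt P₀) (j.1 u) * jU j :=
  Subtype.ext (ind_siegel (eichlerGroup_le _ j.2) u)

/-- differences span -/
theorem eq_top_of_moves (hP₀ : ∀ z, (∀ w, polar P₀ z w = 0) → z = 0)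
    (D : AddSubgroup (F × F × V₀)) (h : ∀ (j : eichlerGroup P₀) u, j.1 u - u ∈ D) : D = ⊤ := by
  have hx : ∀ t : F, ((t, 0, 0) : F × F × V₀) ∈ D := by
    intro t
    obtain ⟨z, hz⟩ := exists_ne (0 : V₀)
    obtain ⟨w, hw⟩ : ∃ w, polar P₀ z w ≠ 0 := by
      by_contra hne; push Not at hne; exact hz (hP₀ _ hne)
    have := h (kS P₀ ((-t / polar P₀ z w) • z)) (0, 0, w)
    convert this using 1
    show _ = hypSiegel P₀ _ _ - _
    rw [hypSiegel_apply]
    refine Prod.ext ?_ (Prod.ext ?_ ?_) <;> simp [polar_smul_left]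
    field_simp
  have hy : ∀ t : F, ((0, t, 0) : F × F × V₀) ∈ D := by
    intro t
    obtain ⟨z, hz⟩ := exists_ne (0 : V₀)
    obtain ⟨w, hw⟩ : ∃ w, polar P₀ z w ≠ 0 := by
      by_contra hne; push Not at hne; exact hz (hP₀ _ hne)
    have := h ⟨hypSiegel' P₀ ((-t / polar P₀ z w) • z), hypSiegel'_mem_eichler _ _⟩ (0, 0, w)
    convert this using 1
    rw [hypSiegel'_apply]
    refine Prod.ext ?_ (Prod.ext ?_ ?_) <;> simp [polar_smul_left]
    field_simp
  refine (AddSubgroup.eq_top_iff' D).2 fun u => ?_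
  have := h (kS P₀ u.2.2) (0, 1, 0)
  have h2 : ((0, 0, u.2.2) : F × F × V₀) ∈ D := by
    have := D.add_mem this (hx (P₀ u.2.2))
    convert this using 1
    show _ = (hypSiegel P₀ _ _ - _) + _
    rw [hypSiegel_apply]
    refine Prod.ext ?_ (Prod.ext ?_ ?_) <;> simp
  have e : u = (u.1, 0, 0) + (0, u.2.1, 0) + (0, 0, u.2.2) := by ext <;> simp
  rw [e]
  exact D.add_mem (D.add_mem (hx _) (hy _)) h2

theorem natCast_surjective (h : Nat.card F ≤ 3) (t : F) : ∃ n : ℕ, (n : F) = t := by
  have := Fintype.ofFinite F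
  have hp : (Nat.card F).Prime := by
    have h1 : 2 ≤ Nat.card F := Finite.one_lt_card
    interval_cases hc : Nat.card F
    · exact Nat.prime_two
    · exact Nat.prime_three
  have : Fact (Nat.card F).Prime := ⟨hp⟩
  have ht : t ∈ AddSubgroup.zmultiples (1 : F) := by
    rw [zmultiples_eq_top_of_prime_card rfl one_ne_zero]; trivial
  obtain ⟨m, hm⟩ := ht
  obtain ⟨n, hn⟩ : ∃ n : ℕ, (n : F) = (m : F) := by
    refine ⟨(m % (Nat.card F : ℤ)).toNat, ?_⟩
    have h0 : (0 : ℤ) ≤ m % (Nat.card F : ℤ) := Int.emod_nonneg _ (by exact_mod_cast hp.ne_zero)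
    rw [← Int.cast_natCast, Int.toNat_of_nonneg h0, Int.emod_def, Int.cast_sub, Int.cast_mul,
      Int.cast_natCast, Nat.card_eq_fintype_card, FiniteField.cast_card_eq_zero]
    simp
  exact ⟨n, by rw [hn, ← hm]; simp⟩

variable (hP₀ : ∀ z, (∀ w, polar P₀ z w = 0) → z = 0)
variable (D : eichlerGroup (hypExt P₀) → F × F × (F × F × V₀))
variable (hD : ∀ k l, D (k * l) = k.1 (D l) + D k)

/-- the cocycle moved by a coboundary, on the root group -/
def Dr (D : eichlerGroup (hypExt P₀) → F × F × (F × F × V₀)) (r : F × F × (F × F × V₀))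
    (u : F × F × V₀) : F × F × (F × F × V₀) :=
  D (kS (hypExt P₀) u) + hypSiegel (hypExt P₀) u r - r

include hP₀ hD

theorem cocycle_top (u : F × F × V₀) : (D (kS (hypExt P₀) u)).2.1 = 0 := by
  let b : (F × F × V₀) →+ F :=
    AddMonoidHom.mk' (fun u => (D (kS (hypExt P₀) u)).2.1) fun v w => by
      rw [kS_add, hD]
      show (hypSiegel (hypExt P₀) v _).2.1 + _ = _
      rw [hypSiegel_apply, add_comm]
  have htop := eq_top_of_moves hP₀ b.ker fun j u => by
    rw [AddMonoidHom.mem_ker, map_sub, sub_eq_zero]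
    have h := congrArg (fun k => (D k).2.1) (jU_kS j u)
    simp only [hD] at h
    change (hypInd j.1 (D (kS (hypExt P₀) u))).2.1 + _
      = (hypSiegel (hypExt P₀) (j.1 u) _).2.1 + _ at h
    rw [hypInd_apply, hypSiegel_apply] at h
    show (D (kS (hypExt P₀) (j.1 u))).2.1 = (D (kS (hypExt P₀) u)).2.1
    change (D (kS (hypExt P₀) u)).2.1 + _ = _ + (D (kS (hypExt P₀) (j.1 u))).2.1 at h
    linear_combination -h
  exact AddMonoidHom.mem_ker.1 (htop ▸ AddSubgroup.mem_top u)

theorem cocycle_mid_add (u v : F × F × V₀) :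
    (D (kS (hypExt P₀) (u + v))).2.2 =
      (D (kS (hypExt P₀) u)).2.2 + (D (kS (hypExt P₀) v)).2.2 := by
  rw [kS_add, hD]
  show (hypSiegel (hypExt P₀) u _).2.2 + _ = _
  rw [hypSiegel_apply, cocycle_top hP₀ D hD v, zero_smul, add_zero, add_comm]

theorem cocycle_fst_add (u v : F × F × V₀) :
    (D (kS (hypExt P₀) (u + v))).1 = (D (kS (hypExt P₀) u)).1 + (D (kS (hypExt P₀) v)).1
      - polar (hypExt P₀) u (D (kS (hypExt P₀) v)).2.2 := by
  rw [kS_add, hD]
  show (hypSiegel (hypExt P₀) u _).1 + _ = _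
  rw [hypSiegel_apply, cocycle_top hP₀ D hD v, mul_zero, sub_zero]
  ring

theorem cocycle_symm (u v : F × F × V₀) :
    polar (hypExt P₀) u (D (kS (hypExt P₀) v)).2.2
      = polar (hypExt P₀) v (D (kS (hypExt P₀) u)).2.2 := by
  have h1 := cocycle_fst_add hP₀ D hD u v
  rw [add_comm u v, cocycle_fst_add hP₀ D hD v u] at h1
  linear_combination h1

theorem cocycle_equivariant (j : eichlerGroup P₀) (u : F × F × V₀) :
    (D (kS (hypExt P₀) (j.1 u))).2.2
      = j.1 (D (kS (hypExt P₀) u)).2.2 - (D (jU j)).2.1 • j.1 u := by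
  have h := congrArg (fun k => (D k).2.2) (jU_kS j u)
  simp only [hD] at h
  change (hypInd j.1 (D (kS (hypExt P₀) u))).2.2 + _
      = (hypSiegel (hypExt P₀) (j.1 u) _).2.2 + _ at h
  rw [hypInd_apply, hypSiegel_apply] at h
  simp only at h
  rw [eq_sub_iff_add_eq]
  apply add_right_cancel (b := (D (jU j)).2.2)
  rw [h]; abel

/-- the two functionals at the two points of the inner plane, and the formulas they force -/
theorem cocycle_formulas :
    ∃ (p r : V₀) (μ ν : F → F),
      (∀ t, (D (kS (hypExt P₀) (t, 0, 0))).2.2 = (μ t, 0, t • p)) ∧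
      (∀ t, (D (kS (hypExt P₀) (0, t, 0))).2.2 = (0, ν t, t • r)) ∧
      (∀ v, (D (jU (kS P₀ v))).2.1 = -polar P₀ v p) ∧
      (∀ v, (D (jU ⟨hypSiegel' P₀ v, hypSiegel'_mem_eichler _ _⟩)).2.1 = -polar P₀ v r) ∧
      (∀ (t : F) (v : V₀), (D (kS (hypExt P₀) (0, 0, t • v))).2.2 =
        (t * polar P₀ v r, t * polar P₀ v p,
          (t * P₀ v) • r + μ t • v + (t * polar P₀ v r) • v)) ∧
      ∀ (t : F) (v : V₀),
        (t * P₀ v) • (r - p) + (μ t - ν t) • v + (t * polar P₀ v (r - p)) • v = 0 := by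
  set φ : (F × F × V₀) → (F × F × V₀) := fun u => (D (kS (hypExt P₀) u)).2.2 with hφ
  let J' : V₀ → eichlerGroup P₀ := fun v => ⟨hypSiegel' P₀ v, hypSiegel'_mem_eichler _ _⟩
  set β : V₀ → F := fun v => (D (jU (kS P₀ v))).2.1 with hβ
  set β' : V₀ → F := fun v => (D (jU (J' v))).2.1 with hβ'
  have eS : ∀ v u, φ (hypSiegel P₀ v u) = hypSiegel P₀ v (φ u) - β v • hypSiegel P₀ v u :=
    fun v u => cocycle_equivariant hP₀ D hD (kS P₀ v) u
  have eS' : ∀ v u, φ (hypSiegel' P₀ v u) = hypSiegel' P₀ v (φ u) - β' v • hypSiegel' P₀ v u :=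
    fun v u => cocycle_equivariant hP₀ D hD (J' v) u
  have hadd : ∀ u u', φ (u + u') = φ u + φ u' := cocycle_mid_add hP₀ D hD
  have nd : ∀ z z' : V₀, (∀ v, polar P₀ v z = polar P₀ v z') → z = z' := fun z z' h =>
    sub_eq_zero.1 (hP₀ _ fun v => by rw [polar_comm, polar_sub_right, h, sub_self])
  obtain ⟨v₀, hv₀⟩ := exists_ne (0 : V₀)
  -- the two fixed points
  have he : ∀ t, (φ (t, 0, 0)).2.1 = 0 ∧ ∀ v, polar P₀ v (φ (t, 0, 0)).2.2 = -(β v * t) := by
    intro t
    have h : ∀ v, φ (t, 0, 0) = hypSiegel P₀ v (φ (t, 0, 0)) - β v • ((t, 0, 0) : F × F × V₀) := by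
      intro v
      have := eS v (t, 0, 0)
      rwa [show hypSiegel P₀ v ((t, 0, 0) : F × F × V₀) = (t, 0, 0) by
        rw [hypSiegel_apply]; simp] at this
    have hy : (φ (t, 0, 0)).2.1 = 0 := by
      have h3 := congrArg (fun w : F × F × V₀ => w.2.2) (h v₀)
      rw [hypSiegel_apply] at h3
      simp only [Prod.snd_sub, Prod.smul_snd, smul_zero, sub_zero, left_eq_add, smul_eq_zero] at h3
      exact h3.resolve_right hv₀
    refine ⟨hy, fun v => ?_⟩
    have h1 := congrArg (fun w : F × F × V₀ => w.1) (h v)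
    rw [hypSiegel_apply] at h1
    simp only [Prod.fst_sub, Prod.smul_fst, smul_eq_mul, hy, mul_zero, sub_zero] at h1
    linear_combination h1
  have hf : ∀ t, (φ (0, t, 0)).1 = 0 ∧ ∀ v, polar P₀ v (φ (0, t, 0)).2.2 = -(β' v * t) := by
    intro t
    have h : ∀ v, φ (0, t, 0) = hypSiegel' P₀ v (φ (0, t, 0)) - β' v • ((0, t, 0) : F × F × V₀) := by
      intro v
      have := eS' v (0, t, 0)
      rwa [show hypSiegel' P₀ v ((0, t, 0) : F × F × V₀) = (0, t, 0) by
        rw [hypSiegel'_apply]; simp] at this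
    have hy : (φ (0, t, 0)).1 = 0 := by
      have h3 := congrArg (fun w : F × F × V₀ => w.2.2) (h v₀)
      rw [hypSiegel'_apply] at h3
      simp only [Prod.snd_sub, Prod.smul_snd, smul_zero, sub_zero, left_eq_add, smul_eq_zero] at h3
      exact h3.resolve_right hv₀
    refine ⟨hy, fun v => ?_⟩
    have h1 := congrArg (fun w : F × F × V₀ => w.2.1) (h v)
    rw [hypSiegel'_apply] at h1
    simp only [Prod.fst_sub, Prod.snd_sub, Prod.smul_fst, Prod.smul_snd, smul_eq_mul, hy, mul_zero,
      sub_zero] at h1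
    linear_combination h1
  set p := (φ (1, 0, 0)).2.2 with hp
  set r := (φ (0, 1, 0)).2.2 with hr
  have hβp : ∀ v, β v = -polar P₀ v p := fun v => by rw [(he 1).2 v]; ring
  have hβr : ∀ v, β' v = -polar P₀ v r := fun v => by rw [(hf 1).2 v]; ring
  set μ : F → F := fun t => (φ (t, 0, 0)).1 with hμ
  set ν : F → F := fun t => (φ (0, t, 0)).2.1 with hν
  have hpe : ∀ t, φ (t, 0, 0) = (μ t, 0, t • p) := fun t =>
    Prod.ext rfl (Prod.ext (he t).1 (nd _ _ fun v => by
      rw [(he t).2 v, polar_smul_right, hβp, smul_eq_mul]; ring))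
  have hrf : ∀ t, φ (0, t, 0) = (0, ν t, t • r) := fun t =>
    Prod.ext (hf t).1 (Prod.ext rfl (nd _ _ fun v => by
      rw [(hf t).2 v, polar_smul_right, hβr, smul_eq_mul]; ring))
  -- the image of a middle vector, twice
  have hz1 : ∀ t v, φ (0, 0, t • v) =
      (t * polar P₀ v r,
        -ν (-(P₀ v * t)) - t * polar P₀ v p - P₀ v * μ t - t * P₀ v * polar P₀ v r,
        (t * P₀ v) • r + μ t • v + (t * polar P₀ v r) • v) := by
    intro t v
    have h := eS' v (t, 0, 0)
    rw [hypSiegel'_apply, hpe, hypSiegel'_apply] at h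
    rw [show ((t, 0 - polar P₀ v (0 : V₀) - P₀ v * t, (0 : V₀) + t • v) : F × F × V₀)
      = (t, 0, 0) + (0, -(P₀ v * t), 0) + (0, 0, t • v) by ext <;> simp, hadd, hadd, hpe, hrf] at h
    rw [hβr] at h
    refine Prod.ext ?_ (Prod.ext ?_ ?_)
    · have := congrArg (fun w : F × F × V₀ => w.1) h
      simp at this ⊢
      linear_combination this
    · have := congrArg (fun w : F × F × V₀ => w.2.1) h
      simp [polar_smul_right] at this ⊢
      linear_combination this
    · have := congrArg (fun w : F × F × V₀ => w.2.2) h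
      simp only [Prod.snd_add, Prod.snd_sub, Prod.smul_snd, smul_add, smul_zero, add_zero,
        zero_add, neg_smul, Prod.snd_neg, neg_zero] at this ⊢
      rw [eq_sub_iff_add_eq, ← sub_eq_zero] at this
      rw [← sub_eq_zero]
      convert this using 1
      module
  have hz2 : ∀ t v, φ (0, 0, t • v) =
      (-μ (-(P₀ v * t)) - t * polar P₀ v r - P₀ v * ν t - t * P₀ v * polar P₀ v p,
        t * polar P₀ v p,
        (t * P₀ v) • p + ν t • v + (t * polar P₀ v p) • v) := by
    intro t v
    have h := eS v (0, t, 0)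
    rw [hypSiegel_apply, hrf, hypSiegel_apply] at h
    rw [show ((0 - polar P₀ v (0 : V₀) - P₀ v * t, t, (0 : V₀) + t • v) : F × F × V₀)
      = (-(P₀ v * t), 0, 0) + (0, t, 0) + (0, 0, t • v) by ext <;> simp, hadd, hadd, hpe, hrf] at h
    rw [hβp] at h
    refine Prod.ext ?_ (Prod.ext ?_ ?_)
    · have := congrArg (fun w : F × F × V₀ => w.1) h
      simp [polar_smul_right] at this ⊢
      linear_combination this
    · have := congrArg (fun w : F × F × V₀ => w.2.1) h
      simp at this ⊢
      linear_combination this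
    · have := congrArg (fun w : F × F × V₀ => w.2.2) h
      simp only [Prod.snd_add, Prod.snd_sub, Prod.smul_snd, smul_add, smul_zero, add_zero,
        zero_add, neg_smul, Prod.snd_neg, neg_zero] at this ⊢
      rw [eq_sub_iff_add_eq, ← sub_eq_zero] at this
      rw [← sub_eq_zero]
      convert this using 1
      module
  refine ⟨p, r, μ, ν, hpe, hrf, hβp, hβr, fun t v => ?_, fun t v => ?_⟩
  · have h1 := hz1 t v
    have h2 := hz2 t v
    refine Prod.ext (congrArg (fun w : F × F × V₀ => w.1) h1 :)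
      (Prod.ext (congrArg (fun w : F × F × V₀ => w.2.1) h2 :)
        (congrArg (fun w : F × F × V₀ => w.2.2) h1 :))
  · have h := congrArg (fun w : F × F × V₀ => w.2.2) ((hz1 t v).symm.trans (hz2 t v))
    simp only at h
    rw [← sub_eq_zero] at h
    rw [polar_sub_right]
    convert h using 1
    module

theorem cocycle_invariant (c : Fˣ) (j l : eichlerGroup P₀)
    (e : (hypScale (c * c) : (F × F × V₀) ≃ₗ[F] (F × F × V₀)) * j.1 = l.1 * hypScale (c * c)) :
    (D (jU l)).2.1 = (D (jU j)).2.1 := by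
  obtain ⟨b, hb⟩ := exists_nonsing hP₀
  let τ : eichlerGroup P₀ := ⟨hypScale (c * c), scale_sq_mem_of_nonsing hb c⟩
  have hom : ∀ j l : eichlerGroup P₀, (D (jU (j * l))).2.1 = (D (jU l)).2.1 + (D (jU j)).2.1 := by
    intro j l
    rw [jU_mul, hD]
    rfl
  have e' : τ * j = l * τ := Subtype.ext e
  have := congrArg (fun j => (D (jU j)).2.1) e'
  simp only [hom] at this
  linear_combination -this

/-- the scalar case gives a coboundary -/
theorem cocycle_scalar {σ : F} (h : ∀ u, (D (kS (hypExt P₀) u)).2.2 = σ • u) :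
    ∃ r, ∀ u, Dr D r u = 0 := by
  set a : (F × F × V₀) → F := fun u => (D (kS (hypExt P₀) u)).1 + σ * hypExt P₀ u with ha
  have hadd : ∀ u v, a (u + v) = a u + a v := by
    intro u v
    simp only [ha, cocycle_fst_add hP₀ D hD u v, h v, polar_smul_right,
      QuadraticMap.map_add (⇑(hypExt P₀)) u v, smul_eq_mul]
    ring
  have hj : ∀ (j : eichlerGroup P₀) u,
      a (j.1 u) = a u + polar (hypExt P₀) (j.1 u) (D (jU j)).2.2 := by
    intro j u
    have h1 := congrArg (fun k => (D k).1) (jU_kS j u)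
    simp only [hD] at h1
    change (hypInd j.1 (D (kS (hypExt P₀) u))).1 + _
      = (hypSiegel (hypExt P₀) (j.1 u) _).1 + _ at h1
    rw [hypInd_apply, hypSiegel_apply] at h1
    simp only at h1
    have hb : (D (jU j)).2.1 = 0 := by
      have h2 := cocycle_equivariant hP₀ D hD j
      obtain ⟨u₀, hu₀⟩ := exists_ne (0 : F × F × V₀)
      have h3 := h2 u₀
      rw [h, h, map_smul, eq_comm, sub_eq_self, smul_eq_zero] at h3
      exact h3.resolve_right fun e => hu₀ (j.1.map_eq_zero_iff.1 e)
    rw [hb, mul_zero, sub_zero] at h1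
    simp only [ha, eichlerGroup_le _ j.2 u]
    linear_combination -h1
  have hlin : ∀ (c : F) u, a (c • u) = c * a u := by
    intro c u
    let δ : (F × F × V₀) →+ F := AddMonoidHom.mk' (fun u => a (c • u) - c * a u) fun v w => by
      simp only [smul_add, hadd]; ring
    have htop := eq_top_of_moves hP₀ δ.ker fun j v => by
      rw [AddMonoidHom.mem_ker, map_sub, sub_eq_zero]
      show a (c • j.1 v) - c * a (j.1 v) = a (c • v) - c * a v
      rw [← map_smul, hj, hj, map_smul, polar_smul_left, smul_eq_mul]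
      ring
    exact sub_eq_zero.1 (AddMonoidHom.mem_ker.1 (htop ▸ AddSubgroup.mem_top u))
  let L : Module.Dual F (F × F × V₀) :=
    { toFun := a, map_add' := hadd, map_smul' := fun c u => hlin c u }
  have hB : LinearMap.BilinForm.Nondegenerate (polarBilin (hypExt P₀)) :=
    ⟨fun z hz => nondeg_hypExt hP₀ z hz, fun z hz => nondeg_hypExt hP₀ z fun w => by
      rw [polar_comm]; exact hz w⟩
  obtain ⟨ψ, hψ⟩ : ∃ ψ, ∀ u, polar (hypExt P₀) ψ u = a u := by
    refine ⟨(LinearMap.BilinForm.toDual (polarBilin (hypExt P₀)) hB).symm L, fun u => ?_⟩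
    exact LinearMap.BilinForm.apply_toDual_symm_apply (hB := hB) L u
  refine ⟨(0, -σ, ψ), fun u => ?_⟩
  rw [Dr, hypSiegel_apply]
  refine Prod.ext ?_ (Prod.ext ?_ ?_)
  · have := hψ u
    simp only [ha] at this
    simp [polar_comm (⇑(hypExt P₀)) u ψ]
    linear_combination -this
  · simp [cocycle_top hP₀ D hD u]
  · simp [h u]

omit hD in
theorem cases_three (hq : Nat.card F = 3) {C : Prop} {φ : F × F × V₀ → F × F × V₀}
    {p r : V₀} {m n : F} (h0 : p = 0 → r = 0 → C)
    (hC : ∀ σ : F, (∃ u, u ≠ 0 ∧ φ u - σ • u = 0) → Nat.card {u | φ u - σ • u = 0} ≤ 3 → C)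
    (hφ : ∀ u : F × F × V₀, φ u = (u.1 * m + polar P₀ u.2.2 r, u.2.1 * n + polar P₀ u.2.2 p,
      u.1 • p + u.2.1 • r + (P₀ u.2.2 • r + m • u.2.2 + polar P₀ u.2.2 r • u.2.2)))
    (hI : ∀ v, P₀ v • (r - p) + (m - n) • v + polar P₀ v (r - p) • v = 0)
    (hcr : ∀ v w, polar P₀ v w • r + polar P₀ v r • w + polar P₀ w r • v = 0) : C := by
  have h2 : (2 : F) ≠ 0 := by
    intro h
    have := Fintype.ofFinite F
    have hc := FiniteField.cast_card_eq_zero F
    rw [← Nat.card_eq_fintype_card, hq, show ((3 : ℕ) : F) = 2 + 1 by norm_num, h, zero_add] at hc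
    exact one_ne_zero hc
  have hX : ∀ v, P₀ v • r + polar P₀ v r • v = 0 := fun v => by
    have h1 := hcr v v
    rw [polar_self, nsmul_eq_mul, Nat.cast_two] at h1
    refine (smul_eq_zero.1 (?_ : (2 : F) • (P₀ v • r + polar P₀ v r • v) = 0)).resolve_left h2
    linear_combination (norm := module) h1
  obtain ⟨b, hb⟩ := exists_nonsing hP₀
  have hb0 : b ≠ 0 := fun h => hb (by rw [h, map_zero])
  have hk : m = n := by
    have h1 := hI b
    have h1' := hI (-b)
    rw [QuadraticMap.map_neg, polar_neg_left] at h1'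
    have h3 : (2 * (m - n)) • b = 0 := by linear_combination (norm := module) h1 - h1'
    exact sub_eq_zero.1
      ((mul_eq_zero.1 ((smul_eq_zero.1 h3).resolve_right hb0)).resolve_left h2)
  subst hk
  have hXp : ∀ v, P₀ v • p + polar P₀ v p • v = 0 := fun v => by
    have h1 := hI v
    rw [polar_sub_right] at h1
    linear_combination (norm := module) hX v - h1
  -- both twists are on every anisotropic line
  have hline : ∀ z : V₀, (∀ v, P₀ v • z + polar P₀ v z • v = 0) → ∀ v, P₀ v ≠ 0 → ∃ s : F, z = s • v := by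
    intro z hz v hv
    refine ⟨-(polar P₀ v z / P₀ v), ?_⟩
    apply smul_right_injective V₀ hv
    simp only [smul_smul]
    rw [show P₀ v * -(polar P₀ v z / P₀ v) = -polar P₀ v z by field_simp, neg_smul,
      eq_neg_iff_add_eq_zero]
    exact hz v
  by_cases hd : Module.finrank F V₀ ≤ 1
  · -- one dimension
    have hspan : ∀ v : V₀, ∃ s : F, s • b = v := fun v => exists_smul_eq_of_finrank_eq_one
      (le_antisymm hd Module.finrank_pos) hb0 v
    obtain ⟨α, rfl⟩ := hspan r
    obtain ⟨π, rfl⟩ := hspan p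
    by_cases h00 : α = 0 ∧ π = 0
    · exact h0 (by rw [h00.2, zero_smul]) (by rw [h00.1, zero_smul])
    have hker : ∀ u : F × F × V₀, φ u - m • u = 0 ↔ u.2.2 = 0 ∧ u.1 * π + u.2.1 * α = 0 := by
      intro u
      obtain ⟨x, y, z⟩ := u
      obtain ⟨s, rfl⟩ := hspan z
      rw [hφ]
      constructor
      · intro h
        simp only [Prod.smul_mk, smul_eq_mul, Prod.mk_sub_mk, Prod.mk_eq_zero, polar_smul_left,
          polar_smul_right, polar_self, nsmul_eq_mul, Nat.cast_two] at h
        obtain ⟨h1, h2', h3⟩ := h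
        have hs : s = 0 := by
          have hA : s * α = 0 := by
            have : (2 * P₀ b) * (s * α) = 0 := by linear_combination h1
            exact (mul_eq_zero.1 this).resolve_left (mul_ne_zero h2 hb)
          have hB : s * π = 0 := by
            have : (2 * P₀ b) * (s * π) = 0 := by linear_combination h2'
            exact (mul_eq_zero.1 this).resolve_left (mul_ne_zero h2 hb)
          by_contra hs
          exact h00 ⟨(mul_eq_zero.1 hA).resolve_left hs, (mul_eq_zero.1 hB).resolve_left hs⟩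
        refine ⟨by simp [hs], ?_⟩
        subst hs
        simp only [zero_smul, map_zero, zero_mul, smul_zero, add_zero, sub_zero, smul_smul,
          ← add_smul] at h3
        exact (smul_eq_zero.1 h3).resolve_right hb0
      · rintro ⟨hz, hxy⟩
        simp only at hz hxy
        simp only [hz, Prod.smul_mk, smul_eq_mul, Prod.mk_sub_mk, Prod.mk_eq_zero, map_zero,
          polar_zero_left, smul_zero, zero_smul, add_zero, sub_zero, smul_smul, ← add_smul, hxy,
          and_true, true_and, sub_eq_zero, mul_comm m, zero_smul, add_zero, zero_mul]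
    refine hC m ⟨(α, -π, 0), ?_, (hker _).2 ⟨rfl, by ring⟩⟩ ?_
    · intro h
      simp only [Prod.mk_eq_zero, neg_eq_zero] at h
      exact h00 ⟨h.1, h.2.1⟩
    · rw [← hq]
      by_cases hα : α = 0
      · refine Nat.card_le_card_of_injective (fun u => u.1.2.1) ?_
        rintro ⟨u, hu⟩ ⟨w, hw⟩ (h : u.2.1 = w.2.1)
        obtain ⟨hu1, hu2⟩ := (hker u).1 hu
        obtain ⟨hw1, hw2⟩ := (hker w).1 hw
        simp only [hα, mul_zero, add_zero] at hu2 hw2
        have hπ : π ≠ 0 := fun h => h00 ⟨hα, h⟩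
        exact Subtype.ext (Prod.ext (by rw [(mul_eq_zero.1 hu2).resolve_right hπ,
          (mul_eq_zero.1 hw2).resolve_right hπ]) (Prod.ext h (hu1.trans hw1.symm)))
      · refine Nat.card_le_card_of_injective (fun u => u.1.1) ?_
        rintro ⟨u, hu⟩ ⟨w, hw⟩ (h : u.1 = w.1)
        obtain ⟨hu1, hu2⟩ := (hker u).1 hu
        obtain ⟨hw1, hw2⟩ := (hker w).1 hw
        rw [h] at hu2
        have : u.2.1 = w.2.1 := mul_right_cancel₀ hα (by linear_combination hu2 - hw2)
        exact Subtype.ext (Prod.ext h (Prod.ext this (hu1.trans hw1.symm)))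
  · -- two independent anisotropic vectors
    have hzero : ∀ z : V₀, (∀ v, P₀ v • z + polar P₀ v z • v = 0) → z = 0 := by
      intro z hz
      obtain ⟨s, hs⟩ := hline z hz b hb
      by_contra hz0
      have hs0 : s ≠ 0 := fun h => hz0 (by rw [hs, h, zero_smul])
      -- everything anisotropic lies on the line of `b`
      have hall : ∀ v, P₀ v ≠ 0 → ∃ c : F, v = c • b := fun v hv => by
        obtain ⟨t, ht⟩ := hline z hz v hv
        have ht0 : t ≠ 0 := fun h => hz0 (by rw [ht, h, zero_smul])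
        exact ⟨t⁻¹ * s, by rw [mul_smul, ← hs, ht, smul_smul, inv_mul_cancel₀ ht0, one_smul]⟩
      -- so does every singular one
      have hall' : ∀ v : V₀, ∃ c : F, v = c • b := fun v => by
        by_cases hv : P₀ v ≠ 0
        · exact hall v hv
        · push Not at hv
          by_cases h1 : P₀ (v + b) ≠ 0
          · obtain ⟨c, hc⟩ := hall _ h1
            exact ⟨c - 1, by linear_combination (norm := module) hc⟩
          · push Not at h1
            have h1' : P₀ (v - b) ≠ 0 := by
              rw [sub_eq_add_neg, QuadraticMap.map_add (⇑P₀) v (-b), polar_neg_right,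
                QuadraticMap.map_neg, hv]
              rw [QuadraticMap.map_add (⇑P₀) v b, hv] at h1
              intro h
              exact mul_ne_zero h2 hb (by linear_combination h + h1)
            obtain ⟨c, hc⟩ := hall _ h1'
            exact ⟨c + 1, by linear_combination (norm := module) hc⟩
      exact hd (finrank_le_one b fun v => (hall' v).imp fun c hc => hc.symm)
    exact h0 (hzero p hXp) (hzero r hX)

omit hD in
theorem cases_two (hq : Nat.card F = 2) {C : Prop} {φ : F × F × V₀ → F × F × V₀}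
    {p r : V₀} {m n : F} (h0 : p = 0 → r = 0 → C)
    (hC : ∀ σ : F, (∃ u, u ≠ 0 ∧ φ u - σ • u = 0) → Nat.card {u | φ u - σ • u = 0} ≤ 4 → C)
    (hφ : ∀ u : F × F × V₀, φ u = (u.1 * m + polar P₀ u.2.2 r, u.2.1 * n + polar P₀ u.2.2 p,
      u.1 • p + u.2.1 • r + (P₀ u.2.2 • r + m • u.2.2 + polar P₀ u.2.2 r • u.2.2)))
    (hI : ∀ v, P₀ v • (r - p) + (m - n) • v + polar P₀ v (r - p) • v = 0)
    (hcr : ∀ v w, polar P₀ v w • r + polar P₀ v r • w + polar P₀ w r • v = 0)
    (hcr' : ∀ v w, polar P₀ v w • (r - p) + polar P₀ v (r - p) • w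
      + polar P₀ w (r - p) • v = 0)
    (hsym : ∀ u w, polar (hypExt P₀) u (φ w) = polar (hypExt P₀) w (φ u)) : C := by
  have hF : ∀ t : F, t = 0 ∨ t = 1 := fun t => by
    obtain ⟨k, rfl⟩ := natCast_surjective (F := F) (by omega) t
    have := Fintype.ofFinite F
    have hc := FiniteField.cast_card_eq_zero F
    rw [← Nat.card_eq_fintype_card, hq] at hc
    rw [← Nat.mod_add_div k 2, Nat.cast_add, Nat.cast_mul, hc, zero_mul, add_zero]
    rcases Nat.mod_two_eq_zero_or_one k with h | h <;> simp [h]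
  have h2 : (2 : F) = 0 := by
    have := Fintype.ofFinite F
    have hc := FiniteField.cast_card_eq_zero F
    rwa [← Nat.card_eq_fintype_card, hq, Nat.cast_two] at hc
  have hself : ∀ v, polar P₀ v v = 0 := fun v => by
    rw [polar_self, nsmul_eq_mul, Nat.cast_two, h2, zero_mul]
  -- a twist spans the plane with its partner, and has value one
  have key : ∀ z : V₀, z ≠ 0 → (∀ v w, polar P₀ v w • z + polar P₀ v z • w + polar P₀ w z • v = 0) →
      ∃ v, polar P₀ v z = 1 ∧ ∀ w, ∃ a c : F, w = a • v + c • z := by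
    intro z hz hc
    obtain ⟨v, hv⟩ : ∃ v, polar P₀ v z ≠ 0 := by
      by_contra hne; push Not at hne
      exact hz (hP₀ z fun w => by rw [polar_comm]; exact hne w)
    have hv1 := (hF _).resolve_left hv
    refine ⟨v, hv1, fun w => ⟨polar P₀ w z, polar P₀ v w, ?_⟩⟩
    have h1 := hc v w
    rw [hv1, one_smul] at h1
    have e : ∀ x : V₀, -x = x := fun x => by
      rw [neg_eq_iff_add_eq_zero, ← two_smul F, h2, zero_smul]
    calc w = -(polar P₀ v w • z + polar P₀ w z • v) := by linear_combination (norm := module) h1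
      _ = _ := by rw [e, add_comm]
  have hval : ∀ (z : V₀) (k : F), z ≠ 0 →
      (∀ v w, polar P₀ v w • z + polar P₀ v z • w + polar P₀ w z • v = 0) →
      (∀ v w, polar P₀ v (P₀ w • z + k • w + polar P₀ w z • w)
        = polar P₀ w (P₀ v • z + k • v + polar P₀ v z • v)) → P₀ z = 1 := by
    intro z k hz hc hs
    obtain ⟨v, hv, -⟩ := key z hz hc
    have h1 := hs v z
    simp only [polar_add_right, polar_smul_right, smul_eq_mul, hself, hv,
      polar_comm (⇑P₀) z v] at h1
    linear_combination h1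
  have hsr : ∀ v w, polar P₀ v (P₀ w • r + m • w + polar P₀ w r • w)
      = polar P₀ w (P₀ v • r + m • v + polar P₀ v r • v) := fun v w => by
    have h1 := hsym (0, 0, v) (0, 0, w)
    rw [polar_hypExt, polar_hypExt, hφ, hφ] at h1
    simpa using h1
  have hM : ∀ v, P₀ v • r + m • v + polar P₀ v r • v = P₀ v • p + n • v + polar P₀ v p • v :=
    fun v => by
      have h1 := hI v
      rw [polar_sub_right] at h1
      linear_combination (norm := module) h1
  have hcp : ∀ v w, polar P₀ v w • p + polar P₀ v p • w + polar P₀ w p • v = 0 := fun v w => by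
    have h1 := hcr' v w
    rw [polar_sub_right, polar_sub_right] at h1
    linear_combination (norm := module) hcr v w - h1
  by_cases hr : r = 0
  · by_cases hp : p = 0
    · exact h0 hp hr
    · subst hr
      have hk : m - n = 1 := by
        have h1 := hI p
        rw [zero_sub, polar_neg_right, hself, neg_zero, zero_smul, add_zero,
          hval p n hp hcp fun v w => by rw [← hM, ← hM]; exact hsr v w, one_smul] at h1
        have h3 : (m - n - 1) • p = 0 := by linear_combination (norm := module) h1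
        linear_combination (smul_eq_zero.1 h3).resolve_right hp
      refine hC n ⟨(0, 1, 0), by simp, by rw [hφ]; simp⟩ ?_
      have hsub : ∀ u, φ u - n • u = 0 → u.1 = 0 ∧ u.2.2 = 0 := by
        rintro ⟨x, y, z⟩ h
        rw [hφ] at h
        simp only [Prod.smul_mk, smul_eq_mul, Prod.mk_sub_mk, Prod.mk_eq_zero, polar_zero_right,
          smul_zero, zero_smul, add_zero, zero_add] at h
        have hx : x = 0 := by linear_combination h.1 - x * hk
        refine ⟨hx, ?_⟩
        have h3 := h.2.2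
        rw [hx, zero_smul, zero_add, ← sub_smul, hk, one_smul] at h3
        exact h3
      calc Nat.card {u | φ u - n • u = 0} ≤ Nat.card F := by
            refine Nat.card_le_card_of_injective (fun u => u.1.2.1) ?_
            rintro ⟨u, hu⟩ ⟨w, hw⟩ (h : u.2.1 = w.2.1)
            exact Subtype.ext (Prod.ext ((hsub u hu).1.trans (hsub w hw).1.symm)
              (Prod.ext h ((hsub u hu).2.trans (hsub w hw).2.symm)))
        _ ≤ 4 := by omega
  obtain ⟨v, hv, hspan⟩ := key r hr hcr
  have hQr : P₀ r = 1 := hval r m hr hcr hsr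
  have hperp : ∀ z, polar P₀ z r = 0 → ∃ c : F, z = c • r := fun z hz => by
    obtain ⟨a, c, rfl⟩ := hspan z
    refine ⟨c, ?_⟩
    rw [polar_add_left, polar_smul_left, polar_smul_left, hv, hself, smul_eq_mul, smul_eq_mul,
      mul_one, mul_zero, add_zero] at hz
    rw [hz, zero_smul, zero_add]
  -- the kernel sits inside a plane
  have hcard : ∀ (σ : F) (g : F → F → F),
      (∀ u, φ u - σ • u = 0 → ∃ c : F, u.2.2 = c • r ∧ u.1 = g c u.2.1) →
      Nat.card {u | φ u - σ • u = 0} ≤ 4 := by
    intro σ g hg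
    calc Nat.card {u | φ u - σ • u = 0}
        ≤ Nat.card (Set.range fun a : F × F => ((g a.1 a.2, a.2, a.1 • r) : F × F × V₀)) := by
          refine Nat.card_mono (Set.toFinite _) fun u hu => ?_
          obtain ⟨c, h1, h2'⟩ := hg u hu
          exact ⟨(c, u.2.1), by simp [← h1, ← h2']⟩
      _ ≤ Nat.card (F × F) := Finite.card_range_le _
      _ = 4 := by rw [Nat.card_prod, hq]
  by_cases hp : p = 0
  · subst hp
    have hk : m - n = 1 := by
      have h1 := hI r
      rw [sub_zero, hself, zero_smul, add_zero, hQr, one_smul] at h1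
      have h3 : (1 + (m - n)) • r = 0 := by rw [add_smul, one_smul]; exact h1
      linear_combination (smul_eq_zero.1 h3).resolve_right hr - h2
    refine hC m ⟨(1, 0, 0), by simp, by rw [hφ]; simp⟩ ?_
    have hsub : ∀ u, φ u - m • u = 0 → u.2.1 = 0 ∧ u.2.2 = 0 := by
      rintro ⟨x, y, z⟩ h
      rw [hφ] at h
      simp only [Prod.smul_mk, smul_eq_mul, Prod.mk_sub_mk, Prod.mk_eq_zero, polar_zero_right,
        smul_zero, add_zero, zero_add] at h
      obtain ⟨h1, h2', h3⟩ := h
      have hz : polar P₀ z r = 0 := by linear_combination h1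
      have hy : y = 0 := by linear_combination -h2' - y * hk
      obtain ⟨c, rfl⟩ := hperp z hz
      refine ⟨hy, ?_⟩
      rw [hy, hz, zero_smul, zero_smul, zero_add, QuadraticMap.map_smul, hQr, smul_eq_mul,
        mul_one, add_zero, add_sub_cancel_right] at h3
      rcases hF c with rfl | rfl
      · exact zero_smul F r
      · simp [hr] at h3
    calc Nat.card {u | φ u - m • u = 0} ≤ Nat.card F := by
          refine Nat.card_le_card_of_injective (fun u => u.1.1) ?_
          rintro ⟨u, hu⟩ ⟨w, hw⟩ (h : u.1 = w.1)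
          exact Subtype.ext (Prod.ext h (Prod.ext ((hsub u hu).1.trans (hsub w hw).1.symm)
            ((hsub u hu).2.trans (hsub w hw).2.symm)))
      _ ≤ 4 := by omega
  · have hpr : r = p := by
      by_contra hne
      have hne' : r - p ≠ 0 := sub_ne_zero.2 hne
      have hQp : P₀ p = 1 := hval p n hp hcp fun v w => by rw [← hM, ← hM]; exact hsr v w
      have hQd : P₀ (r - p) = 1 := by
        refine hval (r - p) (m - n) hne' hcr' fun v w => ?_
        rw [hI, hI, polar_zero_right, polar_zero_right]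
      have hk : (m - n) = -1 := by
        have h1 := hI (r - p)
        rw [hQd, hself, zero_smul, add_zero, ← add_smul] at h1
        linear_combination (smul_eq_zero.1 h1).resolve_right hne'
      rw [sub_eq_add_neg r p, QuadraticMap.map_add (⇑P₀) r (-p), QuadraticMap.map_neg,
        polar_neg_right, hQr, hQp] at hQd
      have h1 := hI r
      have hrp : polar P₀ r p = 1 := by linear_combination -hQd
      rw [hQr, hk, polar_sub_right, hself, hrp] at h1
      apply hne'
      have e : (2 : F) • r = 0 := by rw [h2, zero_smul]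
      linear_combination (norm := module) h1 + e
    subst hpr
    have hk : m = n := by
      have h1 := hI r
      rw [sub_self, smul_zero, polar_zero_right, zero_smul, add_zero, zero_add] at h1
      exact sub_eq_zero.1 ((smul_eq_zero.1 h1).resolve_right hr)
    subst hk
    refine hC m ⟨(1, 1, 0), by simp, ?_⟩ (hcard m (fun c y => -y - c * c) ?_)
    · rw [hφ]
      simp [← two_smul F, h2]
    · rintro ⟨x, y, z⟩ h
      rw [hφ] at h
      simp only [Prod.smul_mk, smul_eq_mul, Prod.mk_sub_mk, Prod.mk_eq_zero] at h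
      obtain ⟨h1, -, h3⟩ := h
      have hz : polar P₀ z r = 0 := by linear_combination h1
      obtain ⟨c, hc⟩ := hperp z hz
      refine ⟨c, hc, ?_⟩
      rw [hz, zero_smul, add_zero, hc, QuadraticMap.map_smul, hQr, smul_eq_mul, mul_one] at h3
      have h4 : (x + y + c * c) • r = 0 := by linear_combination (norm := module) h3
      linear_combination (smul_eq_zero.1 h4).resolve_right hr

theorem cocycle_cases :
    ∃ r, (∀ u, Dr D r u = 0) ∨ ((∃ u, u ≠ 0 ∧ (Dr D r u).2.2 = 0) ∧
      Nat.card {u : F × F × V₀ | (Dr D r u).2.2 = 0}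
        ≤ Nat.card F ^ (Module.finrank F (F × F × V₀) / 2)) := by
  obtain ⟨p, r, μ, ν, hpe, hrf, hβp, hβr, hzf, hI⟩ := cocycle_formulas hP₀ D hD
  set φ : (F × F × V₀) → (F × F × V₀) := fun u => (D (kS (hypExt P₀) u)).2.2 with hφ
  have hadd : ∀ u w, φ (u + w) = φ u + φ w := cocycle_mid_add hP₀ D hD
  -- no twist at the two points gives a scalar
  have hscalar : p = 0 → r = 0 → ∃ σ : F, ∀ u, φ u = σ • u := by
    intro hp hr
    obtain ⟨b, hb⟩ := exists_ne (0 : V₀)
    have hμν : ∀ t, μ t = ν t := fun t => by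
      have := hI t b
      simp only [hp, hr, sub_zero, smul_zero, polar_zero_right, mul_zero, zero_smul, add_zero,
        zero_add, smul_eq_zero, hb, or_false] at this
      exact sub_eq_zero.1 this
    have hz : ∀ t v, φ (0, 0, t • v) = (0, 0, μ t • v) := fun t v => by
      rw [hφ]; simp only [hzf t v, hp, hr]; simp
    have hμl : ∀ t, μ t = μ 1 * t := fun t => by
      have h1 := hz 1 (t • b)
      rw [one_smul, hz t b] at h1
      simp only [Prod.mk.injEq, true_and, smul_smul] at h1
      exact smul_left_injective F hb h1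
    refine ⟨μ 1, fun u => ?_⟩
    have e : u = (u.1, 0, 0) + (0, u.2.1, 0) + (0, 0, (1 : F) • u.2.2) := by ext <;> simp
    conv_lhs => rw [e]
    rw [hadd, hadd, hz]
    show (D _).2.2 + (D _).2.2 + _ = _
    rw [hpe, hrf, hp, hr, ← hμν, hμl u.1, hμl u.2.1]
    ext <;> simp
  have hsc' : p = 0 → r = 0 → ∃ r', (∀ u, Dr D r' u = 0) ∨ ((∃ u, u ≠ 0 ∧ (Dr D r' u).2.2 = 0) ∧
      Nat.card {u : F × F × V₀ | (Dr D r' u).2.2 = 0}
        ≤ Nat.card F ^ (Module.finrank F (F × F × V₀) / 2)) := fun hp hr => by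
    obtain ⟨σ, hσ⟩ := hscalar hp hr
    obtain ⟨r', hr'⟩ := cocycle_scalar hP₀ D hD hσ
    exact ⟨r', Or.inl hr'⟩
  by_cases hq4 : 4 ≤ Nat.card F
  · obtain ⟨c, hc⟩ : ∃ c : Fˣ, ((c * c : Fˣ) : F) ≠ 1 := by
      by_contra hne
      push Not at hne
      classical
      have : Fintype Fˣ := Fintype.ofFinite _
      have h1 := Polynomial.card_roots' (Polynomial.X ^ 2 - Polynomial.C (1 : F))
      rw [Polynomial.natDegree_X_pow_sub_C] at h1
      have h2 : (Finset.univ.image (Units.val : Fˣ → F)).val ⊆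
          (Polynomial.X ^ 2 - Polynomial.C (1 : F)).roots := by
        intro x hx
        obtain ⟨u, -, rfl⟩ := Finset.mem_image.1 hx
        rw [Polynomial.mem_roots (Polynomial.X_pow_sub_C_ne_zero (by norm_num) 1)]
        have := hne u
        simp only [Units.val_mul] at this
        simp [pow_two, this]
      have h3 := Multiset.card_le_card ((Multiset.le_iff_subset (Finset.nodup _)).2 h2)
      rw [← Finset.card_def, Finset.card_image_of_injective _ Units.val_injective,
        Finset.card_univ, ← Nat.card_eq_fintype_card, Nat.card_units] at h3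
      omega
    have kill : ∀ z : V₀, (∀ v, polar P₀ (((c * c : Fˣ) : F) • v) z = polar P₀ v z) → z = 0 := by
      intro z hz
      refine hP₀ z fun v => ?_
      have h1 := hz v
      rw [polar_smul_left, smul_eq_mul, ← sub_eq_zero, ← sub_one_mul] at h1
      rw [polar_comm]
      exact (mul_eq_zero.1 h1).resolve_left (sub_ne_zero.2 hc)
    refine hsc' (kill p fun v => ?_) (kill r fun v => ?_)
    · have := cocycle_invariant hP₀ D hD c (kS P₀ v) (kS P₀ (((c * c : Fˣ) : F) • v))
        (scale_siegel (c * c) v)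
      rw [hβp, hβp] at this
      exact neg_inj.1 this
    · have := cocycle_invariant hP₀ D hD c
        ⟨hypSiegel' P₀ (((c * c : Fˣ) : F) • v), hypSiegel'_mem_eichler _ _⟩
        ⟨hypSiegel' P₀ v, hypSiegel'_mem_eichler _ _⟩ (by
          refine (scale_siegel' (c * c) _).trans ?_
          congr 2
          rw [smul_smul, ← Units.val_inv_eq_inv_val, ← Units.val_mul, inv_mul_cancel, Units.val_one,
            one_smul])
      rw [hβr, hβr] at this
      exact (neg_inj.1 this).symm
  push Not at hq4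
  have hsurj := natCast_surjective (F := F) (by omega)
  have hlin : ∀ (t : F) u, φ (t • u) = t • φ u := by
    intro t u
    obtain ⟨n, rfl⟩ := hsurj t
    rw [Nat.cast_smul_eq_nsmul, Nat.cast_smul_eq_nsmul]
    exact map_nsmul (AddMonoidHom.mk' φ hadd) n u
  have hμl : ∀ t, μ t = t * μ 1 := fun t => by
    have h1 := hlin t (1, 0, 0)
    simp only [hφ, Prod.smul_mk, smul_eq_mul, mul_one, mul_zero, smul_zero, hpe,
      Prod.mk.injEq] at h1
    exact h1.1
  have hνl : ∀ t, ν t = t * ν 1 := fun t => by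
    have h1 := hlin t (0, 1, 0)
    simp only [hφ, Prod.smul_mk, smul_eq_mul, mul_one, mul_zero, smul_zero, hrf,
      Prod.mk.injEq] at h1
    exact h1.2.1
  have hz : ∀ v, φ (0, 0, v) = (polar P₀ v r, polar P₀ v p,
      P₀ v • r + μ 1 • v + polar P₀ v r • v) := fun v => by
    have h1 := hzf 1 v
    rw [one_smul] at h1
    simpa [hφ] using h1
  have hφu : ∀ u : F × F × V₀, φ u = (u.1 * μ 1 + polar P₀ u.2.2 r,
      u.2.1 * ν 1 + polar P₀ u.2.2 p,
      u.1 • p + u.2.1 • r + (P₀ u.2.2 • r + μ 1 • u.2.2 + polar P₀ u.2.2 r • u.2.2)) := fun u => by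
    have e : u = (u.1, 0, 0) + (0, u.2.1, 0) + (0, 0, u.2.2) := by ext <;> simp
    conv_lhs => rw [e]
    rw [hadd, hadd, hz]
    show (D _).2.2 + (D _).2.2 + _ = _
    rw [hpe, hrf, hμl, hνl]
    ext <;> simp
  have hI1 : ∀ v, P₀ v • (r - p) + (μ 1 - ν 1) • v + polar P₀ v (r - p) • v = 0 := fun v => by
    simpa using hI 1 v
  -- the middle part after moving by a scalar
  have hmid : ∀ σ u, (Dr D ((0 : F), -σ, (0 : F × F × V₀)) u).2.2 = φ u - σ • u := fun σ u => by
    rw [Dr, hypSiegel_apply]
    simp [hφ, sub_eq_add_neg]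
  -- the cross term
  have hcr : ∀ v w, polar P₀ v w • r + polar P₀ v r • w + polar P₀ w r • v = 0 := fun v w => by
    have h1 := congrArg (fun u : F × F × V₀ => u.2.2) (hadd (0, 0, v) (0, 0, w))
    simp only [Prod.mk_add_mk, add_zero, hz, QuadraticMap.map_add (⇑P₀) v w,
      polar_add_left] at h1
    rw [← sub_eq_zero] at h1
    rw [← h1]; module
  have hcr' : ∀ v w, polar P₀ v w • (r - p) + polar P₀ v (r - p) • w
      + polar P₀ w (r - p) • v = 0 := fun v w => by
    have h1 := hI1 (v + w)
    rw [QuadraticMap.map_add (⇑P₀) v w, polar_add_left] at h1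
    linear_combination (norm := module) h1 - hI1 v - hI1 w
  have hd : Module.finrank F (F × F × V₀) = 2 + Module.finrank F V₀ := by
    simp only [Module.finrank_prod, Module.finrank_self]; omega
  have hd0 : 0 < Module.finrank F V₀ := Module.finrank_pos
  rcases (by have := Finite.one_lt_card (α := F); omega : Nat.card F = 2 ∨ Nat.card F = 3)
    with hq | hq
  · have hd2 : 2 ≤ Module.finrank F V₀ := by
      by_contra hlt
      have := Fintype.ofFinite F
      have h2 := FiniteField.cast_card_eq_zero F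
      rw [← Nat.card_eq_fintype_card, hq, Nat.cast_two] at h2
      obtain ⟨b, hb⟩ := exists_ne (0 : V₀)
      refine hb (hP₀ b fun w => ?_)
      obtain ⟨c, rfl⟩ := exists_smul_eq_of_finrank_eq_one (by omega : Module.finrank F V₀ = 1) hb w
      rw [polar_smul_right, polar_self, nsmul_eq_mul, Nat.cast_two, h2, zero_mul, smul_zero]
    refine cases_two hP₀ hq hsc' (fun σ hex hc => ⟨((0 : F), -σ, (0 : F × F × V₀)), Or.inr ?_⟩)
      hφu hI1 hcr hcr' (fun u w => cocycle_symm hP₀ D hD u w)
    simp only [hmid]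
    refine ⟨hex, hc.trans ?_⟩
    rw [hq]
    exact Nat.pow_le_pow_right (n := 2) (by norm_num) (j := _)
      (show 2 ≤ Module.finrank F (F × F × V₀) / 2 by omega)
  · refine cases_three hP₀ hq hsc' (fun σ hex hc => ⟨((0 : F), -σ, (0 : F × F × V₀)), Or.inr ?_⟩)
      hφu hI1 hcr
    simp only [hmid]
    refine ⟨hex, hc.trans ?_⟩
    rw [hq]
    exact Nat.le_self_pow (by omega) 3

end Cfsg.Agent.Lib.MinIndexOrth
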