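import Cfsg.Agent.Lib.MinIndexOrth.Link

/-!
Minimal indices in the orthogonal groups of the standard forms.
-/

set_option autoImplicit false
set_option linter.unusedSectionVars false

namespace Cfsg.Agent.Lib.MinIndexOrth

open QuadraticMap
open Cfsg.Agent.Lib.Classical Cfsg.Agent.Lib.MinDegree.Orth

variable {F : Type*} [Field F] [Fintype F]

theorem minIndex_odd (hodd : Odd (Nat.card F)) (h5 : 5 ≤ Nat.card F) (k : ℕ) :
    (∀ H : Subgroup (Cfsg.POmega F (Cfsg.quadFormOdd (k + 3) F)), H ≠ ⊤ →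
        (Nat.card F ^ (2 * (k + 3)) - 1) / (Nat.card F - 1) ≤ H.index) ∧
      ∃ H : Subgroup (Cfsg.POmega F (Cfsg.quadFormOdd (k + 3) F)),
        H.index = (Nat.card F ^ (2 * (k + 3)) - 1) / (Nat.card F - 1) := by
  have h2 : (2 : F) ≠ 0 := two_ne_zero_of_odd_card (by rwa [← Nat.card_eq_fintype_card])
  obtain ⟨r, hr⟩ : ∃ r, Nat.card F = r + 1 := ⟨Nat.card F - 1, by omega⟩
  obtain ⟨T, hT⟩ := exists_geom r (2 * (k + 3))
  rw [← hr] at hT
  have hr' : Nat.card F - 1 = r := by omega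
  have hdiv : (Nat.card F ^ (2 * (k + 3)) - 1) / (Nat.card F - 1) = T := by
    rw [← hT, add_tsub_cancel_right, hr', Nat.mul_div_cancel_left _ (by omega)]
  rw [hdiv, ← coe_oddQuadForm]
  refine ⟨index_ge_of_smallTrivial (B := oddBase F) (oddModel k) (oddBase_nondeg h2)
      (smallTrivial_odd hodd h5 k T (by rw [hr']; exact hT)),
    exists_index_point (B := oddBase F) (oddModel k) (oddBase_nondeg h2) ?_⟩
  rw [cnt_odd_zero, hr', ← hT]
  ring

theorem minIndex_odd_three (hq : Nat.card F = 3) (k : ℕ) :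
    (∀ H : Subgroup (Cfsg.POmega F (Cfsg.quadFormOdd (k + 3) F)), H ≠ ⊤ →
        3 ^ (k + 3) * (3 ^ (k + 3) - 1) / 2 ≤ H.index) ∧
      ∃ H : Subgroup (Cfsg.POmega F (Cfsg.quadFormOdd (k + 3) F)),
        H.index = 3 ^ (k + 3) * (3 ^ (k + 3) - 1) / 2 := by
  have h2 : (2 : F) ≠ 0 := two_ne_zero_of_odd_card (by rw [← Nat.card_eq_fintype_card, hq]; decide)
  obtain ⟨K, hK⟩ : ∃ K, 2 * K + 1 = 3 ^ (k + 3) := exists_geom 2 (k + 3)
  have hpos : 1 ≤ K := by
    have : 3 ^ 1 ≤ 3 ^ (k + 3) := Nat.pow_le_pow_right (by norm_num) (by omega)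
    omega
  have hdiv : 3 ^ (k + 3) * (3 ^ (k + 3) - 1) / 2 = 3 ^ (k + 3) * K := by
    rw [← hK, add_tsub_cancel_right, mul_left_comm, Nat.mul_div_cancel_left _ (by norm_num)]
  have hT : 2 * (3 ^ (k + 3) * K) + 3 ^ (k + 3) = 3 ^ (2 * (k + 3)) :=
    calc 2 * (3 ^ (k + 3) * K) + 3 ^ (k + 3) = 3 ^ (k + 3) * (2 * K + 1) := by ring
      _ = 3 ^ (k + 3) * 3 ^ (k + 3) := by rw [hK]
      _ = _ := by ring
  have hsq : ∀ μ : F, μ ≠ 0 → μ * μ = 1 := fun μ hμ => by
    have := FiniteField.pow_card_sub_one_eq_one μ hμ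
    rwa [← Nat.card_eq_fintype_card, hq, show (3 : ℕ) - 1 = 2 from rfl, _root_.sq] at this
  have hcnt : ∀ t, cnt (tw (oddBase F) t).form (-1) + 3 ^ t = 3 ^ (2 * t) := by
    intro t
    induction t with
    | zero =>
      have h0 : cnt (tw (oddBase F) 0).form (-1) = 0 := by
        show Nat.card {z : F // QuadraticMap.sq (R := F) (A := F) z = -1} = 0
        haveI : IsEmpty {z : F // QuadraticMap.sq (R := F) (A := F) z = -1} := ⟨fun z => by
          have hz : z.1 * z.1 = -1 := by simpa [QuadraticMap.sq] using z.2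
          rcases eq_or_ne z.1 0 with h | h
          · rw [h, mul_zero] at hz
            exact one_ne_zero (neg_eq_zero.1 hz.symm)
          · rw [hsq _ h] at hz
            exact h2 (by linear_combination hz)⟩
        exact Nat.card_of_isEmpty
      rw [h0]
      rfl
    | succ t ih =>
      rw [cnt_tw_succ', natCard_tw, oddBase_card, hq]
      linear_combination 3 * ih
  rw [hdiv, ← coe_oddQuadForm]
  refine ⟨index_ge_of_smallTrivial (B := oddBase F) (oddModel k) (oddBase_nondeg h2)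
      (smallTrivial_odd_three hq k _ hT),
    exists_index_level (B := oddBase F) (oddModel k) (oddBase_nondeg h2) (c := -1) (neg_ne_zero.2 one_ne_zero)
      (fun μ hμ => by rw [hsq μ hμ, one_mul]) (Nat.mul_pos (Nat.pow_pos (by norm_num)) hpos) ?_⟩
  rw [hq]
  have h := hcnt (k + 3)
  omega

theorem minIndex_plus (h4 : 4 ≤ Nat.card F) (s : ℕ) :
    (∀ H : Subgroup (Cfsg.POmega F (Cfsg.quadFormPlus (s + 1 + 3) F)), H ≠ ⊤ →
        (Nat.card F ^ (s + 4) - 1) * (Nat.card F ^ (s + 3) + 1) / (Nat.card F - 1) ≤ H.index) ∧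
      ∃ H : Subgroup (Cfsg.POmega F (Cfsg.quadFormPlus (s + 1 + 3) F)),
        H.index = (Nat.card F ^ (s + 4) - 1) * (Nat.card F ^ (s + 3) + 1) / (Nat.card F - 1) := by
  obtain ⟨r, hr⟩ : ∃ r, Nat.card F = r + 1 := ⟨Nat.card F - 1, by omega⟩
  have hr' : Nat.card F - 1 = r := by omega
  obtain ⟨K, hK⟩ := exists_geom r (s + 4)
  have hdiv : (Nat.card F ^ (s + 4) - 1) * (Nat.card F ^ (s + 3) + 1) / (Nat.card F - 1)
      = K * (Nat.card F ^ (s + 3) + 1) := by
    rw [hr', show Nat.card F ^ (s + 4) - 1 = r * K by rw [hr, ← hK, add_tsub_cancel_right], mul_assoc,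
      Nat.mul_div_cancel_left _ (by omega)]
  rw [hdiv, ← coe_plusForm]
  set T := K * (Nat.card F ^ (s + 3) + 1) with hTd
  have hT : (Nat.card F - 1) * T + 1 + Nat.card F ^ (s + 3)
      = Nat.card F ^ (2 * s + 7) + Nat.card F ^ (s + 4) := by
    rw [hTd, hr', hr]
    linear_combination ((r + 1) ^ (s + 3) + 1) * hK
  refine ⟨index_ge_of_smallTrivial (B := plusBase F) (plusModel (s + 1)) plusBase_nondeg
      (smallTrivial_plus h4 s T hT),
    exists_index_point (B := plusBase F) (plusModel (s + 1)) plusBase_nondeg ?_⟩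
  have h := cnt_plus_zero (F := F) (s + 1 + 3)
  refine Nat.eq_of_mul_eq_mul_left (show 0 < Nat.card F by omega)
    (Nat.add_right_cancel (m := Nat.card F ^ (s + 1 + 3)) ?_)
  rw [h]
  rw [hr'] at hT ⊢
  rw [hr] at hT ⊢
  linear_combination (r + 1) * hT

theorem minIndex_plus_two (hq : Nat.card F = 2) (s : ℕ) :
    (∀ H : Subgroup (Cfsg.POmega F (Cfsg.quadFormPlus (s + 1 + 3) F)), H ≠ ⊤ →
        2 ^ (s + 3) * (2 ^ (s + 4) - 1) ≤ H.index) ∧
      ∃ H : Subgroup (Cfsg.POmega F (Cfsg.quadFormPlus (s + 1 + 3) F)),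
        H.index = 2 ^ (s + 3) * (2 ^ (s + 4) - 1) := by
  rw [← coe_plusForm]
  set T := 2 ^ (s + 3) * (2 ^ (s + 4) - 1) with hTd
  have h1 : 2 ≤ 2 ^ (s + 4) := Nat.le_self_pow (by omega) 2
  have hT : T + 2 ^ (s + 3) = 2 ^ (2 * s + 7) := by
    rw [hTd, ← Nat.mul_succ, Nat.succ_eq_add_one, Nat.sub_add_cancel (by omega)]
    ring
  refine ⟨index_ge_of_smallTrivial (B := plusBase F) (plusModel (s + 1)) plusBase_nondeg
      (smallTrivial_plus_two hq s T hT),
    exists_index_level (B := plusBase F) (plusModel (s + 1)) plusBase_nondeg one_ne_zero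
      (fun μ hμ => by
        have := FiniteField.pow_card_sub_one_eq_one μ hμ
        rw [← Nat.card_eq_fintype_card, hq, show (2 : ℕ) - 1 = 1 from rfl, pow_one] at this
        rw [this, mul_one, mul_one])
      (Nat.mul_pos (Nat.pow_pos (by norm_num)) (by omega)) ?_⟩
  have h := cnt_plus_ne (F := F) one_ne_zero (s + 1 + 3)
  rw [hq] at h ⊢
  have e : 2 ^ (s + 1 + 3) = 2 * 2 ^ (s + 3) := by ring
  have e2 : 2 ^ (2 * (s + 1 + 3)) = 2 * 2 ^ (2 * s + 7) := by ring
  omega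

theorem minIndex_minus {a b : F} (hab : BinAniso a b) (k : ℕ) :
    (∀ H : Subgroup (Cfsg.POmega F (Cfsg.quadFormMinus (k + 3) F a b)), H ≠ ⊤ →
        (Nat.card F ^ (k + 4) + 1) * (Nat.card F ^ (k + 3) - 1) / (Nat.card F - 1) ≤ H.index) ∧
      ∃ H : Subgroup (Cfsg.POmega F (Cfsg.quadFormMinus (k + 3) F a b)),
        H.index = (Nat.card F ^ (k + 4) + 1) * (Nat.card F ^ (k + 3) - 1) / (Nat.card F - 1) := by
  have hq : 2 ≤ Nat.card F := Finite.one_lt_card
  obtain ⟨r, hr⟩ : ∃ r, Nat.card F = r + 1 := ⟨Nat.card F - 1, by omega⟩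
  have hr' : Nat.card F - 1 = r := by omega
  obtain ⟨K, hK⟩ := exists_geom r (k + 3)
  have hdiv : (Nat.card F ^ (k + 4) + 1) * (Nat.card F ^ (k + 3) - 1) / (Nat.card F - 1)
      = (Nat.card F ^ (k + 4) + 1) * K := by
    rw [hr', show Nat.card F ^ (k + 3) - 1 = r * K by rw [hr, ← hK, add_tsub_cancel_right], mul_left_comm,
      Nat.mul_div_cancel_left _ (by omega)]
  rw [hdiv, ← coe_minusForm]
  set T := (Nat.card F ^ (k + 4) + 1) * K with hTd
  have hT : (Nat.card F - 1) * T + 1 + Nat.card F ^ (k + 4)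
      = Nat.card F ^ (2 * k + 7) + Nat.card F ^ (k + 3) := by
    rw [hTd, hr', hr]
    linear_combination ((r + 1) ^ (k + 4) + 1) * hK
  have hnd : ∀ z, (∀ w, polar (minusBase a b).form z w = 0) → z = 0 := nondeg_binQ hab
  refine ⟨index_ge_of_smallTrivial (B := minusBase a b) (minusModel k a b) hnd
      (smallTrivial_minus hab k T hT),
    exists_index_point (B := minusBase a b) (minusModel k a b) hnd ?_⟩
  have h := cnt_minus_zero hab (k + 3)
  refine Nat.eq_of_mul_eq_mul_left (show 0 < Nat.card F by omega)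
    (Nat.add_right_cancel (m := Nat.card F ^ (k + 3 + 2)) ?_)
  rw [h]
  rw [hr'] at hT ⊢
  rw [hr] at hT ⊢
  linear_combination (r + 1) * hT

end Cfsg.Agent.Lib.MinIndexOrth
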