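import Cfsg.Agent.Lib.MinIndexOrth.FourLow

/-!
Dimension four: a singular point outside a stabiliser of order `q³` cuts it in a totally isotropic
plane, so such a stabiliser is totally singular.
-/

set_option autoImplicit false
set_option linter.unusedSectionVars false

namespace Cfsg.Agent.Lib.MinIndexOrth

open QuadraticMap
open Cfsg.Agent.Lib.Classical Cfsg.Agent.Lib.MinDegree.Orth

variable {F : Type*} [Field F] [Finite F]

section general

variable {U : Type*} [AddCommGroup U] [Module F U] [Finite U] {P : QuadraticForm F U}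
variable {X : Type*} [MulAction (Grp P) X]

theorem zline_shift (x : X) : zline P ((shift P)⁻¹ • x) = zline P x := by
  ext t
  show rad P (t, 0, 0) • ((shift P)⁻¹ • x) = (shift P)⁻¹ • x ↔ rad P (t, 0, 0) • x = x
  rw [eq_inv_smul_iff, smul_smul, smul_smul, shift_conj]
  have h0 : ((P 0, 0, -0) : F × F × U) = 0 := by simp
  have h00 : ((0, 0, 0) : F × F × U) = 0 := rfl
  rw [h0, h00, tel, rad_zero, mul_one, mul_one, mul_inv_cancel, mul_one]

end general

variable {V₀ : Type*} [AddCommGroup V₀] [Module F V₀] [Finite V₀] [Nontrivial V₀]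
variable {P₀ : QuadraticForm F V₀}
variable {X : Type*} [Finite X] [MulAction (Grp (hypExt P₀)) X]

/-- at a point without root elements the projection is a totally isotropic plane -/
theorem proj_plane (hP₀ : ∀ z, (∀ w, polar P₀ z w = 0) → z = 0)
    (hd : Module.finrank F V₀ = 2)
    (hall : ∀ z : X, Nat.card F ^ 3 ≤ Nat.card (fixer (hypExt P₀) z))
    (x : X) (hz : zline (hypExt P₀) x = ⊥) :
    Nat.card (fixer (hypExt P₀) x) = Nat.card F ^ 3 ∧
    Nat.card (proj (hypExt P₀) x) = Nat.card F ^ 2 ∧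
    (∀ c ∈ proj (hypExt P₀) x, ∀ γ : F, γ • c ∈ proj (hypExt P₀) x) ∧
    ∀ c ∈ proj (hypExt P₀) x, ∀ c' ∈ proj (hypExt P₀) x, polar (hypExt P₀) c c' = 0 := by
  classical
  have := Fintype.ofFinite F
  have hnd := nondeg_hypExt hP₀
  set q := Nat.card F with hq
  have hq1 : 1 < q := Finite.one_lt_card
  have hfU : Module.finrank F (F × F × V₀) = 4 := by
    simp only [Module.finrank_prod, Module.finrank_self, hd]
  set P₁ : Set (F × F × V₀) := (proj (hypExt P₀) x : Set (F × F × V₀)) with hP1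
  set P₂ : Set (F × F × V₀) :=
    (proj (hypExt P₀) ((sig (hypExt P₀))⁻¹ • x) : Set (F × F × V₀)) with hP2
  set P₃ : Set (F × F × V₀) :=
    (proj (hypExt P₀) ((shift (hypExt P₀))⁻¹ • x) : Set (F × F × V₀)) with hP3
  obtain ⟨h21, h31, h32⟩ := orth_of_zline_bot hz
  have big : ∀ y : X, zline (hypExt P₀) y = ⊥ → q ^ 2 ≤ Nat.card (proj (hypExt P₀) y) ∧
      2 ≤ Module.finrank F (Submodule.span F (proj (hypExt P₀) y : Set (F × F × V₀))) := by
    intro y hy
    have h1 := card_proj_mul (P := hypExt P₀) y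
    rw [hy, AddSubgroup.card_bot, one_mul] at h1
    have h2 : q * q ^ 2 ≤ q * Nat.card (proj (hypExt P₀) y) :=
      le_trans (by rw [← pow_succ']; exact hall y) h1
    have h3 := Nat.le_of_mul_le_mul_left h2 (by omega)
    refine ⟨h3, ?_⟩
    have h4 := h3.trans ((Nat.card_coe_set_eq _).trans_le (card_le_pow_span (F := F) _))
    exact (Nat.pow_le_pow_iff_right hq1).1 h4
  obtain ⟨b1, f1⟩ := big x hz
  obtain ⟨-, f2⟩ := big _ (by rw [zline_sig, hz])
  obtain ⟨-, f3⟩ := big _ (by rw [zline_shift, hz])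
  rw [← hP1] at f1; rw [← hP2] at f2; rw [← hP3] at f3
  -- the second and third span the same plane
  have hT := finrank_add_le_of_orth hnd (S := P₁) (T := P₂ ∪ P₃) fun s hs t ht => by
    rw [polar_comm]
    rcases ht with ht | ht
    · exact h21 t ht s hs
    · exact h31 t ht s hs
  rw [hfU] at hT
  have e3 : Submodule.span F P₃ = Submodule.span F (P₂ ∪ P₃) :=
    Submodule.eq_of_le_of_finrank_le (Submodule.span_mono Set.subset_union_right) (by omega)
  have hsub : ∀ m ∈ P₂, m ∈ Submodule.span F P₃ := fun m hm =>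
    e3 ▸ Submodule.subset_span (Or.inl hm)
  have h22 : ∀ m ∈ P₂, ∀ m' ∈ P₂, polar (hypExt P₀) m m' = 0 := fun m hm m' hm' =>
    Submodule.span_induction (p := fun u _ => polar (hypExt P₀) u m' = 0)
      (fun c hc => h32 c hc m' hm') (polar_zero_left _ _)
      (fun a b _ _ ha hb => by rw [polar_add_left, ha, hb, add_zero])
      (fun r a _ ha => by rw [polar_smul_left, ha, smul_zero]) (hsub m hm)
  -- so does the first
  have hT' := finrank_add_le_of_orth hnd (S := P₂) (T := P₁ ∪ P₂) fun s hs t ht => by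
    rcases ht with ht | ht
    · exact h21 s hs t ht
    · exact h22 s hs t ht
  rw [hfU] at hT'
  have e1 : Submodule.span F P₂ = Submodule.span F (P₁ ∪ P₂) :=
    Submodule.eq_of_le_of_finrank_le (Submodule.span_mono Set.subset_union_right) (by omega)
  have h11 : ∀ m ∈ P₁, ∀ m' ∈ P₁, polar (hypExt P₀) m m' = 0 := fun m hm m' hm' => by
    have hm2 : m ∈ Submodule.span F P₂ := e1 ▸ Submodule.subset_span (Or.inl hm)
    exact Submodule.span_induction (p := fun u _ => polar (hypExt P₀) u m' = 0)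
      (fun c hc => h21 c hc m' hm') (polar_zero_left _ _)
      (fun a b _ _ ha hb => by rw [polar_add_left, ha, hb, add_zero])
      (fun r a _ ha => by rw [polar_smul_left, ha, smul_zero]) hm2
  have f1' : Module.finrank F (Submodule.span F P₁) = 2 := by
    have := Submodule.finrank_mono (Submodule.span_mono (R := F) (Set.subset_union_left (s := P₁) (t := P₂)))
    omega
  have hc1 : ((Submodule.span F P₁ : Submodule F (F × F × V₀)) : Set (F × F × V₀)).ncard = q ^ 2 := by
    rw [← f1', ← Nat.card_coe_set_eq]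
    exact Module.natCard_eq_pow_finrank
  have heq : P₁ = (Submodule.span F P₁ : Submodule F (F × F × V₀)) :=
    Set.eq_of_subset_of_ncard_le Submodule.subset_span (by
      rw [hc1, ← Nat.card_coe_set_eq]; exact b1) (Set.toFinite _)
  have hcard : Nat.card (proj (hypExt P₀) x) = q ^ 2 := by
    rw [show Nat.card (proj (hypExt P₀) x) = P₁.ncard from Nat.card_coe_set_eq _, heq, hc1]
  refine ⟨le_antisymm ?_ (hall x), hcard, fun c hc γ => ?_, h11⟩
  · have h1 := card_proj_mul (P := hypExt P₀) x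
    rw [hz, AddSubgroup.card_bot, one_mul, hcard, ← hq, ← pow_succ'] at h1
    exact h1
  · show γ • c ∈ P₁
    rw [heq]
    exact Submodule.smul_mem _ γ (Submodule.subset_span hc)

/-- a singular point outside the stabiliser -/
theorem good_line (hP₀ : ∀ z, (∀ w, polar P₀ z w = 0) → z = 0)
    (hd : Module.finrank F V₀ = 2)
    (hall : ∀ z : X, Nat.card F ^ 3 ≤ Nat.card (fixer (hypExt P₀) z))
    (x : X) {b : F × F × (F × F × V₀)} (hb0 : b ≠ 0) (hb : hypExt (hypExt P₀) b = 0)
    (hgood : coords (hypExt P₀) x b = ⊥) :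
    (∀ u ∈ fixer (hypExt P₀) x, ∀ v ∈ fixer (hypExt P₀) x, polar (hypExt (hypExt P₀)) b u = 0 →
      polar (hypExt (hypExt P₀)) b v = 0 → polar (hypExt (hypExt P₀)) u v = 0) ∧
    ∀ u ∈ fixer (hypExt P₀) x, polar (hypExt (hypExt P₀)) b u = 0 → ∀ γ : F,
      ∃ β : F, β • b + γ • u ∈ fixer (hypExt P₀) x := by
  have := Fintype.ofFinite F
  obtain ⟨k, hk, hkb⟩ := eichler_move_singular (iso_hypExt hP₀) b hb0 hb
  set x' := (ind (hypExt P₀) ⟨k, hk⟩)⁻¹ • x with hx'
  have hz : zline (hypExt P₀) x' = ⊥ := by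
    rw [hx', ← coords_eq_zline (k := ⟨k, hk⟩) hkb, hgood]
  obtain ⟨-, -, hsm, horth⟩ := proj_plane hP₀ hd hall x' hz
  have hmem : ∀ w, w ∈ fixer (hypExt P₀) x' ↔ k w ∈ fixer (hypExt P₀) x := fun w => by
    rw [← fixer_acts (acts_ind (P := hypExt P₀) ⟨k, hk⟩) x' w, hx', smul_inv_smul]
  have hform : ∀ u ∈ fixer (hypExt P₀) x, polar (hypExt (hypExt P₀)) b u = 0 →
      ∃ a c, u = k (a, 0, c) ∧ ((a, 0, c) : F × F × (F × F × V₀)) ∈ fixer (hypExt P₀) x' := by
    intro u hu hbu
    set w := k.symm u with hw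
    have hkw : k w = u := k.apply_symm_apply u
    have hy : w.2.1 = 0 := by
      have := isometry_polar (eichlerGroup_le _ hk) ((1, 0, 0) : F × F × (F × F × V₀)) w
      rw [hkb, hkw, hbu, polar_hypExt (Q := hypExt P₀)] at this
      simpa using this.symm
    have e : ((w.1, 0, w.2.2) : F × F × (F × F × V₀)) = w := Prod.ext rfl (Prod.ext hy.symm rfl)
    exact ⟨w.1, w.2.2, by rw [e, hkw], by rw [e, hmem, hkw]; exact hu⟩
  refine ⟨fun u hu v hv hbu hbv => ?_, fun u hu hbu γ => ?_⟩
  · obtain ⟨a, c, rfl, hc⟩ := hform u hu hbu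
    obtain ⟨a', c', rfl, hc'⟩ := hform v hv hbv
    rw [isometry_polar (eichlerGroup_le _ hk), polar_hypExt (Q := hypExt P₀)]
    simp [horth c ⟨a, hc⟩ c' ⟨a', hc'⟩]
  · obtain ⟨a, c, rfl, hc⟩ := hform u hu hbu
    obtain ⟨a', ha'⟩ := hsm c ⟨a, hc⟩ γ
    refine ⟨a' - γ * a, ?_⟩
    rw [← hkb, ← map_smul, ← map_smul, ← map_add]
    have h1 := (hmem _).1 ha'
    convert h1 using 2
    refine Prod.ext ?_ (Prod.ext ?_ ?_) <;> simp

/-- a set with more vectors than the multiples in the stabiliser contains a point outside -/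
theorem exists_good (x : X) (T : Set (F × F × (F × F × V₀))) (h0 : ∀ b ∈ T, b ≠ 0)
    (hT : (Nat.card F - 1) * (Nat.card (fixer (hypExt P₀) x) - 1) < T.ncard) :
    ∃ b ∈ T, coords (hypExt P₀) x b = ⊥ := by
  classical
  have := Fintype.ofFinite F
  by_contra hne
  push Not at hne
  have h1 : ∀ b : T, ∃ β : Fˣ, (β : F) • b.1 ∈ fixer (hypExt P₀) x := fun b => by
    by_contra hβ
    push Not at hβ
    refine hne b.1 b.2 ((AddSubgroup.eq_bot_iff_forall _).2 fun β hm => ?_)
    by_contra hβ0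
    exact hβ (Units.mk0 β hβ0) hm
  choose β hβ using h1
  let f : T → Fˣ × {a : fixer (hypExt P₀) x // a ≠ 0} := fun b =>
    (β b, ⟨⟨_, hβ b⟩, fun e => h0 b.1 b.2
      ((smul_eq_zero.1 (congrArg Subtype.val e :)).resolve_left (β b).ne_zero)⟩)
  have hf : Function.Injective f := fun b b' e => by
    have e1 := congrArg Prod.fst e
    have e2 := congrArg (fun s : Fˣ × {a : fixer (hypExt P₀) x // a ≠ 0} =>
      (s.2.1 : F × F × (F × F × V₀))) e
    simp only [f] at e1 e2
    rw [e1] at e2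
    exact Subtype.ext (smul_right_injective _ (β b').ne_zero e2)
  have h2 := Nat.card_le_card_of_injective f hf
  have := Fintype.ofFinite (fixer (hypExt P₀) x)
  rw [Nat.card_prod, Nat.card_units, Nat.card_coe_set_eq,
    show Nat.card {a : fixer (hypExt P₀) x // a ≠ 0} = Nat.card (fixer (hypExt P₀) x) - 1 by
      rw [Nat.card_eq_fintype_card, Fintype.card_subtype_compl, Fintype.card_subtype_eq,
        ← Nat.card_eq_fintype_card]] at h2
  omega

/-- singular vectors orthogonal to a non-singular one -/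
theorem orth_singular_count (hP₀ : ∀ z, (∀ w, polar P₀ z w = 0) → z = 0)
    (hd : Module.finrank F V₀ = 2) {v : F × F × (F × F × V₀)}
    (hv : hypExt (hypExt P₀) v ≠ 0) :
    (Nat.card F - 1) * (Nat.card F ^ 3 + 1) ≤
      ({w : F × F × (F × F × V₀) | w ≠ 0 ∧ hypExt (hypExt P₀) w = 0 ∧
        polar (hypExt (hypExt P₀)) v w = 0}).ncard := by
  classical
  have := Fintype.ofFinite F
  obtain ⟨k, hk, hkv⟩ := eichler_move (iso_hypExt hP₀) v fun h => hv (by rw [h, map_zero])
  set c := hypExt (hypExt P₀) v with hc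
  set T := {w : F × F × (F × F × V₀) | hypExt (hypExt P₀) w = 0 ∧
    polar (hypExt (hypExt P₀)) v w = 0} with hT
  have hsum : ∑ a : F, cnt (hypExt P₀) (c * (a * a)) ≤ T.ncard := by
    let f : (Σ a : F, {z : F × F × V₀ // hypExt P₀ z = c * (a * a)}) → T := fun s =>
      ⟨k (s.1, -(c * s.1), s.2.1), by
        refine ⟨?_, ?_⟩
        · rw [eichlerGroup_le _ hk, hypExt_apply (Q := hypExt P₀), s.2.2]; ring
        · rw [← hkv, isometry_polar (eichlerGroup_le _ hk), polar_hypExt (Q := hypExt P₀)]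
          simp
          ring⟩
    have hf : Function.Injective f := by
      rintro ⟨a, z, hz⟩ ⟨a', z', hz'⟩ e
      have e' := k.injective (congrArg Subtype.val e)
      simp only [Prod.mk.injEq] at e'
      obtain ⟨rfl, -, rfl⟩ := e'
      rfl
    have h := Nat.card_le_card_of_injective f hf
    rwa [Nat.card_sigma, Nat.card_coe_set_eq] at h
  have h0 : T.ncard ≤ ({w : F × F × (F × F × V₀) | w ≠ 0 ∧ hypExt (hypExt P₀) w = 0 ∧
      polar (hypExt (hypExt P₀)) v w = 0}).ncard + 1 := by
    refine le_trans (Set.ncard_le_ncard ?_ (Set.toFinite _)) (Set.ncard_insert_le 0 _)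
    intro w hw
    by_cases h : w = 0
    · exact Or.inl h
    · exact Or.inr ⟨h, hw⟩
  have hlow : (Nat.card F - 1) * Nat.card F ^ 2 + Nat.card F
      + (Nat.card F - 1) * ((Nat.card F - 1) * Nat.card F ^ 2) ≤
      ∑ a : F, cnt (hypExt P₀) (c * (a * a)) := by
    rw [← Finset.add_sum_erase Finset.univ _ (Finset.mem_univ (0 : F)), mul_zero, mul_zero]
    refine Nat.add_le_add (cnt_U_zero_ge hd) ?_
    refine le_trans (le_of_eq ?_) (Finset.card_nsmul_le_sum _ _ ((Nat.card F - 1) * Nat.card F ^ 2)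
      fun a _ => ?_)
    · rw [Finset.card_erase_of_mem (Finset.mem_univ _), Finset.card_univ, smul_eq_mul,
        ← Nat.card_eq_fintype_card]
    · rw [(cnt_four hd _).1]
      exact Nat.le_add_right _ _
  obtain ⟨r, hr⟩ : ∃ r, Nat.card F = r + 1 := ⟨Nat.card F - 1, by
    have := Finite.one_lt_card (α := F); omega⟩
  rw [hr, add_tsub_cancel_right] at hlow ⊢
  have e : r * (r + 1) ^ 2 + (r + 1) + r * (r * (r + 1) ^ 2) = r * ((r + 1) ^ 3 + 1) + 1 := by ring
  omega

/-- the images of a stabiliser of order `q³` are few -/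
theorem images_le_four (hd : Module.finrank F V₀ = 2) (hX : Nat.card X < fourBound (Nat.card F))
    {x : X} (hx : Nat.card (fixer (hypExt P₀) x) = Nat.card F ^ 3) :
    (images (hypExt P₀) (fixer (hypExt P₀) x)).ncard * Nat.card F ^ 3 ≤ Nat.card X ∧
    (images (hypExt P₀) (fixer (hypExt P₀) x)).ncard
      ≤ Nat.card F ^ 3 + Nat.card F ^ 2 + Nat.card F + 2 := by
  obtain ⟨-, -, hW⟩ := four_cards (F := F) (V₀ := V₀) hd
  set q := Nat.card F with hq
  have hq2 : 2 ≤ q := Finite.one_lt_card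
  have h1 := images_mul_le (P := hypExt P₀) x
  have hidx : (fixer (hypExt P₀) x).index = q ^ 3 := by
    have := (fixer (hypExt P₀) x).card_mul_index
    rw [hx, hW, show q ^ 6 = q ^ 3 * q ^ 3 by ring] at this
    exact Nat.eq_of_mul_eq_mul_left (pow_pos (by omega) _) this
  rw [hidx] at h1
  refine ⟨h1, ?_⟩
  by_contra hlt
  push Not at hlt
  have h2 : (q ^ 3 + q ^ 2 + q + 3) * q ^ 3 ≤ Nat.card X :=
    le_trans (Nat.mul_le_mul_right (q ^ 3) (by omega)) h1
  have h3 : fourBound q ≤ (q ^ 3 + q ^ 2 + q + 3) * q ^ 3 := by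
    have e : (q ^ 3 + q ^ 2 + q + 3) * q ^ 3 = q ^ 6 + q ^ 5 + q ^ 4 + 3 * q ^ 3 := by ring
    have h4 : q ^ 2 + q + 1 ≤ q ^ 3 := by
      have e1 : q ^ 3 = q * q * q := by ring
      have e2 : q ^ 2 = q * q := by ring
      have : q * q * 2 ≤ q * q * q := Nat.mul_le_mul_left _ hq2
      have : 2 * q ≤ q * q := Nat.mul_le_mul_right _ hq2
      omega
    unfold fourBound
    omega
  omega

/-- all non-zero vectors in even characteristic -/
theorem nonsingular_ncard_ge (hd : Module.finrank F V₀ = 2) :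
    (Nat.card F - 1) * ((Nat.card F - 1) * (Nat.card F ^ 4 + Nat.card F ^ 3)) ≤
      ({w : F × F × (F × F × V₀) | hypExt (hypExt P₀) w ≠ 0}).ncard := by
  classical
  have := Fintype.ofFinite F
  let f : (Σ μ : Fˣ, {w : F × F × (F × F × V₀) // hypExt (hypExt P₀) w = μ}) →
      {w : F × F × (F × F × V₀) | hypExt (hypExt P₀) w ≠ 0} :=
    fun s => ⟨s.2.1, by show _ ≠ 0; rw [s.2.2]; exact s.1.ne_zero⟩
  have hf : Function.Injective f := by
    rintro ⟨μ, w, hw⟩ ⟨μ', w', hw'⟩ e
    obtain rfl : w = w' := congrArg Subtype.val e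
    obtain rfl : μ = μ' := Units.ext (hw.symm.trans hw')
    rfl
  have h := Nat.card_le_card_of_injective f hf
  rw [Nat.card_sigma, Nat.card_coe_set_eq] at h
  refine le_trans ?_ h
  refine le_trans (le_of_eq ?_) (Finset.card_nsmul_le_sum _ _
    ((Nat.card F - 1) * (Nat.card F ^ 4 + Nat.card F ^ 3)) fun μ _ => level_four hd _)
  rw [Finset.card_univ, smul_eq_mul, ← Nat.card_eq_fintype_card, Nat.card_units]

/-- the non-singular vectors of the images cover all -/
theorem nonsingular_le_images (hP₀ : ∀ z, (∀ w, polar P₀ z w = 0) → z = 0) (h2 : (2 : F) = 0)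
    (A : AddSubgroup (F × F × (F × F × V₀))) {v : F × F × (F × F × V₀)} (hv : v ∈ A)
    (hQv : hypExt (hypExt P₀) v ≠ 0) :
    ({w : F × F × (F × F × V₀) | hypExt (hypExt P₀) w ≠ 0}).ncard ≤
      (images (hypExt P₀) A).ncard *
        ({w : F × F × (F × F × V₀) | w ∈ A ∧ hypExt (hypExt P₀) w ≠ 0}).ncard := by
  classical
  have := Fintype.ofFinite F
  have hnd := nondeg_hypExt hP₀
  refine card_le_images_mul (hypExt P₀) A _
    (fun A' => {w | w ∈ A' ∧ hypExt (hypExt P₀) w ≠ 0}) _ ?_ ?_
  · rintro A' ⟨K, hK, rfl⟩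
    refine le_trans (Set.ncard_le_ncard ?_ (Set.toFinite _))
      (Set.ncard_image_le (f := fun w => K w) (Set.toFinite _))
    intro w hw
    refine ⟨K⁻¹ w, ⟨mem_img.1 hw.1, ?_⟩, K.apply_symm_apply w⟩
    intro h0
    have := (mover_singular_iff hK hnd (K⁻¹ w)).2 h0
    rw [show K (K⁻¹ w) = w from K.apply_symm_apply w] at this
    exact hw.2 this
  · intro w hw
    have hchar : ringChar F = 2 := by
      haveI : CharP F 2 := CharTwo.of_one_ne_zero_of_two_eq_zero one_ne_zero h2
      exact ringChar.eq F 2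
    obtain ⟨μ, hμ⟩ := FiniteField.isSquare_of_char_two hchar
      (hypExt (hypExt P₀) w / hypExt (hypExt P₀) v)
    have hμ0 : μ ≠ 0 := fun h0 => by
      rw [h0, mul_zero, div_eq_zero_iff] at hμ
      exact hμ.elim hw hQv
    obtain ⟨K, hK, e⟩ := exists_mover_level (iso_hypExt hP₀) (v := v) (w := w)
      (fun h => hQv (by rw [h, map_zero])) (fun h => hw (by rw [h, map_zero])) hμ0
      (by rw [← hμ, div_mul_cancel₀ _ hQv])
    exact ⟨img K A, ⟨K, hK, rfl⟩, mem_img.2 (e ▸ hv), hw⟩

/-- with a vector of non-zero value, multiples of singular elements stay inside -/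
theorem smul_mem_of_singular (hP₀ : ∀ z, (∀ w, polar P₀ z w = 0) → z = 0)
    (hd : Module.finrank F V₀ = 2)
    (hall : ∀ z : X, Nat.card F ^ 3 ≤ Nat.card (fixer (hypExt P₀) z))
    (hX : Nat.card X < fourBound (Nat.card F)) (h2 : (2 : F) = 0)
    (x : X) (hx : Nat.card (fixer (hypExt P₀) x) = Nat.card F ^ 3)
    {v : F × F × (F × F × V₀)} (hv : v ∈ fixer (hypExt P₀) x)
    (hQv : hypExt (hypExt P₀) v ≠ 0)
    {u : F × F × (F × F × V₀)} (hu : u ∈ fixer (hypExt P₀) x)
    (hQu : hypExt (hypExt P₀) u = 0) (γ : F) : γ • u ∈ fixer (hypExt P₀) x := by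
  classical
  have := Fintype.ofFinite F
  by_contra hγ
  set q := Nat.card F with hq
  have hu0 : u ≠ 0 := fun h => hγ (by rw [h, smul_zero]; exact zero_mem _)
  have hq2 : 2 ≤ q := Finite.one_lt_card
  have hγ0 : γ ≠ 0 := fun h => hγ (by rw [h, zero_smul]; exact zero_mem _)
  have hq4 : 4 ≤ q := by
    by_contra hlt
    rcases (by omega : q = 2 ∨ q = 3) with h' | h'
    · have h4 := FiniteField.pow_card_sub_one_eq_one γ hγ0
      rw [← Nat.card_eq_fintype_card, ← hq, h'] at h4
      norm_num at h4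
      exact hγ (by rw [h4, one_smul]; exact hu)
    · have hc := FiniteField.cast_card_eq_zero F
      rw [← Nat.card_eq_fintype_card, ← hq, h', show ((3 : ℕ) : F) = 2 + 1 by norm_num, h2,
        zero_add] at hc
      exact one_ne_zero hc
  obtain ⟨k, hk, hku⟩ := eichler_move_singular (iso_hypExt hP₀) u hu0 hQu
  set x' := (ind (hypExt P₀) ⟨k, hk⟩)⁻¹ • x with hx'
  set A := fixer (hypExt P₀) x' with hA
  have hmem : ∀ w, w ∈ A ↔ k w ∈ fixer (hypExt P₀) x := fun w => by
    rw [hA, ← fixer_acts (acts_ind (P := hypExt P₀) ⟨k, hk⟩) x' w, hx', smul_inv_smul]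
  have hA3 : Nat.card A = q ^ 3 := by
    rw [hA, ← card_fixer_ind x' ⟨k, hk⟩, hx', smul_inv_smul, hx]
  have he : ((1, 0, 0) : F × F × (F × F × V₀)) ∈ A := (hmem _).2 (hku ▸ hu)
  set Z := zline (hypExt P₀) x' with hZdef
  have hZmem : ∀ t : F, t ∈ Z ↔ ((t, 0, 0) : F × F × (F × F × V₀)) ∈ A := fun t => Iff.rfl
  have hZtop : Z ≠ ⊤ := by
    intro htop
    have h1 : ((γ, 0, 0) : F × F × (F × F × V₀)) ∈ A := (hZmem γ).1 (htop ▸ AddSubgroup.mem_top γ)
    rw [hmem] at h1
    refine hγ ?_
    rw [← hku, ← map_smul]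
    simpa using h1
  have hZ2 : 2 * Nat.card Z ≤ q := by
    have h1 := Z.card_mul_index
    have h3 : Z.index ≠ 1 := fun h => hZtop (AddSubgroup.index_eq_one.1 h)
    have h4 : Z.index ≠ 0 := AddSubgroup.index_ne_zero_of_finite
    have h5 : Nat.card Z * 2 ≤ Nat.card Z * Z.index := Nat.mul_le_mul_left _ (by omega)
    rw [hq]
    omega
  set v' := k.symm v with hv'
  have hv'A : v' ∈ A := (hmem _).2 (by rw [hv', LinearEquiv.apply_symm_apply]; exact hv)
  have hQv' : hypExt (hypExt P₀) v' ≠ 0 := by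
    rw [← eichlerGroup_le _ hk v', hv', LinearEquiv.apply_symm_apply]; exact hQv
  -- singular elements along each line through the point
  set β := {c : F × F × V₀ // c ≠ 0 ∧ hypExt P₀ c = 0} with hβdef
  let L : β → Type _ := fun c =>
    {w : F × F × (F × F × V₀) // w ∈ A ∧ w.2.1 = 0 ∧ ∃ t : F, t ≠ 0 ∧ w.2.2 = t • c.1}
  have hline : ∀ c : β, q ≤ 2 * Nat.card (L c) := by
    intro c
    by_cases hbad : ∀ a : F, ∃ t : F, t ≠ 0 ∧ t • ((a, 0, c.1) : F × F × (F × F × V₀)) ∈ A
    · choose t ht htA using hbad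
      have : q ≤ Nat.card (L c) := by
        refine Nat.card_le_card_of_injective (fun a : F =>
          (⟨t a • ((a, 0, c.1) : F × F × (F × F × V₀)), htA a, by simp, t a, ht a, by simp⟩ : L c)) ?_
        intro a a' e
        have e' := congrArg Subtype.val e
        simp only [Prod.smul_mk, smul_eq_mul, Prod.mk.injEq, mul_zero, true_and] at e'
        obtain ⟨e1, e3⟩ := e'
        have e4 : t a = t a' := smul_left_injective F c.2.1 e3
        rw [e4] at e1
        exact mul_left_cancel₀ (ht a') e1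
      omega
    · push Not at hbad
      obtain ⟨a, ha⟩ := hbad
      set b : F × F × (F × F × V₀) := (a, 0, c.1) with hb
      have hgood : coords (hypExt P₀) x' b = ⊥ := (AddSubgroup.eq_bot_iff_forall _).2 fun t ht => by
        by_contra ht0
        exact ha t ht0 ht
      have hb0 : b ≠ 0 := fun h => c.2.1 (congrArg (fun w : F × F × (F × F × V₀) => w.2.2) h)
      have hbs : hypExt (hypExt P₀) b = 0 := by
        rw [hb, hypExt_apply (Q := hypExt P₀), c.2.2]; simp
      obtain ⟨-, hln⟩ := good_line hP₀ hd hall x' hb0 hbs hgood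
      have hbe : polar (hypExt (hypExt P₀)) b ((1, 0, 0) : F × F × (F × F × V₀)) = 0 := by
        rw [hb, polar_hypExt (Q := hypExt P₀)]; simp
      choose t ht using fun g => hln _ he hbe g
      let S := {g : F // g ∉ Z}
      have hS : Nat.card S = q - Nat.card Z := by
        rw [Nat.card_eq_fintype_card, Fintype.card_subtype_compl, hq, Nat.card_eq_fintype_card,
          Nat.card_eq_fintype_card]
      have h1 : Nat.card S ≤ Nat.card (L c) := by
        refine Nat.card_le_card_of_injective (fun g : S =>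
          (⟨t g.1 • b + g.1 • ((1, 0, 0) : F × F × (F × F × V₀)), ht g.1, by simp [hb], t g.1,
            fun h0 => g.2 (by
              have := ht g.1
              rw [h0, zero_smul, zero_add] at this
              rw [hZmem]
              simpa using this), by simp [hb]⟩ : L c)) ?_
        intro g g' e
        have e' := congrArg Subtype.val e
        simp only [hb, Prod.smul_mk, smul_eq_mul, Prod.mk_add_mk, Prod.mk.injEq, mul_zero, mul_one,
          smul_zero, add_zero, true_and] at e'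
        obtain ⟨e1, e3⟩ := e'
        have e4 : t g.1 = t g'.1 := smul_left_injective F c.2.1 e3
        rw [e4] at e1
        exact Subtype.ext (add_left_cancel e1)
      omega
  set M := {w : F × F × (F × F × V₀) | w ∈ A ∧ hypExt (hypExt P₀) w = 0 ∧ w.2.2 ≠ 0} with hM
  have hM1 : (cnt (hypExt P₀) 0 - 1) * q ≤ 2 * ((q - 1) * M.ncard) := by
    have := Fintype.ofFinite β
    have hcard : Nat.card β = cnt (hypExt P₀) 0 - 1 := by
      rw [show Nat.card β = ({v | hypExt P₀ v = 0} \ {0} : Set (F × F × V₀)).ncard from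
        Nat.card_congr (Equiv.subtypeEquivRight fun v => and_comm),
        Set.ncard_diff_singleton_of_mem (by simp)]
      rfl
    let f : (Σ c : β, L c) → Fˣ × M := fun s =>
      (Units.mk0 s.2.2.2.2.choose s.2.2.2.2.choose_spec.1,
        ⟨s.2.1, s.2.2.1, by
          rw [hypExt_apply (Q := hypExt P₀), s.2.2.2.1, s.2.2.2.2.choose_spec.2, QuadraticMap.map_smul,
            s.1.2.2]
          simp, by
          rw [s.2.2.2.2.choose_spec.2]
          exact smul_ne_zero s.2.2.2.2.choose_spec.1 s.1.2.1⟩)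
    have hf : Function.Injective f := by
      rintro ⟨c, w, hw⟩ ⟨c', w', hw'⟩ e
      have e1 : hw.2.2.choose = hw'.2.2.choose := congrArg (fun s : Fˣ × M => (s.1 : F)) e
      have e2 : w = w' := congrArg (fun s : Fˣ × M => (s.2 : F × F × (F × F × V₀))) e
      subst e2
      obtain rfl : c = c' := Subtype.ext (smul_right_injective _ hw.2.2.choose_spec.1
        (hw.2.2.choose_spec.2.symm.trans (by
          show w.2.2 = hw.2.2.choose • c'.1
          rw [e1]; exact hw'.2.2.choose_spec.2)))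
      rfl
    have h1 := Nat.card_le_card_of_injective f hf
    rw [Nat.card_sigma, Nat.card_prod, Nat.card_units, Nat.card_coe_set_eq, ← hq] at h1
    calc (cnt (hypExt P₀) 0 - 1) * q = ∑ _c : β, q := by
          rw [Finset.sum_const, smul_eq_mul, Finset.card_univ, ← Nat.card_eq_fintype_card, hcard]
      _ ≤ ∑ c : β, 2 * Nat.card (L c) := Finset.sum_le_sum fun c _ => hline c
      _ ≤ _ := by rw [← Finset.mul_sum]; exact Nat.mul_le_mul_left 2 h1
  -- the three kinds of elements
  set N := {w : F × F × (F × F × V₀) | w ∈ A ∧ hypExt (hypExt P₀) w ≠ 0} with hN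
  have htot : M.ncard + N.ncard + 2 ≤ q ^ 3 := by
    have hd1 : Disjoint M N := Set.disjoint_left.2 fun w h h' => h'.2 h.2.1
    have hd2 : Disjoint (M ∪ N) ({0, ((1, 0, 0) : F × F × (F × F × V₀))} : Set _) := by
      rw [Set.disjoint_left]
      rintro w (h | h) (rfl | rfl)
      · exact h.2.2 rfl
      · exact h.2.2 rfl
      · exact h.2 (map_zero _)
      · exact h.2 (by simp [hypExt_apply])
    have h2' : ({0, ((1, 0, 0) : F × F × (F × F × V₀))} : Set _).ncard = 2 :=
      Set.ncard_pair (fun h => zero_ne_one (congrArg Prod.fst h))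
    have hsub : M ∪ N ∪ {0, ((1, 0, 0) : F × F × (F × F × V₀))} ⊆ (A : Set _) := by
      rintro w ((h | h) | (rfl | rfl))
      · exact h.1
      · exact h.1
      · exact zero_mem _
      · exact he
    have h1 := Set.ncard_le_ncard hsub (Set.toFinite _)
    rw [Set.ncard_union_eq hd2 (Set.toFinite _) (Set.toFinite _),
      Set.ncard_union_eq hd1 (Set.toFinite _) (Set.toFinite _), h2',
      ← Nat.card_coe_set_eq] at h1
    exact h1.trans hA3.le
  have hN1 : (q - 1) * ((q - 1) * (q ^ 4 + q ^ 3)) ≤ (q ^ 3 + q ^ 2 + q + 2) * N.ncard :=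
    (nonsingular_ncard_ge (P₀ := P₀) hd).trans ((nonsingular_le_images hP₀ h2 A hv'A hQv').trans
      (Nat.mul_le_mul_right _ (images_le_four hd hX hA3).2))
  have hU0 := cnt_U_zero_ge (P₀ := P₀) hd
  rw [← hq] at hU0
  obtain ⟨r, hr⟩ : ∃ r, q = r + 1 := ⟨q - 1, by omega⟩
  rw [hr] at hM1 htot hN1 hU0 hq4
  simp only [add_tsub_cancel_right] at hM1 hN1 hU0
  have h5 : r * ((r + 1) ^ 2 + 1) ≤ cnt (hypExt P₀) 0 - 1 := by
    rw [Nat.mul_add, mul_one]; omega
  have h6 : ((r + 1) ^ 2 + 1) * (r + 1) ≤ 2 * M.ncard := by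
    refine Nat.le_of_mul_le_mul_left ?_ (by omega : 0 < r)
    calc r * (((r + 1) ^ 2 + 1) * (r + 1)) = r * ((r + 1) ^ 2 + 1) * (r + 1) := by ring
      _ ≤ _ := (Nat.mul_le_mul_right _ h5).trans hM1
      _ = _ := by ring
  have h7 : 2 * N.ncard + 4 ≤ (r + 1) * (r * (r + 2)) := by
    have e : 2 * (r + 1) ^ 3 = ((r + 1) ^ 2 + 1) * (r + 1) + (r + 1) * (r * (r + 2)) := by ring
    omega
  have h8 : (r + 1) ^ 3 + (r + 1) ^ 2 + (r + 1) + 2 ≤ 2 * r * (r + 1) ^ 2 := by
    obtain ⟨j, rfl⟩ : ∃ j, r = j + 3 := ⟨r - 3, by omega⟩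
    ring_nf
    nlinarith [Nat.zero_le j]
  have h9 : 2 * (r * (r * ((r + 1) ^ 4 + (r + 1) ^ 3))) + 4 * ((r + 1) ^ 3 + (r + 1) ^ 2 + (r + 1) + 2)
      ≤ 2 * r * (r + 1) ^ 2 * ((r + 1) * (r * (r + 2))) :=
    calc _ ≤ ((r + 1) ^ 3 + (r + 1) ^ 2 + (r + 1) + 2) * (2 * N.ncard + 4) := by
          rw [Nat.mul_add ((r + 1) ^ 3 + (r + 1) ^ 2 + (r + 1) + 2)]
          refine Nat.add_le_add ?_ (mul_comm 4 ((r + 1) ^ 3 + (r + 1) ^ 2 + (r + 1) + 2)).le
          calc _ ≤ 2 * (((r + 1) ^ 3 + (r + 1) ^ 2 + (r + 1) + 2) * N.ncard) :=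
                Nat.mul_le_mul_left _ hN1
            _ = _ := by ring
      _ ≤ _ := Nat.mul_le_mul h8 h7
  have e : 2 * (r * (r * ((r + 1) ^ 4 + (r + 1) ^ 3)))
      = 2 * r * (r + 1) ^ 2 * ((r + 1) * (r * (r + 2))) := by ring
  omega

/-- a stabiliser of order `q³` is totally singular -/
theorem all_singular_four (hP₀ : ∀ z, (∀ w, polar P₀ z w = 0) → z = 0)
    (hd : Module.finrank F V₀ = 2)
    (hall : ∀ z : X, Nat.card F ^ 3 ≤ Nat.card (fixer (hypExt P₀) z))
    (hX : Nat.card X < fourBound (Nat.card F))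
    (x : X) (hx : Nat.card (fixer (hypExt P₀) x) = Nat.card F ^ 3)
    {v : F × F × (F × F × V₀)} (hv : v ∈ fixer (hypExt P₀) x) :
    hypExt (hypExt P₀) v = 0 := by
  classical
  have := Fintype.ofFinite F
  by_contra hQv
  set q := Nat.card F with hq
  set A := fixer (hypExt P₀) x with hA
  have hq2 : 2 ≤ q := Finite.one_lt_card
  have hnd := nondeg_hypExt (nondeg_hypExt hP₀)
  -- a point outside, orthogonal to `v`
  obtain ⟨b, ⟨hb0, hbs, hvb⟩, hgood⟩ := exists_good x
    {w | w ≠ 0 ∧ hypExt (hypExt P₀) w = 0 ∧ polar (hypExt (hypExt P₀)) v w = 0}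
    (fun b hb => hb.1) (by
      rw [← hA, hx]
      refine lt_of_lt_of_le ?_ (orth_singular_count hP₀ hd hQv)
      rw [← hq]
      exact Nat.mul_lt_mul_of_pos_left (by omega) (by omega))
  have hbv : polar (hypExt (hypExt P₀)) b v = 0 := by rw [polar_comm]; exact hvb
  have hvv := (good_line hP₀ hd hall x hb0 hbs hgood).1 v hv v hv hbv hbv
  rw [polar_self, nsmul_eq_mul, Nat.cast_ofNat] at hvv
  have h2 : (2 : F) = 0 := (mul_eq_zero.1 hvv).resolve_right hQv
  have hclosed : ∀ u ∈ A, hypExt (hypExt P₀) u = 0 → ∀ γ : F, γ • u ∈ A :=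
    fun u hu hQu γ => smul_mem_of_singular hP₀ hd hall hX h2 x hx hv hQv hu hQu γ
  -- the stabiliser is totally isotropic
  have hti : ∀ u ∈ A, ∀ w ∈ A, polar (hypExt (hypExt P₀)) u w = 0 := by
    intro u hu w hw
    by_contra huw
    set B : F := polar (hypExt (hypExt P₀)) u w with hB
    have hself : ∀ z : F × F × (F × F × V₀), polar (hypExt (hypExt P₀)) z z = 0 := fun z => by
      rw [polar_self, nsmul_eq_mul, Nat.cast_ofNat, h2, zero_mul]
    have hnd2 : (polarBilin (hypExt (hypExt P₀))).Nondegenerate :=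
      ⟨fun z hz => hnd z hz, fun z hz => hnd z fun w => by rw [polar_comm]; exact hz w⟩
    set S := Submodule.span F ({u, w} : Set (F × F × (F × F × V₀))) with hS
    set N := LinearMap.BilinForm.orthogonal (polarBilin (hypExt (hypExt P₀))) S with hN
    have hfS : Module.finrank F S = 2 := by
      have hind : LinearIndependent F ![u, w] := by
        rw [LinearIndependent.pair_iff]
        intro s t hst
        have h1 := congrArg (polar (hypExt (hypExt P₀)) u) hst
        have h3 := congrArg (polar (hypExt (hypExt P₀)) w) hst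
        simp only [polar_add_right, polar_smul_right, hself, smul_eq_mul, polar_zero_right, mul_zero,
          zero_add, add_zero, polar_comm (⇑(hypExt (hypExt P₀))) w u] at h1 h3
        exact ⟨(mul_eq_zero.1 h3).resolve_right huw, (mul_eq_zero.1 h1).resolve_right huw⟩
      have h1 := finrank_span_eq_card hind
      rw [Matrix.range_cons_cons_empty, Fintype.card_fin] at h1
      exact h1
    have hmemN : ∀ z, z ∈ N ↔ polar (hypExt (hypExt P₀)) u z = 0 ∧ polar (hypExt (hypExt P₀)) w z = 0 := by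
      intro z
      constructor
      · intro h
        exact ⟨h u (Submodule.subset_span (by simp)), h w (Submodule.subset_span (by simp))⟩
      · rintro ⟨h1, h3⟩ n hn
        show polar (hypExt (hypExt P₀)) n z = 0
        refine Submodule.span_induction (p := fun n _ => polar (hypExt (hypExt P₀)) n z = 0)
          (fun m hm => ?_) (polar_zero_left _ _)
          (fun a b _ _ ha hb => by rw [polar_add_left, ha, hb, add_zero])
          (fun r a _ ha => by rw [polar_smul_left, ha, smul_zero]) hn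
        rcases hm with rfl | rfl
        exacts [h1, h3]
    have hfN : Module.finrank F N = 2 * 2 := by
      rw [hN, LinearMap.BilinForm.finrank_orthogonal hnd2, hfS]
      simp only [Module.finrank_prod, Module.finrank_self, hd]
    set R := (hypExt (hypExt P₀)).comp N.subtype with hR
    have hRnd : (polarBilin R).Nondegenerate := by
      have key : ∀ z : N, (∀ z' : N, polar R z z' = 0) → z = 0 := by
        intro z hz
        have hrefl : LinearMap.BilinForm.IsRefl (polarBilin (hypExt (hypExt P₀))) := fun a b h => by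
          rw [polarBilin_apply_apply, polar_comm]; exact h
        have hzS : z.1 ∈ S := by
          rw [← LinearMap.BilinForm.orthogonal_orthogonal hnd2 hrefl S]
          intro n hn
          show polar (hypExt (hypExt P₀)) n z.1 = 0
          rw [polar_comm]
          have := hz ⟨n, hn⟩
          simpa [hR, polar] using this
        obtain ⟨s, t, hst⟩ := Submodule.mem_span_pair.1 hzS
        obtain ⟨h1, h3⟩ := (hmemN z.1).1 z.2
        rw [← hst] at h1 h3
        simp only [polar_add_right, polar_smul_right, hself, smul_eq_mul, mul_zero,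
          zero_add, add_zero, polar_comm (⇑(hypExt (hypExt P₀))) w u] at h1 h3
        rw [(mul_eq_zero.1 h1).resolve_right huw, (mul_eq_zero.1 h3).resolve_right huw] at hst
        exact Subtype.ext (by simpa using hst.symm)
      exact ⟨fun z hz => key z hz, fun z hz => key z fun w => by rw [polar_comm]; exact hz w⟩
    have hval := OrthPrime.card_value_zero hfN hRnd
    set n := Nat.card {z : N // R z = 0} with hn
    have hn1 : q ^ 3 + q ≤ n + q ^ 2 := by
      rcases OrthPrime.qsgn_cases R with hs | hs <;> rw [hs] at hval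
      · have : (q : ℤ) * n ≥ q * (q ^ 3 + q - q ^ 2 : ℤ) := by
          rw [hq, hn, hval]
          have h2' : (0 : ℤ) ≤ (Nat.card F : ℤ) - 1 := by
            have : (2 : ℤ) ≤ (Nat.card F : ℤ) := by exact_mod_cast hq2
            linarith
          have h3 : (0 : ℤ) ≤ 2 * (((Nat.card F : ℤ) - 1) * ((Nat.card F : ℤ) * (Nat.card F : ℤ))) := by
            positivity
          have e : (Nat.card F : ℤ) ^ (2 * 2) + 1 * (((Nat.card F : ℤ) - 1) * (Nat.card F : ℤ) ^ 2)
              = (Nat.card F : ℤ) * ((Nat.card F : ℤ) ^ 3 + (Nat.card F : ℤ) - (Nat.card F : ℤ) ^ 2)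
                + 2 * (((Nat.card F : ℤ) - 1) * ((Nat.card F : ℤ) * (Nat.card F : ℤ))) := by ring
          rw [e]
          exact le_add_of_nonneg_right h3
        have h4 := le_of_mul_le_mul_left this (by exact_mod_cast (show 0 < q by omega))
        zify
        linarith
      · have : (q : ℤ) * n = q * (q ^ 3 + q - q ^ 2 : ℤ) := by
          rw [hq, hn, hval]; ring
        have h4 := mul_left_cancel₀ (by exact_mod_cast (show q ≠ 0 by omega)) this
        zify
        linarith
    -- every singular vector there is inside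
    have hbad : ∀ z : N, R z = 0 → z.1 ∈ A := by
      intro z hz
      by_cases hz0 : z.1 = 0
      · rw [hz0]; exact zero_mem _
      obtain ⟨h1, h3⟩ := (hmemN z.1).1 z.2
      by_contra hzA
      have hg : coords (hypExt P₀) x z.1 = ⊥ := (AddSubgroup.eq_bot_iff_forall _).2 fun t ht => by
        by_contra ht0
        refine hzA ?_
        have ht : t • z.1 ∈ fixer (hypExt P₀) x := ht
        have := hclosed (t • z.1) ht (by rw [QuadraticMap.map_smul, show hypExt (hypExt P₀) z.1 = 0 from hz, smul_zero]) t⁻¹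
        rwa [smul_smul, inv_mul_cancel₀ ht0, one_smul] at this
      exact huw ((good_line hP₀ hd hall x hz0 hz hg).1 u hu w hw
        (by rw [polar_comm]; exact h1) (by rw [polar_comm]; exact h3))
    have hcount : n * 4 ≤ q ^ 3 := by
      let φ : A →+ F × F := AddMonoidHom.mk'
        (fun z => (polar (hypExt (hypExt P₀)) u z.1, polar (hypExt (hypExt P₀)) w z.1))
        fun a b => by simp [polar_add_right]
      have hker : n ≤ Nat.card φ.ker := by
        refine Nat.card_le_card_of_injective (fun z => (⟨⟨z.1.1, hbad z.1 z.2⟩, by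
          rw [AddMonoidHom.mem_ker]
          exact Prod.ext ((hmemN _).1 z.1.2).1 ((hmemN _).1 z.1.2).2⟩ : φ.ker)) ?_
        intro z z' e
        exact Subtype.ext (Subtype.ext (congrArg (fun s : φ.ker => (s.1 : F × F × (F × F × V₀))) e))
      have hrange : 4 ≤ Nat.card φ.range := by
        have e1 : φ ⟨w, hw⟩ = (B, 0) := Prod.ext rfl (hself w)
        have e2 : φ ⟨u, hu⟩ = (0, B) := Prod.ext (hself u) (polar_comm _ _ _)
        let g : Bool × Bool → φ.range := fun s =>
          ⟨φ ((if s.1 then ⟨w, hw⟩ else 0) + (if s.2 then ⟨u, hu⟩ else 0)), _, rfl⟩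
        have hg : Function.Injective g := by
          rintro ⟨a, b⟩ ⟨a', b'⟩ e
          have e' := congrArg Subtype.val e
          simp only [g, map_add, apply_ite φ, map_zero] at e'
          rcases a <;> rcases b <;> rcases a' <;> rcases b' <;>
            simp [e1, e2, Prod.ext_iff, huw, Ne.symm huw] at e' ⊢
        have := Nat.card_le_card_of_injective g hg
        simpa using this
      have h1 := φ.ker.card_mul_index
      rw [AddSubgroup.index_ker] at h1
      replace h1 := h1.trans hx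
      calc n * 4 ≤ Nat.card φ.ker * Nat.card φ.range := Nat.mul_le_mul hker hrange
        _ = _ := h1
    have e1 : q ^ 3 = q * q * q := by ring
    have e2 : q ^ 2 = q * q := by ring
    have : q * q * 2 ≤ q * q * q := Nat.mul_le_mul_left _ hq2
    omega
  -- singular elements form a subspace
  let S₀ : Submodule F (F × F × (F × F × V₀)) :=
    { carrier := {w | w ∈ A ∧ hypExt (hypExt P₀) w = 0}
      zero_mem' := ⟨zero_mem _, map_zero _⟩
      add_mem' := fun {a b} ha hb => ⟨A.add_mem ha.1 hb.1, by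
        rw [QuadraticMap.map_add (⇑(hypExt (hypExt P₀))), ha.2, hb.2, hti a ha.1 b hb.1]; simp⟩
      smul_mem' := fun γ a ha => ⟨hclosed a ha.1 ha.2 γ, by
        rw [QuadraticMap.map_smul, ha.2, smul_zero]⟩ }
  have hne : ∃ u ∈ A, u ≠ 0 ∧ hypExt (hypExt P₀) u = 0 := by
    obtain ⟨k, hk, hkb⟩ := eichler_move_singular (iso_hypExt hP₀) b hb0 hbs
    set x' := (ind (hypExt P₀) ⟨k, hk⟩)⁻¹ • x with hx'
    have hz : zline (hypExt P₀) x' = ⊥ := by
      rw [hx', ← coords_eq_zline (k := ⟨k, hk⟩) hkb, hgood]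
    obtain ⟨-, hpc, -, hporth⟩ := proj_plane hP₀ hd hall x' hz
    let φ : proj (hypExt P₀) x' →+ F := AddMonoidHom.mk' (fun c => hypExt P₀ c.1) fun c c' => by
      simp only [AddSubgroup.coe_add, QuadraticMap.map_add (⇑(hypExt P₀)), hporth _ c.2 _ c'.2,
        add_zero]
    obtain ⟨c, hc, hc0⟩ : ∃ c : proj (hypExt P₀) x', φ c = 0 ∧ c ≠ 0 := by
      by_contra hinj
      push Not at hinj
      have := Nat.card_le_card_of_injective φ ((injective_iff_map_eq_zero φ).2 hinj)
      rw [hpc] at this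
      have e2 : q ^ 2 = q * q := by ring
      nlinarith
    obtain ⟨a, ha⟩ := c.2
    refine ⟨k (a, 0, c.1), ?_, ?_, ?_⟩
    · have h := (fixer_acts (acts_ind (P := hypExt P₀) ⟨k, hk⟩) x' (a, 0, c.1)).2 ha
      have e : ind (hypExt P₀) ⟨k, hk⟩ • x' = x := smul_inv_smul _ _
      rwa [e] at h
    · rw [ne_eq, LinearEquiv.map_eq_zero_iff]
      exact fun h => hc0 (Subtype.ext (congrArg (fun w : F × F × (F × F × V₀) => w.2.2) h))
    · rw [eichlerGroup_le _ hk, hypExt_apply (Q := hypExt P₀)]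
      simp only [φ, AddMonoidHom.mk'_apply] at hc
      simp [hc]
  obtain ⟨u, hu, hu0, hQu⟩ := hne
  have huS : u ∈ S₀.toAddSubgroup := ⟨hu, hQu⟩
  have himg : (images (hypExt P₀) S₀.toAddSubgroup).ncard ≤ (images (hypExt P₀) A).ncard := by
    refine le_trans (Set.ncard_le_ncard ?_ (Set.toFinite _)) (Set.ncard_image_le (f := fun A' : AddSubgroup (F × F × (F × F × V₀)) =>
      AddSubgroup.closure {w | w ∈ A' ∧ hypExt (hypExt P₀) w = 0}) (Set.toFinite _))
    rintro _ ⟨K, hK, rfl⟩
    refine ⟨img K A, ⟨K, hK, rfl⟩, ?_⟩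
    have hset : {w | w ∈ img K A ∧ hypExt (hypExt P₀) w = 0} = (img K S₀.toAddSubgroup : Set _) := by
      ext w
      have hiff := mover_singular_iff hK (nondeg_hypExt hP₀) (K⁻¹ w)
      rw [show K (K⁻¹ w) = w from K.apply_symm_apply w] at hiff
      constructor
      · rintro ⟨h1, h3⟩
        exact mem_img.2 ⟨mem_img.1 h1, hiff.1 h3⟩
      · intro h
        obtain ⟨h1, h3⟩ := mem_img.1 h
        exact ⟨mem_img.2 h1, hiff.2 h3⟩
    show AddSubgroup.closure _ = img K S₀.toAddSubgroup
    rw [hset, AddSubgroup.closure_eq]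
  have hI := (himg.trans (images_le_four hd hX hx).2)
  rw [← hq] at hI
  have hfr : Module.finrank F S₀ ≤ 2 := by
    by_contra hlt
    have h1 : (S₀ : Set (F × F × (F × F × V₀))).ncard < (A : Set (F × F × (F × F × V₀))).ncard :=
      Set.ncard_lt_ncard ⟨fun w hw => hw.1, fun hsub => hQv (hsub hv).2⟩ (Set.toFinite _)
    rw [← Nat.card_coe_set_eq, ← Nat.card_coe_set_eq] at h1
    change Nat.card S₀ < Nat.card A at h1
    rw [Module.natCard_eq_pow_finrank (K := F) (V := S₀), hA, hx] at h1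
    have := (Nat.pow_lt_pow_iff_right (by omega : 1 < q)).1 h1
    omega
  obtain ⟨r, hr⟩ : ∃ r, q = r + 1 := ⟨q - 1, by omega⟩
  have hr0 : 1 ≤ r := by omega
  have hW0 : r * q ^ 4 + r * q ^ 3 ≤ cnt (hypExt (hypExt P₀)) 0 := by
    have h := level_four (P₀ := P₀) hd 0
    rw [← hq, hr, add_tsub_cancel_right, Nat.mul_add] at h
    rw [hr]; exact h
  have hU0 : r * q ^ 2 + q ≤ cnt (hypExt P₀) 0 := by
    have h := cnt_U_zero_ge (P₀ := P₀) hd
    rw [← hq, hr, add_tsub_cancel_right] at h
    rw [hr]; exact h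
  have hI' : (images (hypExt P₀) S₀.toAddSubgroup).ncard ≤ 3 * q ^ 3 := by
    have h4 : q ^ 2 + q + 2 ≤ 2 * q ^ 3 := by
      have e1 : q ^ 3 = q * q * q := by ring
      have e2 : q ^ 2 = q * q := by ring
      have : q * q * 2 ≤ q * q * q := Nat.mul_le_mul_left _ hq2
      have : 2 * q ≤ q * q := Nat.mul_le_mul_right _ hq2
      omega
    omega
  have hspan : Submodule.span F (S₀.toAddSubgroup : Set (F × F × (F × F × V₀))) = S₀ :=
    Submodule.span_eq S₀
  by_cases h22 : 2 ≤ Module.finrank F S₀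
  · have hS2 : Module.finrank F S₀ = 2 := by omega
    obtain ⟨p, hp, hp1, hp2⟩ := exists_pair_of_singular (P₀ := P₀) (A := S₀.toAddSubgroup)
      (fun w hw => hw.2) (by rw [hspan]; exact h22)
    have h1 := (le_card_pairs hP₀).trans (pairs_le_images hP₀ _ hp hp1 hp2)
    rw [hspan, Module.natCard_eq_pow_finrank (K := F) (V := S₀), hS2, ← hq] at h1
    have e1 : q ^ 2 - 1 = r * (r + 2) := Nat.sub_eq_of_eq_add (by rw [hr]; ring)
    have e2 : q ^ 2 - q = r * q := Nat.sub_eq_of_eq_add (by rw [hr]; ring)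
    rw [e1, e2] at h1
    have hA' : r * q ^ 4 ≤ cnt (hypExt (hypExt P₀)) 0 - 1 := by
      have : 1 ≤ r * q ^ 3 := Nat.mul_pos hr0 (pow_pos (by omega) _)
      omega
    have hB' : r * (q ^ 2 + 1) ≤ cnt (hypExt P₀) 0 - 1 := by
      rw [Nat.mul_add, mul_one]; omega
    have h5 : r * q ^ 4 * (q * (r * (q ^ 2 + 1))) ≤ 3 * q ^ 3 * (r * (r + 2) * (r * q)) :=
      le_trans (Nat.mul_le_mul hA' (Nat.mul_le_mul_left _ hB'))
        (h1.trans (Nat.mul_le_mul_right _ hI'))
    have h6 : q * (q ^ 2 + 1) ≤ 3 * (r + 2) := by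
      refine Nat.le_of_mul_le_mul_left ?_ (show 0 < r * r * q ^ 4 from
        Nat.mul_pos (Nat.mul_pos hr0 hr0) (pow_pos (by omega) _))
      calc _ = r * q ^ 4 * (q * (r * (q ^ 2 + 1))) := by ring
        _ ≤ _ := h5
        _ = _ := by ring
    rw [hr] at h6
    nlinarith
  · have h1 := sqClass_le_images (iso_hypExt hP₀) huS hu0
    rw [hQu, singular_ncard] at h1
    have hS0 : Nat.card S₀.toAddSubgroup ≤ q := by
      show Nat.card S₀ ≤ q
      rw [Module.natCard_eq_pow_finrank (K := F) (V := S₀)]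
      exact (Nat.pow_le_pow_right (by omega) (show Module.finrank F S₀ ≤ 1 by omega)).trans_eq
        (pow_one q)
    have h5 : cnt (hypExt (hypExt P₀)) 0 - 1 ≤ (q ^ 3 + q ^ 2 + q + 2) * r :=
      h1.trans (Nat.mul_le_mul hI (by omega))
    have h7 : (q ^ 3 + q ^ 2 + q + 2) * r + 1 < r * q ^ 4 + r * q ^ 3 := by
      have h8 : q ^ 2 + q + 4 ≤ q ^ 4 := by
        have e1 : q ^ 4 = q * q * (q * q) := by ring
        have e2 : q ^ 2 = q * q := by ring
        have h4 : 2 * 2 ≤ q * q := Nat.mul_le_mul hq2 hq2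
        have : 4 * (q * q) ≤ q * q * (q * q) := Nat.mul_le_mul_right _ h4
        have : 2 * q ≤ q * q := Nat.mul_le_mul_right _ hq2
        omega
      have h9 := Nat.mul_le_mul_left r h8
      have e : (q ^ 3 + q ^ 2 + q + 2) * r + 2 * r = r * (q ^ 2 + q + 4) + r * q ^ 3 := by ring
      omega
    omega

end Cfsg.Agent.Lib.MinIndexOrth
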