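import Cfsg.Agent.Lib.MinIndexOrth.Low
import Cfsg.Agent.Lib.OrthPrime.Quad

/-!
Dimension four: stabilisers in the radical of order below `q³` give too many points, and one of
order `q³` excludes a point on which the radical is regular.
-/

set_option autoImplicit false
set_option linter.unusedSectionVars false

namespace Cfsg.Agent.Lib.MinIndexOrth

open QuadraticMap
open Cfsg.Agent.Lib.Classical Cfsg.Agent.Lib.MinDegree.Orth

variable {F : Type*} [Field F] [Finite F]

/-- the number of singular points of the eight-dimensional space of plus type -/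
def fourBound (q : ℕ) : ℕ := q ^ 6 + q ^ 5 + q ^ 4 + 2 * q ^ 3 + q ^ 2 + q + 1

section general

variable {U : Type*} [AddCommGroup U] [Module F U] [Finite U] {P : QuadraticForm F U}

/-- movers are similitudes -/
theorem mover_similitude {K : (F × F × U) ≃ₗ[F] (F × F × U)} (hK : K ∈ movers P)
    (hP : ∀ z, (∀ w, polar P z w = 0) → z = 0) :
    ∃ μ : F, μ ≠ 0 ∧ ∀ w, hypExt P w = μ * μ * hypExt P (K w) := by
  obtain ⟨g, hg⟩ := hK
  have hiso : ∀ v, hypExt (hypExt P) (g.1 v) = hypExt (hypExt P) v := eichlerGroup_le _ g.2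
  have hrel : ∀ w v, g.1 (hypSiegel (hypExt P) w v) = hypSiegel (hypExt P) (K w) (g.1 v) :=
    fun w v => LinearEquiv.congr_fun (congrArg Subtype.val (hg w)) v
  have hnd := nondeg_hypExt hP
  set u := g.1 ((1, 0, 0) : F × F × (F × F × U)) with hu
  have hfix : ∀ w, hypSiegel (hypExt P) (K w) u = u := fun w => by
    rw [hu, ← hrel]; congr 1; rw [hypSiegel_apply]; simp
  have hfix' : ∀ w, hypSiegel (hypExt P) w u = u := fun w => by
    simpa using hfix (K.symm w)
  have hy : u.2.1 = 0 := by
    have h1 := congrArg (fun p : F × F × (F × F × U) => p.2.2) (hfix' (1, 0, 0))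
    rw [hypSiegel_apply] at h1
    simp only [add_eq_left] at h1
    have := congrArg Prod.fst h1
    simpa using this
  have hz : u.2.2 = 0 := hnd _ fun w => by
    have h1 := congrArg (fun p : F × F × (F × F × U) => p.1) (hfix' w)
    rw [hypSiegel_apply] at h1
    simp only [hy, mul_zero, sub_zero] at h1
    rw [polar_comm]
    linear_combination -h1
  set v := g.1 ((0, 1, 0) : F × F × (F × F × U)) with hv
  have hμ : u.1 * v.2.1 = 1 := by
    have := isometry_polar hiso ((1, 0, 0) : F × F × (F × F × U)) (0, 1, 0)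
    rw [← hu, ← hv, polar_hypExt (Q := hypExt P), polar_hypExt (Q := hypExt P)] at this
    simp only [hy, hz, polar_zero_left, mul_zero, add_zero, mul_one] at this
    exact this
  refine ⟨v.2.1, right_ne_zero_of_mul_eq_one hμ, fun w => ?_⟩
  have h1 := hrel w (0, 1, 0)
  rw [hypSiegel_apply, ← hv] at h1
  have e : ((0 - polar (hypExt P) w (0 : F × F × U) - hypExt P w * 1, (1 : F),
      (0 : F × F × U) + (1 : F) • w) : F × F × (F × F × U))
      = (-hypExt P w) • (1, 0, 0) + ((0, 1, 0) + (0, 0, w)) := by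
    refine Prod.ext ?_ (Prod.ext ?_ ?_) <;> simp
  rw [e, map_add, map_add, map_smul, ← hu, ← hv, hypSiegel_apply] at h1
  set z := g.1 ((0, 0, w) : F × F × (F × F × U)) with hzdef
  have h2 : z.2.1 = 0 := by
    have := congrArg (fun p : F × F × (F × F × U) => p.2.1) h1
    simp [hy] at this
    exact this
  have h3 : z.2.2 = v.2.1 • K w := by
    have := congrArg (fun p : F × F × (F × F × U) => p.2.2) h1
    simp [hz] at this
    exact this
  have h4 := hiso ((0, 0, w) : F × F × (F × F × U))
  rw [← hzdef, hypExt_apply (Q := hypExt P), hypExt_apply (Q := hypExt P), h2, h3,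
    QuadraticMap.map_smul] at h4
  simpa using h4.symm

theorem mover_singular_iff {K : (F × F × U) ≃ₗ[F] (F × F × U)} (hK : K ∈ movers P)
    (hP : ∀ z, (∀ w, polar P z w = 0) → z = 0) (w : F × F × U) :
    hypExt P (K w) = 0 ↔ hypExt P w = 0 := by
  obtain ⟨μ, hμ, h⟩ := mover_similitude hK hP
  rw [h w]
  exact ⟨fun h0 => by rw [h0, mul_zero], fun h0 => (mul_eq_zero.1 h0).resolve_left (mul_ne_zero hμ hμ)⟩

/-- a level is inside its square class -/
theorem cnt_le_sqClass (P : QuadraticForm F U) {c : F} (hc : c ≠ 0) :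
    cnt (hypExt P) c ≤ (sqClass P c).ncard := by
  rw [cnt, show Nat.card {w // hypExt P w = c} = {w | hypExt P w = c}.ncard from rfl]
  refine Set.ncard_le_ncard (fun w hw => ⟨fun h0 => hc ?_, 1, one_ne_zero, ?_⟩) (Set.toFinite _)
  · rw [← hw, h0, map_zero]
  · rw [one_mul, one_mul]; exact hw

theorem singular_ncard (P : QuadraticForm F U) :
    (sqClass P 0).ncard = cnt (hypExt P) 0 - 1 := by
  have := sqClass_zero_ncard P
  omega

theorem finrank_le_of_card (A : AddSubgroup (F × F × U)) {n : ℕ}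
    (h : Nat.card F ^ n ≤ Nat.card A) :
    n ≤ Module.finrank F (Submodule.span F (A : Set (F × F × U))) := by
  have h1 := h.trans (Nat.card_le_card_of_injective
    (fun a : A => (⟨a.1, Submodule.subset_span a.2⟩ : Submodule.span F (A : Set (F × F × U))))
    fun a b e => Subtype.ext (congrArg Subtype.val e :))
  rw [Module.natCard_eq_pow_finrank (K := F) (V := Submodule.span F (A : Set (F × F × U)))] at h1
  exact (Nat.pow_le_pow_iff_right Finite.one_lt_card).1 h1

theorem two_mul_le_of_lt (A : AddSubgroup (F × F × U)) {n : ℕ} (h : Nat.card A < Nat.card F ^ n) :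
    2 * Nat.card A ≤ Nat.card F ^ n := by
  obtain ⟨p, m, hp, -, hpm⟩ := (isPrimePow_nat_iff _).1 (isPrimePow_card_space (F := F))
  have hW : Nat.card (F × F × U) = p ^ (m * Module.finrank F (F × F × U)) := by
    rw [Module.natCard_eq_pow_finrank (K := F), ← hpm, pow_mul]
  obtain ⟨a, -, ha⟩ := (Nat.dvd_prime_pow hp).1 (hW ▸ A.card_addSubgroup_dvd_card)
  rw [ha, ← hpm, ← pow_mul] at h ⊢
  calc 2 * p ^ a ≤ p * p ^ a := Nat.mul_le_mul_right _ hp.two_le
    _ = p ^ (a + 1) := (pow_succ' p a).symm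
    _ ≤ _ := Nat.pow_le_pow_right hp.pos ((Nat.pow_lt_pow_iff_right hp.one_lt).1 h)

/-- over two and three elements an additive group of order above the field has two values -/
theorem exists_other_value (A : AddSubgroup (F × F × U)) (hq : Nat.card F ≤ 3)
    (hA : Nat.card F ^ 3 ≤ Nat.card A) {v : F × F × U} (hv : v ∈ A) (hQv : hypExt P v ≠ 0) :
    ∃ w ∈ A, w ≠ 0 ∧ hypExt P w ≠ hypExt P v := by
  classical
  have := Fintype.ofFinite F
  have hv0 : v ≠ 0 := fun h => hQv (by rw [h, map_zero])
  by_contra hall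
  push Not at hall
  have hc := FiniteField.cast_card_eq_zero F
  rw [← Nat.card_eq_fintype_card] at hc
  have h1 : 1 < Nat.card F := Finite.one_lt_card
  have h8 : 8 ≤ Nat.card A := le_trans (Nat.pow_le_pow_left h1 3) hA
  obtain ⟨u, hu, hu'⟩ : ∃ u ∈ A, u ∉ ({0, v, -v} : Set (F × F × U)) := by
    by_contra hsub
    push Not at hsub
    have h3 := Set.ncard_le_ncard (s := (A : Set (F × F × U))) hsub (Set.toFinite _)
    have h4 : ({0, v, -v} : Set (F × F × U)).ncard ≤ 3 :=
      (Set.ncard_insert_le _ _).trans (Nat.succ_le_succ ((Set.ncard_insert_le _ _).trans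
        (by rw [Set.ncard_singleton])))
    rw [← Nat.card_coe_set_eq] at h3
    change Nat.card A ≤ _ at h3
    omega
  simp only [Set.mem_insert_iff, Set.mem_singleton_iff, not_or] at hu'
  have e1 := hall _ hu hu'.1
  have e2 := hall _ (A.add_mem hu hv) fun h => hu'.2.2 (eq_neg_of_add_eq_zero_left h)
  rw [QuadraticMap.map_add (⇑(hypExt P)), e1] at e2
  rcases (by omega : Nat.card F = 2 ∨ Nat.card F = 3) with h2 | h3
  · rw [h2, Nat.cast_two] at hc
    obtain ⟨z, hz, hz'⟩ : ∃ z ∈ A, z ∉ ({0, v, u, u + v} : Set (F × F × U)) := by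
      by_contra hsub
      push Not at hsub
      have h3 := Set.ncard_le_ncard (s := (A : Set (F × F × U))) hsub (Set.toFinite _)
      have h4 : ({0, v, u, u + v} : Set (F × F × U)).ncard ≤ 4 :=
        (Set.ncard_insert_le _ _).trans (Nat.succ_le_succ ((Set.ncard_insert_le _ _).trans
          (Nat.succ_le_succ ((Set.ncard_insert_le _ _).trans (by rw [Set.ncard_singleton])))))
      rw [← Nat.card_coe_set_eq] at h3
      change Nat.card A ≤ _ at h3
      omega
    simp only [Set.mem_insert_iff, Set.mem_singleton_iff, not_or] at hz'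
    have hneg : ∀ x : F × F × U, -x = x := fun x => by
      rw [neg_eq_iff_add_eq_zero, ← two_smul F, hc, zero_smul]
    have e3 := hall _ hz hz'.1
    have e4 := hall _ (A.add_mem hz hv) fun h => hz'.2.1 (by
      rw [eq_neg_of_add_eq_zero_left h, hneg])
    have e5 := hall _ (A.add_mem hz hu) fun h => hz'.2.2.1 (by
      rw [eq_neg_of_add_eq_zero_left h, hneg])
    have e6 := hall _ (A.add_mem hz (A.add_mem hu hv)) fun h => hz'.2.2.2 (by
      rw [eq_neg_of_add_eq_zero_left h, hneg])
    rw [QuadraticMap.map_add (⇑(hypExt P)), e3] at e4 e5 e6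
    rw [QuadraticMap.map_add (⇑(hypExt P)) u v, e1, polar_add_right] at e6
    rw [e1] at e5
    apply hQv
    linear_combination e6 - e4 - e5 - e2 + hypExt P v * hc
  · have e7 := hall _ (A.sub_mem hu hv) fun h => hu'.2.1 (sub_eq_zero.1 h)
    rw [sub_eq_add_neg, QuadraticMap.map_add (⇑(hypExt P)), QuadraticMap.map_neg, e1,
      polar_neg_right] at e7
    rw [h3, Nat.cast_ofNat] at hc
    apply hQv
    linear_combination hypExt P v * hc - e2 - e7

end general

variable {V₀ : Type*} [AddCommGroup V₀] [Module F V₀] [Finite V₀] [Nontrivial V₀]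
variable {P₀ : QuadraticForm F V₀}

theorem four_cards (hd : Module.finrank F V₀ = 2) :
    Nat.card V₀ = Nat.card F ^ 2 ∧ Nat.card (F × F × V₀) = Nat.card F ^ 4 ∧
      Nat.card (F × F × (F × F × V₀)) = Nat.card F ^ 6 := by
  have h : Nat.card V₀ = Nat.card F ^ 2 := by rw [Module.natCard_eq_pow_finrank (K := F), hd]
  refine ⟨h, ?_, ?_⟩
  · rw [Nat.card_prod, Nat.card_prod, h]; ring
  · rw [Nat.card_prod, Nat.card_prod, Nat.card_prod, Nat.card_prod, h]; ring

theorem cnt_four (hd : Module.finrank F V₀ = 2) (c : F) :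
    cnt (hypExt P₀) c = (Nat.card F - 1) * Nat.card F ^ 2 + Nat.card F * cnt P₀ c ∧
    cnt (hypExt (hypExt P₀)) c =
      (Nat.card F - 1) * Nat.card F ^ 4 + Nat.card F * cnt (hypExt P₀) c := by
  obtain ⟨h1, h2, -⟩ := four_cards (F := F) hd
  constructor
  · rw [← le_cnt_hypExt, h1]
  · rw [← le_cnt_hypExt (P := hypExt P₀), h2]

theorem cnt_U_zero_ge (hd : Module.finrank F V₀ = 2) :
    (Nat.card F - 1) * Nat.card F ^ 2 + Nat.card F ≤ cnt (hypExt P₀) 0 := by
  rw [(cnt_four hd 0).1]
  have := cnt_pos (Q := P₀)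
  exact Nat.add_le_add_left (Nat.le_mul_of_pos_right _ this) _

theorem level_four (hd : Module.finrank F V₀ = 2) (c : F) :
    (Nat.card F - 1) * (Nat.card F ^ 4 + Nat.card F ^ 3) ≤ cnt (hypExt (hypExt P₀)) c := by
  rw [(cnt_four hd c).2, (cnt_four hd c).1, Nat.mul_add, Nat.mul_add, ← Nat.add_assoc]
  refine le_trans (le_of_eq ?_) (Nat.le_add_right _ _)
  ring

/-- three-dimensional totally singular spans force plus type and fill the lines -/
theorem images_three (hP₀ : ∀ z, (∀ w, polar P₀ z w = 0) → z = 0)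
    (hd : Module.finrank F V₀ = 2) {A : AddSubgroup (F × F × (F × F × V₀))}
    (hA : ∀ v ∈ A, hypExt (hypExt P₀) v = 0)
    (h3 : 3 ≤ Module.finrank F (Submodule.span F (A : Set (F × F × (F × F × V₀))))) :
    Module.finrank F (Submodule.span F (A : Set (F × F × (F × F × V₀)))) = 3 ∧
    cnt P₀ 0 + 1 = 2 * Nat.card F ∧
    (Nat.card F + 1) * (Nat.card F ^ 2 + 1) ≤ (eImages (hypExt P₀) A).ncard := by
  classical
  have := Fintype.ofFinite F
  set S := Submodule.span F (A : Set (F × F × (F × F × V₀))) with hS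
  have hfU : Module.finrank F (F × F × V₀) = 4 := by
    simp only [Module.finrank_prod, Module.finrank_self, hd]
  have hfW : Module.finrank F (F × F × (F × F × V₀)) = 2 * 3 := by
    simp only [Module.finrank_prod, Module.finrank_self, hd]
  have hle := two_mul_finrank_span (P := hypExt P₀) (nondeg_hypExt hP₀) hA
  rw [hfU, ← hS] at hle
  have hS3 : Module.finrank F S = 3 := by omega
  have hnd : (polarBilin (hypExt (hypExt P₀))).Nondegenerate :=
    ⟨fun z hz => nondeg_hypExt (nondeg_hypExt hP₀) z hz,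
      fun z hz => nondeg_hypExt (nondeg_hypExt hP₀) z fun w => by rw [polar_comm]; exact hz w⟩
  have hhyp : FormConj.IsHyp (hypExt (hypExt P₀)) :=
    ⟨S, by rw [hS3, hfW], fun u hu => (span_singular hA hu).1⟩
  have hval := OrthPrime.card_value_zero hfW hnd
  rw [(OrthPrime.qsgn_eq_one_iff _).2 hhyp, one_mul] at hval
  classical
  obtain ⟨hcU, hcW⟩ := cnt_four (P₀ := P₀) hd 0
  set q := Nat.card F with hq
  have hq2 : 2 ≤ q := Finite.one_lt_card
  obtain ⟨r, hr⟩ : ∃ r, q = r + 1 := ⟨q - 1, by omega⟩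
  have hW0 : cnt (hypExt (hypExt P₀)) 0 = (r + 1) ^ 5 + r * (r + 1) ^ 2 := by
    have h1 : q * cnt (hypExt (hypExt P₀)) 0 = q * ((r + 1) ^ 5 + r * (r + 1) ^ 2) := by
      zify
      rw [cnt]
      rw [hval, hr]
      push_cast
      ring
    exact Nat.eq_of_mul_eq_mul_left (by omega) h1
  rw [hcU, hr, add_tsub_cancel_right] at hcW
  have hc0 : cnt P₀ 0 + 1 = 2 * q := by
    rw [hr]
    have h1 : (r + 1) ^ 2 * cnt P₀ 0 = (r + 1) ^ 2 * (2 * r + 1) := by
      apply Nat.add_left_cancel (n := r * (r + 1) ^ 4 + r * (r + 1) ^ 3)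
      calc _ = cnt (hypExt (hypExt P₀)) 0 := by rw [hcW]; ring
        _ = _ := by rw [hW0]; ring
    have := Nat.eq_of_mul_eq_mul_left (by positivity) h1
    omega
  refine ⟨hS3, hc0, ?_⟩
  obtain ⟨p, hp, hp1, hp2⟩ := exists_pair_of_singular hA (by rw [← hS]; omega)
  have h1 := (le_card_pairs hP₀).trans (pairs_le_eImages hP₀ A hp hp1 hp2)
  have hSc : Nat.card S = q ^ 3 := by rw [Module.natCard_eq_pow_finrank (K := F), hS3]
  rw [← hS, hSc, hW0, hcU, ← hq, show cnt P₀ 0 = 2 * r + 1 by omega, hr, add_tsub_cancel_right] at h1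
  have e1 : (r + 1) ^ 5 + r * (r + 1) ^ 2 - 1
      = ((r + 1) ^ 2 + 1) * (r * (r * r + 3 * r + 3)) := Nat.sub_eq_of_eq_add (by ring)
  have e2 : r * (r + 1) ^ 2 + (r + 1) * (2 * r + 1) - 1 = r * (r + 2) * (r + 2) :=
    Nat.sub_eq_of_eq_add (by ring)
  have e3 : (r + 1) ^ 3 - 1 = r * (r * r + 3 * r + 3) := Nat.sub_eq_of_eq_add (by ring)
  have e4 : (r + 1) ^ 3 - (r + 1) = (r + 1) * (r * (r + 2)) := Nat.sub_eq_of_eq_add (by ring)
  rw [e1, e2, e3, e4] at h1
  rw [hr]
  have hr0 : 1 ≤ r := by omega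
  have hpos : 0 < r * (r * r + 3 * r + 3) * ((r + 1) * (r * (r + 2))) :=
    Nat.mul_pos (Nat.mul_pos hr0 (by omega)) (Nat.mul_pos (by omega) (Nat.mul_pos hr0 (by omega)))
  refine Nat.le_of_mul_le_mul_right (le_trans (le_of_eq ?_) h1) hpos
  ring

theorem four_arith_a (k : ℕ) :
    fourBound (k + 4) ≤ 2 * (k + 3) * ((k + 3) * ((k + 4) ^ 4 + (k + 4) ^ 3)) := by
  unfold fourBound
  ring_nf
  nlinarith [Nat.zero_le k, Nat.zero_le (k ^ 2), Nat.zero_le (k ^ 3), Nat.zero_le (k ^ 4),
    Nat.zero_le (k ^ 5), Nat.zero_le (k ^ 6)]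

theorem fourBound_le (q : ℕ) (hq : 2 ≤ q) : fourBound q ≤ 4 * q ^ 6 := by
  have h3 : 1 + q + q ^ 2 ≤ q ^ 3 := by
    have : q * q * 2 ≤ q * q * q := Nat.mul_le_mul_left _ hq
    have : 2 * q ≤ q * q := Nat.mul_le_mul_right _ hq
    have e : q ^ 3 = q * q * q := by ring
    have e' : q ^ 2 = q * q := by ring
    omega
  have h4 : q ^ 4 + 3 * q ^ 3 ≤ q ^ 6 := by
    have h' : q + 3 ≤ q * q * q := by
      have : 2 * 2 ≤ q * q := Nat.mul_le_mul hq hq
      nlinarith
    calc q ^ 4 + 3 * q ^ 3 = q ^ 3 * (q + 3) := by ring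
      _ ≤ q ^ 3 * (q * q * q) := Nat.mul_le_mul_left _ h'
      _ = _ := by ring
  have h5 : q ^ 5 ≤ q ^ 6 := Nat.pow_le_pow_right (by omega) (by norm_num)
  unfold fourBound
  omega

variable {X : Type*} [Finite X] [MulAction (Grp (hypExt P₀)) X]

/-- no stabiliser of order below `q³` -/
theorem high_four (hP₀ : ∀ z, (∀ w, polar P₀ z w = 0) → z = 0)
    (hd : Module.finrank F V₀ = 2) (hX : Nat.card X < fourBound (Nat.card F))
    (hX2 : Nat.card F = 2 → Nat.card X < 120) (y : X) :
    fixer (hypExt P₀) y = ⊥ ∨ Nat.card F ^ 3 ≤ Nat.card (fixer (hypExt P₀) y) := by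
  classical
  have := Fintype.ofFinite F
  obtain ⟨-, -, hW⟩ := four_cards (F := F) (V₀ := V₀) hd
  set q := Nat.card F with hq
  set A := fixer (hypExt P₀) y with hA
  have hq2 : 2 ≤ q := Finite.one_lt_card
  by_contra hne
  push Not at hne
  obtain ⟨hne, hlt⟩ := hne
  have h2a := two_mul_le_of_lt A hlt
  rw [← hq] at h2a
  have ha2 : 2 ≤ Nat.card A := by
    have : 0 < Nat.card A := Nat.card_pos
    have : Nat.card A ≠ 1 := fun h => hne (AddSubgroup.card_eq_one.1 h)
    omega
  obtain ⟨s, hs⟩ : ∃ s, Nat.card A = s + 1 := ⟨Nat.card A - 1, by omega⟩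
  have hI := iso_hypExt hP₀
  by_cases hns : ∃ v ∈ A, hypExt (hypExt P₀) v ≠ 0
  · obtain ⟨v, hv, hQv⟩ := hns
    have hv0 : v ≠ 0 := fun h => hQv (by rw [h, map_zero])
    have hcls := sqClass_le_images hI hv hv0
    set C := (sqClass (hypExt P₀) (hypExt (hypExt P₀) v)).ncard with hC
    by_cases hq4 : 4 ≤ q
    · obtain ⟨k, hk⟩ : ∃ k, q = k + 4 := ⟨q - 4, by omega⟩
      have h1 := le_two_mul_sqClass (hypExt P₀) _ hQv _ (fun t _ => level_four (P₀ := P₀) hd t)
      rw [← hq, ← hC, hk, show k + 4 - 1 = k + 3 by omega] at h1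
      refine false_of_count hX (by omega) hcls ?_
      rw [← hA, hW, hk, hs, add_tsub_cancel_right]
      rw [hk] at h2a
      have h3 : 4 * ((s + 1) * s) ≤ (k + 4) ^ 3 * (k + 4) ^ 3 := by
        calc 4 * ((s + 1) * s) ≤ (2 * (s + 1)) * (2 * (s + 1)) := by nlinarith
          _ ≤ _ := by rw [← hs]; exact Nat.mul_le_mul h2a h2a
      have h4 : 4 * (fourBound (k + 4) * (s + 1) * s) ≤ 4 * (C * (k + 4) ^ 6) :=
        calc _ = fourBound (k + 4) * (4 * ((s + 1) * s)) := by ring
          _ ≤ 2 * (k + 3) * ((k + 3) * ((k + 4) ^ 4 + (k + 4) ^ 3)) * ((k + 4) ^ 3 * (k + 4) ^ 3) :=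
            Nat.mul_le_mul (four_arith_a k) h3
          _ = 2 * ((k + 3) * ((k + 3) * ((k + 4) ^ 4 + (k + 4) ^ 3))) * (k + 4) ^ 6 := by ring
          _ ≤ 2 * (2 * C) * (k + 4) ^ 6 := Nat.mul_le_mul_right _ (Nat.mul_le_mul_left _ h1)
          _ = _ := by ring
      omega
    · rcases (by omega : q = 2 ∨ q = 3) with h2 | h3
      · have h1 : 24 ≤ C := by
          refine le_trans ?_ (cnt_le_sqClass (hypExt P₀) hQv)
          refine le_trans ?_ (level_four (P₀ := P₀) hd _)
          rw [← hq, h2]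
          norm_num
        refine false_of_count (hX2 h2) (by omega) hcls ?_
        rw [← hA, hW, h2, hs, add_tsub_cancel_right]
        rw [h2] at h2a
        norm_num at h2a ⊢
        have : s ≤ 3 := by omega
        interval_cases s <;> omega
      · have h1 : 216 ≤ C := by
          refine le_trans ?_ (cnt_le_sqClass (hypExt P₀) hQv)
          refine le_trans ?_ (level_four (P₀ := P₀) hd _)
          rw [← hq, h3]
          norm_num
        have ha9 : Nat.card A ≤ 9 := by
          obtain ⟨n, -, hn⟩ := (Nat.dvd_prime_pow Nat.prime_three).1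
            (show Nat.card A ∣ 3 ^ 6 by
              have := A.card_addSubgroup_dvd_card
              rwa [hW, h3] at this)
          rw [hn, h3] at hlt
          have h5 := (Nat.pow_lt_pow_iff_right (by norm_num : 1 < 3)).1 hlt
          rw [hn]
          exact (Nat.pow_le_pow_right (by norm_num) (show n ≤ 2 by omega)).trans_eq (by norm_num)
        refine false_of_count hX (by omega) hcls ?_
        rw [← hA, hW, h3, hs, add_tsub_cancel_right]
        calc fourBound 3 * (s + 1) * s ≤ fourBound 3 * 9 * 8 :=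
              Nat.mul_le_mul (Nat.mul_le_mul_left _ (by omega)) (by omega)
          _ ≤ 216 * 3 ^ 6 := by norm_num [fourBound]
          _ ≤ _ := Nat.mul_le_mul_right _ h1
  · push Not at hns
    set S := Submodule.span F (A : Set (F × F × (F × F × V₀))) with hS
    have hSc : Nat.card S = q ^ Module.finrank F S := Module.natCard_eq_pow_finrank
    have hAS : Nat.card A ≤ Nat.card S := Nat.card_le_card_of_injective
      (fun a => (⟨a.1, Submodule.subset_span a.2⟩ : S)) fun a b e => Subtype.ext (congrArg Subtype.val e :)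
    by_cases h3 : 3 ≤ Module.finrank F S
    · obtain ⟨-, -, h1⟩ := images_three hP₀ hd hns h3
      refine false_of_images (P := hypExt P₀) (y := y) hX ?_
      rw [← hA, hW]
      rw [← hq] at h1
      have h4 : fourBound q * (2 * Nat.card A) ≤
          2 * ((images (hypExt P₀) A).ncard * q ^ 6) :=
        calc fourBound q * (2 * Nat.card A) ≤ (q + 1) * (q ^ 2 + 1) * (2 * q ^ 3) * q ^ 3 := by
              refine Nat.mul_le_mul ?_ h2a
              have h5 : 1 ≤ q ^ 3 := Nat.one_le_pow _ _ (by omega)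
              calc fourBound q = (q + 1) * (q ^ 2 + 1) * (q ^ 3 + 1) := by unfold fourBound; ring
                _ ≤ _ := Nat.mul_le_mul_left _ (by omega)
          _ = 2 * ((q + 1) * (q ^ 2 + 1) * q ^ 6) := by ring
          _ ≤ _ := Nat.mul_le_mul_left _ (Nat.mul_le_mul_right _
              (h1.trans (Set.ncard_le_ncard (eImages_subset A) (Set.toFinite _))))
      rw [← Nat.mul_left_comm] at h4
      omega
    · obtain ⟨r, hr⟩ : ∃ r, q = r + 1 := ⟨q - 1, by omega⟩
      have hr0 : 1 ≤ r := by omega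
      have hN := fourBound_le q hq2
      have hW0 : r * q ^ 4 ≤ cnt (hypExt (hypExt P₀)) 0 - 1 := by
        have := level_four (P₀ := P₀) hd 0
        rw [← hq, hr, add_tsub_cancel_right, Nat.mul_add] at this
        rw [hr]
        have : 1 ≤ r * (r + 1) ^ 3 := Nat.mul_pos hr0 (pow_pos (by omega) _)
        omega
      by_cases h2 : 2 ≤ Module.finrank F S
      · have h22 : Module.finrank F S = 2 := by omega
        obtain ⟨p, hp, hp1, hp2⟩ := exists_pair_of_singular hns h2
        have h1 := (le_card_pairs hP₀).trans (pairs_le_images hP₀ A hp hp1 hp2)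
        rw [← hS, hSc, h22, ← hq] at h1
        have hU0 : r * (q ^ 2 + 1) ≤ cnt (hypExt P₀) 0 - 1 := by
          have := cnt_U_zero_ge (P₀ := P₀) hd
          rw [← hq, hr, add_tsub_cancel_right] at this
          rw [hr, Nat.mul_add, mul_one]
          omega
        have e1 : q ^ 2 - 1 = r * (r + 2) := Nat.sub_eq_of_eq_add (by rw [hr]; ring)
        have e2 : q ^ 2 - q = r * (r + 1) := Nat.sub_eq_of_eq_add (by rw [hr]; ring)
        rw [e1, e2] at h1
        have h4 : r * q ^ 4 * (q * (r * (q ^ 2 + 1))) ≤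
            (images (hypExt P₀) A).ncard * (r * (r + 2) * (r * (r + 1))) :=
          le_trans (Nat.mul_le_mul hW0 (Nat.mul_le_mul_left _ hU0)) h1
        refine false_of_count hX (Nat.mul_pos (Nat.mul_pos hr0 (by omega))
          (Nat.mul_pos hr0 (by omega))) h4 ?_
        rw [← hA, hW]
        have ha : Nat.card A ≤ q ^ 2 := by rw [← h22, ← hSc]; exact hAS
        have h6 : 4 * (r + 2) ≤ q ^ 2 * (q ^ 2 + 1) := by
          rw [hr]
          nlinarith
        calc fourBound q * Nat.card A * (r * (r + 2) * (r * (r + 1)))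
            ≤ 4 * q ^ 6 * q ^ 2 * (r * (r + 2) * (r * (r + 1))) :=
              Nat.mul_le_mul_right _ (Nat.mul_le_mul hN ha)
          _ = 4 * (r + 2) * (q ^ 8 * (r * r * (r + 1))) := by ring
          _ ≤ q ^ 2 * (q ^ 2 + 1) * (q ^ 8 * (r * r * (r + 1))) := Nat.mul_le_mul_right _ h6
          _ = _ := by rw [hr]; ring
      · obtain ⟨v, hv, hv0⟩ : ∃ v ∈ A, v ≠ 0 := by
          by_contra hall
          push Not at hall
          exact hne ((AddSubgroup.eq_bot_iff_forall A).2 hall)
        have h1 := sqClass_le_images hI hv hv0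
        rw [hns v hv, singular_ncard] at h1
        refine false_of_count hX (by omega) (hW0.trans h1) ?_
        rw [← hA, hW, hs, add_tsub_cancel_right]
        have ha : s + 1 ≤ q := by
          rw [← hs]
          exact hAS.trans (by
            rw [hSc]
            exact (Nat.pow_le_pow_right (by omega) (show Module.finrank F S ≤ 1 by omega)).trans_eq
              (pow_one q))
        calc fourBound q * (s + 1) * s ≤ 4 * q ^ 6 * q * r :=
              Nat.mul_le_mul (Nat.mul_le_mul hN ha) (by omega)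
          _ = 4 * q * (r * q ^ 6) := by ring
          _ ≤ q ^ 4 * (r * q ^ 6) := Nat.mul_le_mul_right _ (by
              have : q ^ 4 = q * q ^ 2 * q := by ring
              rw [this]
              nlinarith [Nat.mul_le_mul hq2 (Nat.mul_le_mul hq2 hq2)])
          _ = _ := by ring

theorem four_arith_b (k : ℕ) :
    2 * ((k + 4) ^ 2 + (k + 4) + 2) * ((k + 4) ^ 3 - 1) <
      (k + 3) * ((k + 3) * ((k + 4) ^ 4 + (k + 4) ^ 3)) := by
  have h : (k + 4) ^ 3 - 1 < (k + 4) ^ 3 := Nat.sub_lt (pow_pos (by omega) _) one_pos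
  calc 2 * ((k + 4) ^ 2 + (k + 4) + 2) * ((k + 4) ^ 3 - 1)
      < 2 * ((k + 4) ^ 2 + (k + 4) + 2) * (k + 4) ^ 3 :=
        Nat.mul_lt_mul_of_pos_left h (by positivity)
    _ ≤ (k + 3) * ((k + 3) * (k + 5)) * (k + 4) ^ 3 := Nat.mul_le_mul_right _ (by ring_nf; omega)
    _ = _ := by ring

/-- a stabiliser of order `q³` and a regular point do not coexist -/
theorem no_regular_four (hP₀ : ∀ z, (∀ w, polar P₀ z w = 0) → z = 0)
    (hd : Module.finrank F V₀ = 2) (hX : Nat.card X < fourBound (Nat.card F))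
    (hX2 : Nat.card F = 2 → Nat.card X < 120) {x y : X} (hx : fixer (hypExt P₀) x = ⊥)
    (hy : Nat.card (fixer (hypExt P₀) y) = Nat.card F ^ 3) : False := by
  classical
  have := Fintype.ofFinite F
  obtain ⟨-, -, hW⟩ := four_cards (F := F) (V₀ := V₀) hd
  set q := Nat.card F with hq
  have hq2 : 2 ≤ q := Finite.one_lt_card
  set A := fixer (hypExt P₀) y with hA
  have hsum : q ^ 6 + (images (hypExt P₀) A).ncard * q ^ 3 ≤ Nat.card X := by
    have h1 := images_add_le x y (by
      rw [hx, AddSubgroup.card_bot, hy]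
      exact (Nat.one_lt_pow (by norm_num) (by omega)).ne)
    rw [hx, AddSubgroup.index_bot, hW, ← hA] at h1
    have hidx : A.index = q ^ 3 := by
      have := A.card_mul_index
      rw [hy, hW, show q ^ 6 = q ^ 3 * q ^ 3 by ring] at this
      exact Nat.eq_of_mul_eq_mul_left (pow_pos (by omega) _) this
    rw [hidx] at h1
    have h3 : 1 ≤ (images (hypExt P₀) (⊥ : AddSubgroup (F × F × (F × F × V₀)))).ncard :=
      (Set.ncard_pos (Set.toFinite _)).2 ⟨_, mem_images_self _⟩
    exact le_trans (Nat.add_le_add_right (Nat.le_mul_of_pos_left _ h3) _) h1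
  have hN : ∀ I, q ^ 2 + q + 3 ≤ I → fourBound q ≤ q ^ 6 + I * q ^ 3 := fun I hI => by
    refine le_trans ?_ (Nat.add_le_add_left (Nat.mul_le_mul_right _ hI) _)
    have : q ^ 2 + q + 1 ≤ q ^ 3 := by
      have : 2 * q ≤ q * q := Nat.mul_le_mul_right _ hq2
      have e : q ^ 3 = q * q * q := by ring
      have e' : q ^ 2 = q * q := by ring
      have : q * q * 2 ≤ q * q * q := Nat.mul_le_mul_left _ hq2
      omega
    unfold fourBound
    have e : (q ^ 2 + q + 3) * q ^ 3 = q ^ 5 + q ^ 4 + 3 * q ^ 3 := by ring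
    omega
  have hI := iso_hypExt hP₀
  by_cases hns : ∃ v ∈ A, hypExt (hypExt P₀) v ≠ 0
  · obtain ⟨v, hv, hQv⟩ := hns
    have hv0 : v ≠ 0 := fun h => hQv (by rw [h, map_zero])
    have hcls := classes_le_images hI A
    rw [hy] at hcls
    have hsub : sqClass (hypExt P₀) (hypExt (hypExt P₀) v) ⊆ classes (hypExt P₀) A :=
      fun w hw => ⟨v, hv, hv0, hw⟩
    by_cases hq4 : 4 ≤ q
    · obtain ⟨k, hk⟩ : ∃ k, q = k + 4 := ⟨q - 4, by omega⟩
      have h1 := le_two_mul_sqClass (hypExt P₀) _ hQv _ (fun t _ => level_four (P₀ := P₀) hd t)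
      rw [← hq] at h1
      have := hN (images (hypExt P₀) A).ncard (by
        by_contra hlt
        have h4 := four_arith_b k
        rw [← hk] at h4
        rw [hk, show k + 4 - 1 = k + 3 by omega, ← hk] at h1
        have h5 := (Set.ncard_le_ncard hsub (Set.toFinite _)).trans
          (hcls.trans (Nat.mul_le_mul_right _ (show (images (hypExt P₀) A).ncard ≤ q ^ 2 + q + 2 by omega)))
        rw [mul_assoc 2] at h4
        omega)
      omega
    · obtain ⟨w, hw, hw0, hval⟩ := exists_other_value (P := hypExt P₀) A (by omega)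
        (hy ▸ le_rfl) hv hQv
      have hun := Set.ncard_le_ncard (Set.union_subset hsub
        (fun u hu => (⟨w, hw, hw0, hu⟩ : u ∈ classes (hypExt P₀) A))) (Set.toFinite _)
      have hdisj : Disjoint (sqClass (hypExt P₀) (hypExt (hypExt P₀) v))
          (sqClass (hypExt P₀) (hypExt (hypExt P₀) w)) := by
        rw [Set.disjoint_left]
        rintro u ⟨-, μ, hμ, e⟩ ⟨-, ν, hν, e'⟩
        have hsq : ∀ t : F, t ≠ 0 → t * t = 1 := fun t ht => by
          have := Fintype.ofFinite F
          have h4 := FiniteField.pow_card_sub_one_eq_one t ht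
          rcases (by omega : q = 2 ∨ q = 3) with h2 | h3
          · rw [← Nat.card_eq_fintype_card, ← hq, h2] at h4
            norm_num at h4
            rw [h4, one_mul]
          · rw [← Nat.card_eq_fintype_card, ← hq, h3] at h4
            rw [← pow_two]; exact h4
        rw [e, hsq μ hμ, one_mul, hsq ν hν, one_mul] at e'
        exact hval e'.symm
      rw [Set.ncard_union_eq hdisj (Set.toFinite _) (Set.toFinite _)] at hun
      have hv' := (level_four (P₀ := P₀) hd _).trans (cnt_le_sqClass (hypExt P₀) hQv)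
      have hw' : (q - 1) * (q ^ 4 + q ^ 3) - 1 ≤
          (sqClass (hypExt P₀) (hypExt (hypExt P₀) w)).ncard := by
        by_cases hQw : hypExt (hypExt P₀) w = 0
        · rw [hQw, singular_ncard]
          exact Nat.sub_le_sub_right (level_four hd 0) 1
        · exact (Nat.sub_le _ _).trans
            ((level_four (P₀ := P₀) hd _).trans (cnt_le_sqClass (hypExt P₀) hQw))
      rw [← hq] at hv'
      rcases (by omega : q = 2 ∨ q = 3) with h2 | h3
      · rw [h2] at hcls hv' hw' hsum
        norm_num at hcls hv' hw' hsum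
        have := hX2 h2
        omega
      · rw [h3] at hcls hv' hw' hsum hX
        norm_num [fourBound] at hcls hv' hw' hsum hX
        omega
  · push Not at hns
    obtain ⟨-, -, h1⟩ := images_three hP₀ hd hns
      (finrank_le_of_card A (by rw [hy]))
    rw [← hq] at h1
    have h2 := h1.trans (Set.ncard_le_ncard (eImages_subset A) (Set.toFinite _))
    have := hN (images (hypExt P₀) A).ncard (le_trans (by nlinarith) h2)
    omega

end Cfsg.Agent.Lib.MinIndexOrth
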