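import Cfsg.Agent.Lib.MinIndexOrth.FourGood

/-!
Dimension four, plus type: a stabiliser equal to a totally singular three-space brings as many
further points as it has images; conclusion for dimension four.
-/

set_option autoImplicit false
set_option linter.unusedSectionVars false

namespace Cfsg.Agent.Lib.MinIndexOrth

open QuadraticMap
open Cfsg.Agent.Lib.Classical Cfsg.Agent.Lib.MinDegree.Orth

variable {F : Type*} [Field F] [Finite F]

section general

variable {U : Type*} [AddCommGroup U] [Module F U] [Finite U] {P : QuadraticForm F U}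

/-- the opposite radical -/
def opp (P : QuadraticForm F U) (w : F × F × U) : Grp P :=
  ⟨hypSiegel' (hypExt P) w, hypSiegel'_mem_eichler _ w⟩

theorem opp_add (v w : F × F × U) : opp P (v + w) = opp P v * opp P w := by
  refine Subtype.ext ?_
  show hypSiegel' (hypExt P) (v + w) = hypSiegel' (hypExt P) v * hypSiegel' (hypExt P) w
  rw [hypSiegel', hypSiegel', hypSiegel', ← hypSiegel_add]
  have h := hypSwap_mul_self (F := F) (V := F × F × U)
  calc hypSwap * (hypSiegel (hypExt P) v * hypSiegel (hypExt P) w) * hypSwap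
      = hypSwap * hypSiegel (hypExt P) v * (hypSwap * hypSwap) * hypSiegel (hypExt P) w * hypSwap := by
        rw [h]; simp [mul_assoc]
    _ = _ := by simp [mul_assoc]

theorem ind_opp (k : eichlerGroup P) (w : F × F × U) :
    ind P k * opp P w = opp P (k.1 w) * ind P k :=
  Subtype.ext (ind_siegel' (eichlerGroup_le P k.2) w)

theorem sig_rad_mid_y (β : F) : sig P * rad P (0, β, 0) = opp P (β, 0, 0) * sig P := by
  refine Subtype.ext ?_
  show planeSwap P * hypSiegel (hypExt P) (0, β, 0) = hypSiegel' (hypExt P) (β, 0, 0) * planeSwap P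
  apply LinearEquiv.ext
  intro p
  simp only [LinearEquiv.mul_apply, planeSwap_apply, hypSiegel_apply, hypSiegel'_apply,
    polar_hypExt (Q := P), hypExt_apply (Q := P), polar_zero_left, map_zero]
  refine Prod.ext ?_ (Prod.ext ?_ (Prod.ext ?_ (Prod.ext ?_ ?_))) <;>
    simp only [Prod.fst_add, Prod.snd_add, Prod.smul_fst, Prod.smul_snd, smul_eq_mul, smul_zero,
      add_zero, mul_zero, zero_mul, sub_zero, zero_add] <;> ring

end general

variable {V₀ : Type*} [AddCommGroup V₀] [Module F V₀] [Finite V₀] [Nontrivial V₀]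
variable {P₀ : QuadraticForm F V₀}
variable {X : Type*} [Finite X] [MulAction (Grp (hypExt P₀)) X]

/-- the torus on the outer plane -/
def outerTorus (c : Fˣ) : Grp (hypExt P₀) :=
  ⟨hypScale (c * c), scale_sq_mem (P := hypExt P₀) c⟩

theorem outerTorus_acts (c : Fˣ) :
    Acts (hypExt P₀) (outerTorus c) (LinearEquiv.smulOfUnit (c * c)) :=
  fun w => Subtype.ext (scale_siegel (c * c) w)

theorem outerTorus_ind (c : Fˣ) (k : eichlerGroup (hypExt P₀)) :
    outerTorus c * ind (hypExt P₀) k = ind (hypExt P₀) k * outerTorus c :=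
  Subtype.ext (scale_ind (c * c) k.1)

theorem outerTorus_sig (hP₀ : ∀ z, (∀ w, polar P₀ z w = 0) → z = 0) (c : Fˣ) :
    ∃ σ : eichlerGroup (hypExt P₀), σ.1 = hypScale (c * c) ∧
      outerTorus c * sig (hypExt P₀) = sig (hypExt P₀) * ind (hypExt P₀) σ := by
  obtain ⟨b, hb⟩ := exists_nonsing (nondeg_hypExt hP₀)
  refine ⟨⟨hypScale (c * c), scale_sq_mem_of_nonsing hb c⟩, rfl, ?_⟩
  apply Subtype.ext
  rw [Subgroup.coe_mul, Subgroup.coe_mul]
  dsimp only [outerTorus, sig, ind]
  apply LinearEquiv.ext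
  intro p
  rw [LinearEquiv.mul_apply, LinearEquiv.mul_apply, hypScale_apply]
  rw [planeSwap_apply (P := hypExt P₀), planeSwap_apply (P := hypExt P₀), hypInd_apply,
    hypScale_apply]

/-- the plus-type count -/
theorem false_of_three (hP₀ : ∀ z, (∀ w, polar P₀ z w = 0) → z = 0)
    (hd : Module.finrank F V₀ = 2)
    (hall : ∀ z : X, Nat.card F ^ 3 ≤ Nat.card (fixer (hypExt P₀) z))
    (hX : Nat.card X < fourBound (Nat.card F)) (hq : 4 ≤ Nat.card F)
    (x : X) (hx : Nat.card (fixer (hypExt P₀) x) = Nat.card F ^ 3) : False := by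
  classical
  have := Fintype.ofFinite F
  obtain ⟨-, -, hW⟩ := four_cards (F := F) (V₀ := V₀) hd
  have hnd := nondeg_hypExt hP₀
  set q := Nat.card F with hqdef
  have hq1 : 1 < q := by omega
  -- every such stabiliser is a subspace
  have hsub : ∀ z : X, Nat.card (fixer (hypExt P₀) z) = q ^ 3 →
      (∀ v ∈ fixer (hypExt P₀) z, hypExt (hypExt P₀) v = 0) ∧
      (∀ v ∈ fixer (hypExt P₀) z, ∀ γ : F, γ • v ∈ fixer (hypExt P₀) z) ∧
      (q + 1) * (q ^ 2 + 1) ≤ (eImages (hypExt P₀) (fixer (hypExt P₀) z)).ncard := by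
    intro z hz
    have hs := fun v hv => all_singular_four hP₀ hd hall hX z hz (v := v) hv
    obtain ⟨h3, -, hE⟩ := images_three hP₀ hd hs (finrank_le_of_card _ hz.ge)
    refine ⟨hs, fun v hv γ => ?_, hE⟩
    set A := fixer (hypExt P₀) z
    set S := Submodule.span F (A : Set (F × F × (F × F × V₀))) with hS
    have heq : (A : Set (F × F × (F × F × V₀))) = S :=
      Set.eq_of_subset_of_ncard_le Submodule.subset_span (by
        rw [← Nat.card_coe_set_eq, ← Nat.card_coe_set_eq]
        show Nat.card S ≤ Nat.card A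
        rw [Module.natCard_eq_pow_finrank (K := F) (V := S), h3, hz]) (Set.toFinite _)
    show γ • v ∈ (A : Set _)
    rw [heq]
    exact S.smul_mem γ (Submodule.subset_span hv)
  obtain ⟨hAs, hAsm, hE⟩ := hsub x hx
  set A := fixer (hypExt P₀) x with hA
  -- a torus element fixing a point of the orbit
  obtain ⟨c, hc⟩ : ∃ c : Fˣ, ((c * c : Fˣ) : F) ≠ 1 := by
    by_contra hne
    push Not at hne
    have : Fintype Fˣ := Fintype.ofFinite _
    have h1 := Polynomial.card_roots' (Polynomial.X ^ 2 - Polynomial.C (1 : F))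
    rw [Polynomial.natDegree_X_pow_sub_C] at h1
    have h2 : (Finset.univ.image (Units.val : Fˣ → F)).val ⊆
        (Polynomial.X ^ 2 - Polynomial.C (1 : F)).roots := by
      intro x hx
      obtain ⟨u, -, rfl⟩ := Finset.mem_image.1 hx
      rw [Polynomial.mem_roots (Polynomial.X_pow_sub_C_ne_zero (by norm_num) 1)]
      have := hne u
      simp only [Units.val_mul] at this
      simp [pow_two, this]
    have h3 := Multiset.card_le_card ((Multiset.le_iff_subset (Finset.nodup _)).2 h2)
    rw [← Finset.card_def, Finset.card_image_of_injective _ Units.val_injective,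
      Finset.card_univ, ← Nat.card_eq_fintype_card, Nat.card_units, ← hqdef] at h3
    omega
  set tt := outerTorus (P₀ := P₀) c with htt
  set L : (F × F × (F × F × V₀)) ≃ₗ[F] (F × F × (F × F × V₀)) :=
    LinearEquiv.smulOfUnit (c * c) with hLdef
  have hL : ∀ w : F × F × (F × F × V₀), L w = ((c * c : Fˣ) : F) • w := fun w => rfl
  have hidx : A.index = q ^ 3 := by
    have := A.card_mul_index
    rw [hx, hW, show q ^ 6 = q ^ 3 * q ^ 3 by ring] at this
    exact Nat.eq_of_mul_eq_mul_left (pow_pos (by omega) _) this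
  have hbound : fourBound q ≤ (q + 1) * (q ^ 2 + 1) * (q ^ 3 + 1) := by
    unfold fourBound; exact le_of_eq (by ring)
  obtain ⟨r, hr⟩ : ∃ r, rad (hypExt P₀) r • x = tt • x := by
    by_contra hne
    push Not at hne
    have he : fixer (hypExt P₀) x = fixer (hypExt P₀) (tt • x) := by
      rw [htt, fixer_smul (P := hypExt P₀) (outerTorus_acts (P₀ := P₀) c)]
      ext w
      rw [mem_img]
      constructor
      · intro hw
        have h := hAsm w hw (((c * c)⁻¹ : Fˣ) : F)
        exact h
      · intro hw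
        have h := hAsm _ hw ((c * c : Fˣ) : F)
        have e : ((c * c : Fˣ) : F) • (L⁻¹ w) = w := (hL _).symm.trans (L.apply_symm_apply w)
        rwa [e] at h
    have h1 := two_mul_images_le x (tt • x) he hne
    rw [← hA, hidx] at h1
    have h2 := hE.trans (Set.ncard_le_ncard (eImages_subset A) (Set.toFinite _))
    have h3 := Nat.mul_le_mul_right (q ^ 3) h2
    have h4 : (q + 1) * (q ^ 2 + 1) * (q ^ 3 + 1) ≤ 2 * ((q + 1) * (q ^ 2 + 1) * q ^ 3) := by
      have : 1 ≤ q ^ 3 := Nat.one_le_pow _ _ (by omega)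
      nlinarith [Nat.zero_le ((q + 1) * (q ^ 2 + 1))]
    omega
  set s := (1 - ((c * c : Fˣ) : F))⁻¹ • r with hs
  set x₁ := rad (hypExt P₀) s • x with hx1
  have htx : tt • x₁ = x₁ := by
    rw [hx1, smul_smul, outerTorus_acts c, mul_smul, ← hr, smul_smul, ← rad_add]
    congr 2
    show ((c * c : Fˣ) : F) • s + r = s
    have e : r = (1 - ((c * c : Fˣ) : F)) • s := by
      rw [hs, smul_smul, mul_inv_cancel₀ (sub_ne_zero.2 (Ne.symm hc)), one_smul]
    nth_rewrite 1 [e]
    module
  have hA1 : fixer (hypExt P₀) x₁ = A := fixer_rad s x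
  -- the opposite radical fixes the new point
  let Φ : AddSubgroup (F × F × (F × F × V₀)) :=
    { carrier := {w | opp (hypExt P₀) w • x₁ = x₁}
      zero_mem' := by
        show opp (hypExt P₀) 0 • x₁ = x₁
        have e : opp (hypExt P₀) 0 = 1 := by
          have h := opp_add (P := hypExt P₀) 0 0
          rw [add_zero] at h
          exact mul_left_cancel (h.symm.trans (mul_one _).symm)
        rw [e, one_smul]
      add_mem' := fun {v w} hv hw => by
        show opp (hypExt P₀) (v + w) • x₁ = x₁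
        rw [opp_add, mul_smul, show opp (hypExt P₀) w • x₁ = x₁ from hw]
        exact hv
      neg_mem' := fun {w} hw => by
        show opp (hypExt P₀) (-w) • x₁ = x₁
        have h := opp_add (P := hypExt P₀) (-w) w
        rw [neg_add_cancel] at h
        have h0 := opp_add (P := hypExt P₀) 0 0
        rw [add_zero] at h0
        have e : opp (hypExt P₀) (0 : F × F × (F × F × V₀)) = 1 :=
          mul_left_cancel (h0.symm.trans (mul_one _).symm)
        rw [e] at h
        rw [eq_inv_of_mul_eq_one_left h.symm, inv_smul_eq_iff]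
        exact (show opp (hypExt P₀) w • x₁ = x₁ from hw).symm }
  have hI := iso_hypExt hP₀
  have hout : ∀ b, b ∉ A → hypExt (hypExt P₀) b = 0 → ∀ γ : F, γ • b ∈ Φ := by
    intro b hbA hbs γ
    have hb0 : b ≠ 0 := fun h => hbA (h ▸ zero_mem _)
    obtain ⟨k, hk, hkb⟩ := eichler_move_singular hI b hb0 hbs
    set kk : eichlerGroup (hypExt P₀) := ⟨k, hk⟩
    set x' := (ind (hypExt P₀) kk)⁻¹ • x₁ with hx'
    have hz : zline (hypExt P₀) x' = ⊥ := by
      rw [hx', ← coords_eq_zline (k := kk) hkb, AddSubgroup.eq_bot_iff_forall]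
      intro t ht
      by_contra ht0
      have ht' : t • b ∈ fixer (hypExt P₀) x₁ := ht
      rw [hA1] at ht'
      have := hAsm _ ht' t⁻¹
      rw [smul_smul, inv_mul_cancel₀ ht0, one_smul] at this
      exact hbA this
    have htx' : tt • x' = x' := by
      have hcomm : tt * (ind (hypExt P₀) kk)⁻¹ = (ind (hypExt P₀) kk)⁻¹ * tt := by
        rw [← ind_inv, htt, outerTorus_ind]
      rw [hx', smul_smul, hcomm, mul_smul, htx]
    obtain ⟨σ, hσ, hsig⟩ := outerTorus_sig hP₀ c
    set y := (sig (hypExt P₀))⁻¹ • x' with hy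
    have hσy : ind (hypExt P₀) σ • y = y := by
      have e : ind (hypExt P₀) σ = (sig (hypExt P₀))⁻¹ * tt * sig (hypExt P₀) := by
        rw [mul_assoc, htt, hsig, inv_mul_cancel_left]
      rw [hy, smul_smul, e, mul_assoc, mul_inv_cancel, mul_one, mul_smul, htx']
    have hzy : zline (hypExt P₀) y = ⊥ := by rw [hy, zline_sig, hz]
    obtain ⟨hy3, -, -, -⟩ := proj_plane hP₀ hd hall y hzy
    obtain ⟨hys, hysm, -⟩ := hsub y hy3
    set B := fixer (hypExt P₀) y with hB
    have hinv : ∀ w ∈ B, σ.1 w ∈ B := fun w hw => by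
      have := (fixer_acts (acts_ind (P := hypExt P₀) σ) y w).2 hw
      rwa [hσy] at this
    set lam : F := ((c * c : Fˣ) : F) with hlam
    have hσap : ∀ w : F × F × (F × F × V₀), σ.1 w = (lam * w.1, lam⁻¹ * w.2.1, w.2.2) := fun w => by
      rw [hσ, hypScale_apply]
    have hlam0 : lam ≠ 0 := (c * c).ne_zero
    have hlam1 : lam⁻¹ - 1 ≠ 0 := sub_ne_zero.2 fun h => hc (inv_eq_one.1 h)
    -- a non-zero middle coordinate
    obtain ⟨w, hw, hwy⟩ : ∃ w ∈ B, w.2.1 ≠ 0 := by
      by_contra hall0
      push Not at hall0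
      have hU : ∀ w ∈ B, w.1 = 0 := by
        intro w hw
        have h1 := B.sub_mem (hinv w hw) hw
        rw [hσap] at h1
        have h2 := hysm _ h1 ((lam - 1)⁻¹)
        have e : (lam - 1)⁻¹ • (((lam * w.1, lam⁻¹ * w.2.1, w.2.2) : F × F × (F × F × V₀)) - w)
            = (w.1, 0, 0) := by
          refine Prod.ext ?_ (Prod.ext ?_ ?_) <;> simp [hall0 w hw]
          field_simp [sub_ne_zero.2 hc]
        rw [e] at h2
        have h3 : w.1 ∈ zline (hypExt P₀) y := h2
        rwa [hzy, AddSubgroup.mem_bot] at h3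
      have h1 := finrank_le_of_card B hy3.ge
      set SU : Set (F × F × V₀) := (fun w : F × F × (F × F × V₀) => w.2.2) '' (B : Set _) with hSU
      have h2 := finrank_add_le_of_orth hnd (S := SU) (T := SU) (by
        rintro _ ⟨u, hu, rfl⟩ _ ⟨u', hu', rfl⟩
        have := orth_of_singular hys hu hu'
        rw [polar_hypExt (Q := hypExt P₀), hU u hu, hU u' hu'] at this
        simpa using this)
      have hfU : Module.finrank F (F × F × V₀) = 4 := by
        simp only [Module.finrank_prod, Module.finrank_self, hd]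
      rw [hfU] at h2
      have hcard : Nat.card B ≤ q ^ Module.finrank F (Submodule.span F SU) := by
        refine le_trans ?_ (card_le_pow_span SU)
        rw [← Nat.card_coe_set_eq]
        refine Nat.card_le_card_of_injective (fun u : B => (⟨u.1.2.2, u.1, u.2, rfl⟩ : SU)) ?_
        intro u u' e
        have e' : u.1.2.2 = u'.1.2.2 := congrArg Subtype.val e
        exact Subtype.ext (Prod.ext ((hU _ u.2).trans (hU _ u'.2).symm)
          (Prod.ext ((hall0 _ u.2).trans (hall0 _ u'.2).symm) e'))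
      rw [hy3] at hcard
      have := (Nat.pow_le_pow_iff_right hq1).1 hcard
      omega
    -- the middle coordinate alone
    have h1 := B.sub_mem (hinv w hw) hw
    rw [hσap] at h1
    have h2 : ((((lam - 1) * w.1, (lam⁻¹ - 1) * w.2.1, 0)) : F × F × (F × F × V₀)) ∈ B := by
      convert h1 using 1
      refine Prod.ext ?_ (Prod.ext ?_ ?_) <;> simp <;> ring
    have hw1 : w.1 = 0 := by
      have h3 := hys _ h2
      rw [hypExt_apply (Q := hypExt P₀), map_zero, add_zero] at h3
      by_contra h0
      exact mul_ne_zero (mul_ne_zero (sub_ne_zero.2 hc) h0) (mul_ne_zero hlam1 hwy) h3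
    have hβ : ((0, γ, 0) : F × F × (F × F × V₀)) ∈ B := by
      have h3 := hysm _ h2 (γ * ((lam⁻¹ - 1) * w.2.1)⁻¹)
      convert h3 using 1
      refine Prod.ext ?_ (Prod.ext ?_ ?_) <;> simp [hw1]
      field_simp [hlam1, hwy]
    have h4 : opp (hypExt P₀) (γ, 0, 0) • x' = x' := by
      have h5 : rad (hypExt P₀) (0, γ, 0) • y = y := hβ
      have e : x' = sig (hypExt P₀) • y := by rw [hy, smul_inv_smul]
      rw [e, smul_smul, ← sig_rad_mid_y, mul_smul, h5]
    show opp (hypExt P₀) (γ • b) • x₁ = x₁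
    have e : x₁ = ind (hypExt P₀) kk • x' := by rw [hx', smul_inv_smul]
    have e2 : γ • b = k ((γ, 0, 0) : F × F × (F × F × V₀)) := by
      rw [← hkb, ← map_smul]; simp
    rw [e, smul_smul, e2, ← ind_opp kk, mul_smul, h4]
  have hsing : ∀ b, hypExt (hypExt P₀) b = 0 → b ∈ Φ := by
    intro b hbs
    by_cases hbA : b ∈ A
    · by_cases hb0 : b = 0
      · rw [hb0]; exact zero_mem _
      obtain ⟨k, hk, hkb⟩ := eichler_move_singular hI b hb0 hbs
      obtain ⟨z, hz, hzA⟩ : ∃ z : {p : F × (F × F × V₀) // hypExt P₀ p.2 = 0},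
          hypExt (hypExt P₀) (b + k (z.1.1, 0, z.1.2)) = 0 ∧ k (z.1.1, 0, z.1.2) ∉ A := by
        by_contra hne
        push Not at hne
        have h1 : Nat.card {p : F × (F × F × V₀) // hypExt P₀ p.2 = 0} ≤ Nat.card A := by
          refine Nat.card_le_card_of_injective (fun z =>
            (⟨k (z.1.1, 0, z.1.2), hne z (by
              rw [← hkb, ← map_add, eichlerGroup_le _ hk, hypExt_apply (Q := hypExt P₀)]
              simp [z.2])⟩ : A)) fun z z' e => ?_
          have e' := k.injective (congrArg Subtype.val e)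
          simp only [Prod.mk.injEq, true_and] at e'
          exact Subtype.ext (Prod.ext e'.1 e'.2)
        have h2 : Nat.card {p : F × (F × F × V₀) // hypExt P₀ p.2 = 0}
            = q * cnt (hypExt P₀) 0 := by
          rw [cnt, hqdef, ← Nat.card_prod]
          exact Nat.card_congr ⟨fun p => (p.1.1, ⟨p.1.2, p.2⟩), fun p => ⟨(p.1, p.2.1), p.2.2⟩,
            fun _ => rfl, fun _ => rfl⟩
        rw [h2, hx] at h1
        have h3 := cnt_U_zero_ge (P₀ := P₀) hd
        rw [← hqdef] at h3
        obtain ⟨j, hj⟩ : ∃ j, q = j + 4 := ⟨q - 4, by omega⟩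
        rw [hj, show j + 4 - 1 = j + 3 by omega] at h3
        rw [hj] at h1
        have h5 := Nat.mul_le_mul_left (j + 4) h3
        have h6 : (j + 4) ^ 3 < (j + 4) * ((j + 3) * (j + 4) ^ 2 + (j + 4)) := by
          calc (j + 4) ^ 3 = (j + 4) * (1 * (j + 4) ^ 2) := by ring
            _ < _ := by
              refine Nat.mul_lt_mul_of_pos_left ?_ (by omega)
              have : 1 * (j + 4) ^ 2 ≤ (j + 3) * (j + 4) ^ 2 := Nat.mul_le_mul_right _ (by omega)
              omega
        omega
      have h1 : b + k (z.1.1, 0, z.1.2) ∉ A := fun h => hzA (by simpa using A.sub_mem h hbA)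
      have h2 : hypExt (hypExt P₀) (k (z.1.1, 0, z.1.2)) = 0 := by
        rw [eichlerGroup_le _ hk, hypExt_apply (Q := hypExt P₀)]; simp [z.2]
      have := Φ.sub_mem (hout _ h1 hz 1) (hout _ hzA h2 1)
      simpa using this
    · simpa using hout b hbA hbs 1
  have htop : ∀ w, opp (hypExt P₀) w • x₁ = x₁ := by
    intro w
    show w ∈ Φ
    have hx' : ∀ t : F, ((t, 0, 0) : F × F × (F × F × V₀)) ∈ Φ := fun t =>
      hsing _ (by rw [hypExt_apply (Q := hypExt P₀)]; simp)
    have hy' : ∀ t : F, ((0, t, 0) : F × F × (F × F × V₀)) ∈ Φ := fun t =>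
      hsing _ (by rw [hypExt_apply (Q := hypExt P₀)]; simp)
    have e : w = ((-hypExt P₀ w.2.2, 1, w.2.2) : F × F × (F × F × V₀))
        + (w.1 + hypExt P₀ w.2.2, 0, 0) + (0, w.2.1 - 1, 0) := by
      refine Prod.ext ?_ (Prod.ext ?_ ?_) <;> simp
    rw [e]
    exact Φ.add_mem (Φ.add_mem (hsing _ (by rw [hypExt_apply (Q := hypExt P₀)]; simp)) (hx' _)) (hy' _)
  -- carry the fixed points of the opposite radical to the first one
  set b₀ : F × F × (F × F × V₀) := (1, 1, 0) with hb₀
  have hQb : hypExt (hypExt P₀) b₀ ≠ 0 := by simp [hb₀, hypExt_apply (Q := hypExt P₀)]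
  set ω : Grp (hypExt P₀) := ⟨swapB (hypExt (hypExt P₀)) b₀, swapB_mem b₀⟩ with hω
  have hωrad : ∀ a, ∃ a', ω * rad (hypExt P₀) a = opp (hypExt P₀) a' * ω := fun a =>
    ⟨_, Subtype.ext (swapB_siegel hQb a)⟩
  set E := eImages (hypExt P₀) A with hEdef
  have hk : ∀ A' : E, ∃ k : eichlerGroup (hypExt P₀), img k.1 A = A'.1 := fun A' => A'.2
  choose kf hkf using hk
  let p : E → X := fun A' => ind (hypExt P₀) (kf A') • x₁
  have hpfix : ∀ A' : E, fixer (hypExt P₀) (p A') = A'.1 := fun A' => by
    show fixer (hypExt P₀) (ind (hypExt P₀) (kf A') • x₁) = _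
    rw [fixer_smul (acts_ind _), hA1, hkf]
  have hptop : ∀ (A' : E) w, opp (hypExt P₀) w • p A' = p A' := fun A' w => by
    show opp (hypExt P₀) w • ind (hypExt P₀) (kf A') • x₁ = ind (hypExt P₀) (kf A') • x₁
    have e : w = (kf A').1 ((kf A').1.symm w) := ((kf A').1.apply_symm_apply w).symm
    rw [smul_smul, e, ← ind_opp, mul_smul, htop]
  have hifix : ∀ (A' : E) a, rad (hypExt P₀) a • (ω⁻¹ • p A') = ω⁻¹ • p A' := fun A' a => by
    obtain ⟨a', ha'⟩ := hωrad a
    rw [eq_inv_smul_iff, smul_smul, smul_smul, ha', mul_inv_cancel_right, hptop]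
  have hitop : ∀ A' : E, fixer (hypExt P₀) (ω⁻¹ • p A') = ⊤ :=
    fun A' => (AddSubgroup.eq_top_iff' _).2 fun a => hifix A' a
  have hcardp : ∀ A' : E, Nat.card A'.1 = q ^ 3 := fun A' => by
    rw [← hkf A', card_img, hx]
  have hne36 : q ^ 3 ≠ q ^ 6 := fun h => by
    have := Nat.pow_right_injective hq1 h
    omega
  have := Fintype.ofFinite E
  have hsum := sum_index_le (P := hypExt P₀)
    (Sum.elim p (fun A' : E => ω⁻¹ • p A')) (by
      rintro (A' | A') (B' | B') ⟨a, ha⟩ <;> simp only [Sum.elim_inl, Sum.elim_inr] at ha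
      · congr 1
        apply Subtype.ext
        rw [← hpfix A', ← hpfix B', ← ha, fixer_rad]
      · exfalso
        refine hne36 ?_
        rw [← hcardp A', ← hW, ← hpfix A', ← fixer_rad a (p A'), ha, hitop, AddSubgroup.card_top]
      · exfalso
        refine hne36 ?_
        rw [← hcardp B', ← hW, ← hpfix B', ← ha, fixer_rad, hitop, AddSubgroup.card_top]
      · congr 1
        apply Subtype.ext
        rw [hifix, smul_left_cancel_iff] at ha
        rw [← hpfix A', ← hpfix B', ha])
  rw [Fintype.sum_sum_type] at hsum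
  simp only [Sum.elim_inl, Sum.elim_inr, hitop, AddSubgroup.index_top, hpfix] at hsum
  have hi : ∀ A' : E, (A'.1).index = q ^ 3 := fun A' => by
    have := (A'.1).card_mul_index
    rw [hcardp, hW, show q ^ 6 = q ^ 3 * q ^ 3 by ring] at this
    exact Nat.eq_of_mul_eq_mul_left (pow_pos (by omega) _) this
  simp only [hi, Finset.sum_const, smul_eq_mul, Finset.card_univ, mul_one] at hsum
  rw [← Nat.card_eq_fintype_card, Nat.card_coe_set_eq, ← Nat.mul_add_one] at hsum
  have := Nat.mul_le_mul_right (q ^ 3 + 1) hE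
  omega

/-- dimension four -/
theorem subsingleton_four (hP₀ : ∀ z, (∀ w, polar P₀ z w = 0) → z = 0)
    [MulAction.IsPretransitive (Grp (hypExt P₀)) X]
    (hd : Module.finrank F V₀ = 2) (hX : Nat.card X < fourBound (Nat.card F))
    (hX2 : Nat.card F = 2 → Nat.card X < 120)
    (hminus : Nat.card F = 3 → cnt P₀ 0 + 1 ≠ 2 * Nat.card F)
    (h2 : Nat.card X < 2 * Nat.card (F × F × (F × F × V₀)))
    (hN : (Nat.card F - 1) * Nat.card X + 1 < (Nat.card F - 1) * Nat.card (F × F × (F × F × V₀))
      + Nat.card F * cnt (hypExt (hypExt P₀)) 0)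
    (hc : ∀ c : F, c ≠ 0 → Nat.card {t : F // t * t = 1} * Nat.card X <
      Nat.card {t : F // t * t = 1} * Nat.card (F × F × (F × F × V₀))
        + Nat.card F * cnt (hypExt (hypExt P₀)) c) :
    Subsingleton X := by
  classical
  have := Fintype.ofFinite F
  set q := Nat.card F with hq
  have hq2 : 2 ≤ q := Finite.one_lt_card
  have hfU : Module.finrank F (F × F × V₀) = 4 := by
    simp only [Module.finrank_prod, Module.finrank_self, hd]
  have hbot : ∀ x : X, fixer (hypExt P₀) x ≠ ⊥ := by
    intro x hx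
    refine false_of_fixer_bot hP₀ x hx (fun y => ?_) h2 hN hc
    rcases high_four hP₀ hd hX hX2 y with h | h
    · exact Or.inl h
    · rw [hfU]
      rcases h.lt_or_eq with h | h
      · exact Or.inr h
      · exact (no_regular_four hP₀ hd hX hX2 hx h.symm).elim
  have hall : ∀ z : X, q ^ 3 ≤ Nat.card (fixer (hypExt P₀) z) := fun z =>
    (high_four hP₀ hd hX hX2 z).resolve_left (hbot z)
  by_cases hex : ∃ x : X, Nat.card (fixer (hypExt P₀) x) = q ^ 3
  · exfalso
    obtain ⟨x, hx⟩ := hex
    have hs := fun v hv => all_singular_four hP₀ hd hall hX x hx (v := v) hv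
    obtain ⟨-, hc0, hE⟩ := images_three hP₀ hd hs (finrank_le_of_card _ hx.ge)
    by_cases hq4 : 4 ≤ q
    · exact false_of_three hP₀ hd hall hX hq4 x hx
    · rcases (by omega : q = 2 ∨ q = 3) with h | h
      · have h1 := (images_le_four hd hX hx).1
        have h3 := hE.trans (Set.ncard_le_ncard (eImages_subset _) (Set.toFinite _))
        rw [← hq, h] at h1 h3
        norm_num at h1 h3
        have := hX2 h
        omega
      · exact hminus h hc0
  · push Not at hex
    refine subsingleton_of_large (iso_hypExt hP₀) (by omega) (by omega) ?_ fun x => ?_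
    · rw [show Nat.card (SingVec (hypExt (hypExt P₀))) = (sqClass (hypExt P₀) 0).ncard from ?_,
        singular_ncard, (four_cards (F := F) (V₀ := V₀) hd).2.1, ← hq]
      · have h := level_four (P₀ := P₀) hd 0
        rw [← hq] at h
        obtain ⟨r, hr⟩ : ∃ r, q = r + 1 := ⟨q - 1, by omega⟩
        rw [hr, add_tsub_cancel_right, Nat.mul_add] at h
        rw [hr, add_tsub_cancel_right]
        have : 1 ≤ r * (r + 1) ^ 3 := Nat.mul_pos (by omega) (pow_pos (by omega) _)
        omega
      · refine Nat.card_congr (Equiv.subtypeEquivRight fun w => ?_)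
        exact ⟨fun h => ⟨h.2, 1, one_ne_zero, by simpa using h.1⟩,
          fun h => ⟨by obtain ⟨μ, -, hw⟩ := h.2; simpa using hw, h.1⟩⟩
    · rw [hfU]
      exact lt_of_le_of_ne (hall x) (Ne.symm (hex x))

end Cfsg.Agent.Lib.MinIndexOrth
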