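import Cfsg.Agent.Lib.MinIndexOrth.Minus
import Cfsg.Agent.Lib.Classical.EichlerStandard

/-!
From the groups of towers of planes to `PΩ` of the standard forms: lower bounds on indices and stabilisers of lines.
-/

set_option autoImplicit false
set_option linter.unusedSectionVars false

namespace Cfsg.Agent.Lib.MinIndexOrth

open QuadraticMap
open Cfsg.Agent.Lib.Classical Cfsg.Agent.Lib.MinDegree.Orth

universe u

variable {F : Type u} [Field F]

section lineStab

variable {W : Type*} [AddCommGroup W] [Module F W]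

/-- the elements fixing the line of `v` -/
def lineStab (G : Subgroup (W ≃ₗ[F] W)) (v : W) : Subgroup G where
  carrier := {g | ∃ μ : F, μ ≠ 0 ∧ g.1 v = μ • v}
  one_mem' := ⟨1, one_ne_zero, (one_smul F v).symm⟩
  mul_mem' := by
    rintro g h ⟨a, ha, hga⟩ ⟨b, hb, hhb⟩
    refine ⟨b * a, mul_ne_zero hb ha, ?_⟩
    show g.1 (h.1 v) = _
    rw [hhb, map_smul, hga, smul_smul]
  inv_mem' := by
    rintro g ⟨a, ha, hga⟩
    refine ⟨a⁻¹, inv_ne_zero ha, ?_⟩
    show g.1.symm v = _
    rw [LinearEquiv.symm_apply_eq, map_smul, hga, smul_smul, inv_mul_cancel₀ ha, one_smul]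

/-- orbit of a line from the orbit of its vectors -/
theorem index_lineStab [Finite F] [Finite W] {G : Subgroup (W ≃ₗ[F] W)} {S : W → Prop} {v : W}
    (hv0 : v ≠ 0) (hvS : S v) (hstab : ∀ g ∈ G, ∀ w, S w → S (g w))
    (hscal : ∀ μ : F, μ ≠ 0 → ∀ w, S w → S (μ • w)) (htrans : ∀ w, S w → ∃ g ∈ G, g v = w) :
    (lineStab G v).index * (Nat.card F - 1) = Nat.card {w : W // S w} := by
  rw [Subgroup.index_eq_card, ← Nat.card_units, ← Nat.card_prod]
  refine Nat.card_congr (Equiv.ofBijective (fun p => ⟨(p.2 : F) • (Quotient.out p.1).1 v,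
    hscal _ p.2.ne_zero _ (hstab _ (Quotient.out p.1).2 _ hvS)⟩) ⟨?_, ?_⟩)
  · rintro ⟨x, μ⟩ ⟨y, ν⟩ e
    have e' : (μ : F) • (Quotient.out x).1 v = (ν : F) • (Quotient.out y).1 v := congrArg Subtype.val e
    have hxy : x = y := by
      rw [← QuotientGroup.out_eq' x, ← QuotientGroup.out_eq' y, QuotientGroup.eq]
      refine ⟨(μ : F) * (ν : F)⁻¹, mul_ne_zero μ.ne_zero (inv_ne_zero ν.ne_zero), ?_⟩
      show (Quotient.out x).1.symm ((Quotient.out y).1 v) = _
      rw [LinearEquiv.symm_apply_eq, map_smul, mul_comm, ← smul_smul, e', smul_smul,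
        inv_mul_cancel₀ ν.ne_zero, one_smul]
    subst hxy
    have hw : (Quotient.out x).1 v ≠ 0 := fun h => hv0 ((LinearEquiv.map_eq_zero_iff _).1 h)
    exact Prod.ext rfl (Units.ext (smul_left_injective F hw e'))
  · rintro ⟨w, hw⟩
    obtain ⟨g, hg, hgv⟩ := htrans w hw
    obtain ⟨l, hl⟩ : ∃ l : lineStab G v,
        (Quotient.out (QuotientGroup.mk (s := lineStab G v) (⟨g, hg⟩ : G))) = ⟨g, hg⟩ * (l : G) :=
      QuotientGroup.mk_out_eq_mul (lineStab G v) ⟨g, hg⟩
    obtain ⟨μ, hμ, hlv⟩ := l.2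
    refine ⟨(QuotientGroup.mk ⟨g, hg⟩, (Units.mk0 μ hμ)⁻¹), Subtype.ext ?_⟩
    show ((Units.mk0 μ hμ)⁻¹ : Fˣ).1 • (Quotient.out (QuotientGroup.mk (s := lineStab G v) (⟨g, hg⟩ : G))).1 v = w
    rw [hl]
    show ((Units.mk0 μ hμ)⁻¹ : Fˣ).1 • g ((l : G).1 v) = w
    rw [hlv, map_smul, hgv, smul_smul, Units.val_inv_eq_inv_val, Units.val_mk0, inv_mul_cancel₀ hμ, one_smul]

end lineStab

section link

variable {ι : Type} [Fintype ι] [DecidableEq ι] {V : Type*} [AddCommGroup V] [Module F V]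
  [FiniteDimensional F V] {P : QuadraticForm F (ι → F)} {Q : QuadraticForm F V} {e f : V}
  {G : Type*} [Group G]

/-- onto `PΩ` -/
noncomputable def pomHom (M : TwoPlaneModel P Q) (h : IsotropicNondeg Q e f)
    (σ : G ≃* eichlerGroup (hypExt Q)) : G →* Cfsg.POmega F ⇑P :=
  (QuotientGroup.mk' (Subgroup.center (Cfsg.Omega F ⇑P))).comp (σ.trans (M.omegaEquiv h).symm).toMonoidHom

theorem pomHom_surjective (M : TwoPlaneModel P Q) (h : IsotropicNondeg Q e f)
    (σ : G ≃* eichlerGroup (hypExt Q)) : Function.Surjective (pomHom M h σ) :=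
  (QuotientGroup.mk'_surjective _).comp (σ.trans (M.omegaEquiv h).symm).surjective

theorem ker_pomHom (M : TwoPlaneModel P Q) (h : IsotropicNondeg Q e f)
    (σ : G ≃* eichlerGroup (hypExt Q)) : (pomHom M h σ).ker = Subgroup.center G := by
  rw [pomHom, ← MonoidHom.comap_ker, QuotientGroup.ker_mk', ← map_center_mulEquiv (σ.trans (M.omegaEquiv h).symm)]
  exact Subgroup.comap_map_eq_self_of_injective (σ.trans (M.omegaEquiv h).symm).injective _

end link

section tower

variable [Fintype F] {ι : Type} [Fintype ι] [DecidableEq ι] {P : QuadraticForm F (ι → F)}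
  {B : QSp F} {k : ℕ}

/-- the group of the tower is the group of the model -/
noncomputable def towerGroupEquiv (B : QSp F) (k : ℕ) :
    Grp (hypExt (tw B k).form) ≃* eichlerGroup (hypExt (hypTower (k + 1) B.form)) :=
  eichlerCongr (Q := hypExt (tw B (k + 1)).form) (Q' := hypExt (hypTower (k + 1) B.form))
    ((LinearEquiv.refl F F).prodCongr ((LinearEquiv.refl F F).prodCongr (twTower B (k + 1))))
    fun v => by
      rw [hypExt_apply, hypExt_apply]
      show v.1 * v.2.1 + hypTower (k + 1) B.form (twTower B (k + 1) v.2.2) = _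
      rw [twTower_spec]

/-- lower bound -/
theorem index_ge_of_smallTrivial (M : TwoPlaneModel P (hypTower (k + 1) B.form))
    (hB : ∀ z, (∀ w, polar B.form z w = 0) → z = 0) {T : ℕ}
    (hT : SmallTrivial (Grp (hypExt (tw B k).form)) T) :
    ∀ H : Subgroup (Cfsg.POmega F ⇑P), H ≠ ⊤ → T ≤ H.index :=
  haveI : Finite ((F × F × (F × F × (F × F × (tw B k).carrier))) ≃ₗ[F] (F × F × (F × F × (F × F × (tw B k).carrier)))) :=
    Finite.of_injective _ DFunLike.coe_injective
  hT.index _ (pomHom_surjective M (isotropicNondeg_hypTower hB k) (towerGroupEquiv B k))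

/-- stabiliser of a line -/
theorem exists_index_line (M : TwoPlaneModel P (hypTower (k + 1) B.form))
    (hB : ∀ z, (∀ w, polar B.form z w = 0) → z = 0) {c : F} (hc : ∀ μ : F, μ ≠ 0 → μ * μ * c = c)
    {v : (tw B (k + 3)).carrier} (hv : (tw B (k + 3)).form v = c ∧ v ≠ 0) {T : ℕ}
    (hcount : T * (Nat.card F - 1) = Nat.card {w : (tw B (k + 3)).carrier // (tw B (k + 3)).form w = c ∧ w ≠ 0}) :
    ∃ H : Subgroup (Cfsg.POmega F ⇑P), H.index = T := by
  set Q : QuadraticForm F (F × F × (F × F × (F × F × (tw B k).carrier))) :=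
    hypExt (hypExt (hypExt (tw B k).form)) with hQ
  have hI : IsotropicNondeg (hypExt (hypExt (tw B k).form)) (1, 0, 0) (0, 1, 0) :=
    iso_hypExt (nondeg_hypExt (tw_nondeg hB k))
  have hidx : (lineStab (Grp (hypExt (tw B k).form)) v).index * (Nat.card F - 1)
      = Nat.card {w : F × F × (F × F × (F × F × (tw B k).carrier)) // Q w = c ∧ w ≠ 0} := by
    refine index_lineStab (S := fun w => Q w = c ∧ w ≠ 0) hv.2 hv ?_ ?_ ?_
    · intro g hg w hw
      exact ⟨(eichlerGroup_le _ hg w).trans hw.1, fun h => hw.2 ((LinearEquiv.map_eq_zero_iff g).1 h)⟩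
    · intro μ hμ w hw
      exact ⟨by rw [QuadraticMap.map_smul, hw.1, smul_eq_mul, hc μ hμ], smul_ne_zero hμ hw.2⟩
    · intro w hw
      obtain ⟨g, hg, hgv⟩ := eichler_move hI v hv.2
      obtain ⟨g', hg', hgw⟩ := eichler_move hI w hw.2
      refine ⟨g' * g⁻¹, mul_mem hg' (inv_mem hg), ?_⟩
      show g' (g.symm v) = w
      have h1 : hypExt (hypExt (hypExt (tw B k).form)) v = c := hv.1
      have h2 : hypExt (hypExt (hypExt (tw B k).form)) w = c := hw.1
      rw [h1] at hgv
      rw [h2] at hgw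
      rw [← hgw]
      exact congrArg g' ((LinearEquiv.symm_apply_eq g).2 hgv.symm)
  set φ := pomHom M (isotropicNondeg_hypTower hB k) (towerGroupEquiv B k) with hφ
  refine ⟨(lineStab (Grp (hypExt (tw B k).form)) v).map φ, ?_⟩
  rw [Subgroup.index_map_eq _ (pomHom_surjective _ _ _)]
  · have hq : 0 < Nat.card F - 1 := by
      have : 1 < Nat.card F := Finite.one_lt_card
      omega
    exact Nat.eq_of_mul_eq_mul_right hq (hidx.trans hcount.symm)
  · rw [ker_pomHom]
    intro z hz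
    obtain ⟨μ, hμ, hx⟩ := eichler_center_scalar hI z hz
    exact ⟨μ, fun h => by simp [h] at hμ, hx v⟩

theorem natCard_ne_zero_level {W : Type*} [AddCommGroup W] [Module F W] [Finite W] (Q : QuadraticForm F W)
    (c : F) [Decidable (c = 0)] : Nat.card {w : W // Q w = c ∧ w ≠ 0} + (if c = 0 then 1 else 0) = cnt Q c := by
  classical
  split_ifs with h
  · subst h
    have e : cnt Q 0 = Nat.card {w : W // (Q w = 0 ∧ w ≠ 0) ∨ w = 0} :=
      Nat.card_congr (Equiv.subtypeEquivRight fun w => ⟨fun hw => (em (w = 0)).elim Or.inr fun h0 => Or.inl ⟨hw, h0⟩,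
        fun hw => hw.elim And.left fun h0 => by rw [h0, map_zero]⟩)
    rw [e, Nat.card_congr (subtypeOrEquiv (fun w => Q w = 0 ∧ w ≠ 0) (· = 0) ?_), Nat.card_sum]
    · rw [show Nat.card {w : W // w = 0} = 1 from Nat.card_eq_one_iff_unique.2 ⟨⟨fun a b => Subtype.ext (a.2.trans b.2.symm)⟩, ⟨⟨0, rfl⟩⟩⟩]
    · rw [disjoint_iff_inf_le]
      exact fun w hw => hw.1.2 hw.2
  · rw [add_zero]
    exact Nat.card_congr (Equiv.subtypeEquivRight fun w =>
      ⟨And.left, fun hw => ⟨hw, fun h0 => h (by rw [← hw, h0, map_zero])⟩⟩)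

/-- a singular point -/
theorem exists_singular (B : QSp F) (k : ℕ) :
    ∃ v : (tw B (k + 3)).carrier, (tw B (k + 3)).form v = 0 ∧ v ≠ 0 :=
  ⟨((1 : F), (0 : F), (0 : (tw B (k + 2)).carrier)),
    by show hypExt (tw B (k + 2)).form ((1 : F), (0 : F), (0 : (tw B (k + 2)).carrier)) = 0
       simp [hypExt_apply],
    fun h => one_ne_zero (congrArg Prod.fst h :)⟩

/-- singular points -/
theorem exists_index_point (M : TwoPlaneModel P (hypTower (k + 1) B.form))
    (hB : ∀ z, (∀ w, polar B.form z w = 0) → z = 0) {T : ℕ}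
    (hcount : T * (Nat.card F - 1) + 1 = cnt (tw B (k + 3)).form 0) :
    ∃ H : Subgroup (Cfsg.POmega F ⇑P), H.index = T := by
  obtain ⟨v, hv⟩ := exists_singular B k
  refine exists_index_line M hB (fun μ _ => mul_zero _) hv ?_
  classical
  have := natCard_ne_zero_level (tw B (k + 3)).form 0
  rw [if_pos rfl] at this
  omega

/-- non-singular points -/
theorem exists_index_level (M : TwoPlaneModel P (hypTower (k + 1) B.form))
    (hB : ∀ z, (∀ w, polar B.form z w = 0) → z = 0) {c : F} (hc0 : c ≠ 0)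
    (hc : ∀ μ : F, μ ≠ 0 → μ * μ * c = c) {T : ℕ} (hTpos : 0 < T)
    (hcount : T * (Nat.card F - 1) = cnt (tw B (k + 3)).form c) :
    ∃ H : Subgroup (Cfsg.POmega F ⇑P), H.index = T := by
  classical
  have hcard := natCard_ne_zero_level (tw B (k + 3)).form c
  rw [if_neg hc0, add_zero, ← hcount] at hcard
  have hpos : 0 < T * (Nat.card F - 1) := Nat.mul_pos hTpos (by
    have : 1 < Nat.card F := Finite.one_lt_card
    omega)
  rw [← hcard] at hpos
  obtain ⟨⟨v, hv⟩⟩ := (Nat.card_pos_iff.1 hpos).1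
  exact exists_index_line M hB hc hv hcard.symm

end tower

end Cfsg.Agent.Lib.MinIndexOrth
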