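import Cfsg.Agent.Lib.MinIndexOrth.Regular

/-!
Small stabilisers in the radical give too many points: by recursion in dimension five and more,
by counting square classes and totally singular lines in dimension three.
-/

set_option autoImplicit false
set_option linter.unusedSectionVars false

namespace Cfsg.Agent.Lib.MinIndexOrth

open QuadraticMap
open Cfsg.Agent.Lib.Classical Cfsg.Agent.Lib.MinDegree.Orth

variable {F : Type*} [Field F] [Finite F]

section general

variable {U : Type*} [AddCommGroup U] [Module F U] [Finite U] {P : QuadraticForm F U}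

/-- invariant additive subgroups are trivial -/
theorem eq_bot_or_top_of_invariant [Nontrivial U] {e f : U} (h : IsotropicNondeg P e f)
    {A : AddSubgroup (F × F × U)} (hA : ∀ k : eichlerGroup P, img k.1 A = A) : A = ⊥ ∨ A = ⊤ := by
  classical
  by_cases hb : A = ⊥
  · exact Or.inl hb
  right
  have hmove : ∀ (k : eichlerGroup P) u, u ∈ A → k.1 u - u ∈ A := fun k u hu => by
    refine A.sub_mem ?_ hu
    rw [← hA k, mem_img]
    show k.1.symm (k.1 u) ∈ A
    rwa [k.1.symm_apply_apply]
  obtain ⟨v, hv, hv0⟩ : ∃ v ∈ A, v ≠ 0 := by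
    by_contra hne
    push Not at hne
    exact hb ((AddSubgroup.eq_bot_iff_forall A).2 hne)
  have hv1 : ((1, hypExt P v, 0) : F × F × U) ∈ A := by
    obtain ⟨k, hk, hkv⟩ := eichler_move h v hv0
    rw [← hA ⟨k, hk⟩, ← hkv, mem_img] at hv
    rw [show k⁻¹ (k (1, hypExt P v, 0)) = (1, hypExt P v, 0) from k.symm_apply_apply _] at hv
    exact hA ⟨k, hk⟩ ▸ hv
  have hmid : ∀ c : U, ((0, -P c, c) : F × F × U) ∈ A := fun c => by
    convert hmove ⟨hypSiegel' P c, hypSiegel'_mem_eichler _ _⟩ _ hv1 using 1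
    rw [hypSiegel'_apply]
    refine Prod.ext ?_ (Prod.ext ?_ ?_) <;> simp
  have hy : ∀ t : F, ((0, t, 0) : F × F × U) ∈ A := fun t => by
    obtain ⟨z, hz⟩ := exists_ne (0 : U)
    obtain ⟨w, hw⟩ : ∃ w, polar P z w ≠ 0 := by
      by_contra hne; push Not at hne; exact hz (h.nondeg z hne)
    have := A.sub_mem (A.add_mem (hmid ((t / polar P z w) • z)) (hmid w))
      (hmid ((t / polar P z w) • z + w))
    convert this using 1
    rw [QuadraticMap.map_add (⇑P), polar_smul_left, smul_eq_mul, div_mul_cancel₀ _ hw]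
    refine Prod.ext ?_ (Prod.ext ?_ ?_) <;> simp; ring
  have hc : ∀ c : U, ((0, 0, c) : F × F × U) ∈ A := fun c => by
    convert A.add_mem (hmid c) (hy (P c)) using 1
    refine Prod.ext ?_ (Prod.ext ?_ ?_) <;> simp
  have hx : ∀ t : F, ((t, 0, 0) : F × F × U) ∈ A := fun t => by
    obtain ⟨z, hz⟩ := exists_ne (0 : U)
    obtain ⟨w, hw⟩ : ∃ w, polar P z w ≠ 0 := by
      by_contra hne; push Not at hne; exact hz (h.nondeg z hne)
    convert hmove (kS P ((-t / polar P z w) • z)) _ (hc w) using 1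
    show _ = hypSiegel P _ _ - _
    rw [hypSiegel_apply]
    refine Prod.ext ?_ (Prod.ext ?_ ?_) <;> simp [polar_smul_left]
    field_simp
  refine (AddSubgroup.eq_top_iff' A).2 fun u => ?_
  have e : u = (u.1, 0, 0) + (0, u.2.1, 0) + (0, 0, u.2.2) := by ext <;> simp
  rw [e]
  exact A.add_mem (A.add_mem (hx _) (hy _)) (hc _)

/-- sets covered by a family -/
theorem card_le_family_mul {α : Type*} [Finite α] (𝒜 : Set (AddSubgroup (F × F × U))) (T : Set α)
    (S : AddSubgroup (F × F × U) → Set α) (m : ℕ) (hm : ∀ A' ∈ 𝒜, (S A').ncard ≤ m)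
    (hcov : ∀ t ∈ T, ∃ A' ∈ 𝒜, t ∈ S A') : T.ncard ≤ 𝒜.ncard * m := by
  classical
  have hfin : 𝒜.Finite := Set.toFinite _
  have hsub : T ⊆ ⋃ A' ∈ hfin.toFinset, S A' := fun t ht => by
    obtain ⟨A', hA', h⟩ := hcov t ht
    exact Set.mem_biUnion (hfin.mem_toFinset.2 hA') h
  refine (Set.ncard_le_ncard hsub (Set.toFinite _)).trans ((Finset.set_ncard_biUnion_le _ _).trans ?_)
  refine (Finset.sum_le_sum fun A' hA' => hm A' (hfin.mem_toFinset.1 hA')).trans ?_
  rw [Finset.sum_const, smul_eq_mul, Set.ncard_eq_toFinset_card _ hfin]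

variable {X : Type*} [Finite X] [MulAction (Grp P) X]

/-- too many images -/
theorem false_of_images {y : X} {T : ℕ} (hX : Nat.card X < T)
    (h : T * Nat.card (fixer P y) ≤ (images P (fixer P y)).ncard * Nat.card (F × F × U)) : False := by
  rw [← (fixer P y).card_mul_index] at h
  have h1 := images_mul_le (P := P) y
  have ha : 0 < Nat.card (fixer P y) := Nat.card_pos
  have : T ≤ (images P (fixer P y)).ncard * (fixer P y).index :=
    Nat.le_of_mul_le_mul_right (h.trans_eq (by ring)) ha
  omega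

/-- cancelling the number of objects in one image -/
theorem false_of_count {y : X} {T N m : ℕ} (hX : Nat.card X < T) (hm : 0 < m)
    (hN : N ≤ (images P (fixer P y)).ncard * m)
    (h : T * Nat.card (fixer P y) * m ≤ N * Nat.card (F × F × U)) : False :=
  false_of_images hX (Nat.le_of_mul_le_mul_right
    (h.trans ((Nat.mul_le_mul_right _ hN).trans_eq (by ring))) hm)

/-- the recursion -/
theorem high_of_images [Nontrivial U] {J T : ℕ} (hX : Nat.card X < T)
    (hd : Module.finrank F U / 2 + 1 < Module.finrank F U + 2)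
    (hJ : ∀ A : AddSubgroup (F × F × U), A ≠ ⊥ → A ≠ ⊤ → J ≤ (images P A).ncard)
    (hT : T * Nat.card F ^ (Module.finrank F U / 2 + 1) ≤ J * Nat.card (F × F × U)) (y : X) :
    fixer P y = ⊥ ∨ Nat.card F ^ (Module.finrank F U / 2 + 1) < Nat.card (fixer P y) := by
  by_contra hne
  push Not at hne
  obtain ⟨hne, hle⟩ := hne
  refine false_of_images hX ((Nat.mul_le_mul_left T hle).trans
    (hT.trans (Nat.mul_le_mul_right _ (hJ _ hne ?_))))
  intro htop
  rw [htop, AddSubgroup.card_top] at hle
  have h2 : Nat.card (F × F × U) = Nat.card F ^ (Module.finrank F U + 2) := by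
    rw [Module.natCard_eq_pow_finrank (K := F)]
    simp only [Module.finrank_prod, Module.finrank_self]
    ring_nf
  rw [h2, Nat.pow_le_pow_iff_right Finite.one_lt_card] at hle
  omega

/-- the vectors of the square classes met by `A` -/
def classes (P : QuadraticForm F U) (A : AddSubgroup (F × F × U)) : Set (F × F × U) :=
  {w | ∃ v ∈ A, v ≠ 0 ∧ w ∈ sqClass P (hypExt P v)}

theorem classes_le_images {e f : U} (h : IsotropicNondeg P e f) (A : AddSubgroup (F × F × U)) :
    (classes P A).ncard ≤ (images P A).ncard * (Nat.card A - 1) :=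
  card_le_images_mul_vec P A _ (fun w hw => by
    obtain ⟨v, hv, hv0, hw0, μ, hμ, hw⟩ := hw
    obtain ⟨K, hK, e⟩ := exists_mover_level h hv0 hw0 hμ hw
    exact ⟨K, hK, e ▸ hv⟩) fun h => by
      obtain ⟨_, _, _, h0, _⟩ := h
      exact h0 rfl

/-- the zero class -/
theorem sqClass_zero_ncard (P : QuadraticForm F U) :
    (sqClass P 0).ncard + 1 = cnt (hypExt P) 0 := by
  have e : sqClass P 0 = {w | hypExt P w = 0} \ {0} := by
    ext w
    refine ⟨fun h => ⟨by obtain ⟨μ, -, hw⟩ := h.2; simpa using hw, h.1⟩,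
      fun h => ⟨h.2, 1, one_ne_zero, by simpa using h.1⟩⟩
  rw [e, Set.ncard_diff_singleton_add_one (by simp) (Set.toFinite _)]
  rfl

/-- a square class has half as many vectors as the units times a level -/
theorem le_two_mul_sqClass (P : QuadraticForm F U) (c : F) (hc : c ≠ 0) (L : ℕ)
    (hL : ∀ t : F, t ≠ 0 → L ≤ cnt (hypExt P) t) :
    (Nat.card F - 1) * L ≤ 2 * (sqClass P c).ncard := by
  classical
  have := Fintype.ofFinite F
  have := Fintype.ofFinite U
  let S := Σ μ : Fˣ, {w : F × F × U // hypExt P w = (μ : F) * μ * c}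
  have h1 : (Nat.card F - 1) * L ≤ Nat.card S := by
    rw [Nat.card_sigma, ← Nat.card_units, Nat.card_eq_fintype_card, ← smul_eq_mul,
      ← Finset.card_univ, ← Finset.sum_const]
    exact Finset.sum_le_sum fun μ _ => hL _ (mul_ne_zero (mul_ne_zero μ.ne_zero μ.ne_zero) hc)
  have hmem : ∀ s : S, s.2.1 ∈ sqClass P c := fun s =>
    ⟨fun h0 => mul_ne_zero (mul_ne_zero s.1.ne_zero s.1.ne_zero) hc (by
      rw [← s.2.2, h0, map_zero]), _, s.1.ne_zero, s.2.2⟩
  let ρ : sqClass P c → F := fun w => Classical.choose w.2.2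
  have hρ : ∀ w : sqClass P c, hypExt P w.1 = ρ w * ρ w * c :=
    fun w => (Classical.choose_spec w.2.2).2
  have h2 : Nat.card S ≤ Nat.card (Bool × sqClass P c) := by
    refine Nat.card_le_card_of_injective
      (fun s => (decide ((s.1 : F) = ρ ⟨_, hmem s⟩), ⟨_, hmem s⟩)) ?_
    rintro ⟨μ, w, hw⟩ ⟨μ', w', hw'⟩ e
    simp only [Prod.mk.injEq, Subtype.mk.injEq, decide_eq_decide] at e
    obtain ⟨e1, rfl⟩ := e
    have hr := hρ ⟨w, hmem ⟨μ, w, hw⟩⟩
    set r := ρ ⟨w, hmem ⟨μ, w, hw⟩⟩
    have hμ : ∀ t : F, hypExt P w = t * t * c → t = r ∨ t = -r := fun t ht =>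
      mul_self_eq_mul_self_iff.1 (mul_right_cancel₀ hc (ht.symm.trans hr))
    have : μ = μ' := Units.ext (by
      by_cases hA : (μ : F) = r
      · rw [hA, e1.1 hA]
      · rw [(hμ _ hw).resolve_left hA, (hμ _ hw').resolve_left (mt e1.2 hA)])
    subst this
    rfl
  rw [Nat.card_prod, Nat.card_eq_fintype_card (α := Bool), Fintype.card_bool,
    Nat.card_coe_set_eq] at h2
  omega

/-- singular additive groups are totally orthogonal -/
theorem orth_of_singular {A : AddSubgroup (F × F × U)} (hA : ∀ v ∈ A, hypExt P v = 0)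
    {v w : F × F × U} (hv : v ∈ A) (hw : w ∈ A) : polar (hypExt P) v w = 0 := by
  rw [polar, hA _ (A.add_mem hv hw), hA _ hv, hA _ hw, sub_zero, sub_zero]

theorem span_singular {A : AddSubgroup (F × F × U)} (hA : ∀ v ∈ A, hypExt P v = 0)
    {v : F × F × U} (hv : v ∈ Submodule.span F (A : Set (F × F × U))) :
    hypExt P v = 0 ∧ ∀ w ∈ A, polar (hypExt P) v w = 0 := by
  refine Submodule.span_induction (p := fun v _ => hypExt P v = 0 ∧ ∀ w ∈ A, polar (hypExt P) v w = 0)
    (fun u hu => ⟨hA u hu, fun w hw => orth_of_singular hA hu hw⟩)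
    ⟨map_zero _, fun w _ => polar_zero_left _ _⟩ ?_ ?_ hv
  · intro u u' hu hu' h h'
    refine ⟨?_, fun w hw => by rw [polar_add_left, h.2 w hw, h'.2 w hw, add_zero]⟩
    have : polar (hypExt P) u u' = 0 := by
      refine Submodule.span_induction (p := fun x _ => polar (hypExt P) u x = 0) h.2
        (polar_zero_right _ _) (fun a b _ _ ha hb => by rw [polar_add_right, ha, hb, add_zero])
        (fun r a _ ha => by rw [polar_smul_right, ha, smul_zero]) hu'
    rw [QuadraticMap.map_add (⇑(hypExt P)), h.1, h'.1, this]; simp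
  · intro r u _ h
    exact ⟨by rw [QuadraticMap.map_smul, h.1, smul_zero],
      fun w hw => by rw [polar_smul_left, h.2 w hw, smul_zero]⟩

theorem two_mul_finrank_span (hP : ∀ z, (∀ w, polar P z w = 0) → z = 0)
    {A : AddSubgroup (F × F × U)} (hA : ∀ v ∈ A, hypExt P v = 0) :
    2 * Module.finrank F (Submodule.span F (A : Set (F × F × U))) ≤ Module.finrank F U + 2 := by
  have h := finrank_add_le_of_orth (P := hypExt P) (nondeg_hypExt hP) (S := (A : Set (F × F × U)))
    (T := (A : Set (F × F × U))) fun v hv w hw => orth_of_singular hA hv hw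
  simp only [Module.finrank_prod, Module.finrank_self] at h
  omega

end general

section plane

variable {V₀ : Type*} [AddCommGroup V₀] [Module F V₀] [Finite V₀] [Nontrivial V₀]
variable {P₀ : QuadraticForm F V₀}

/-- many pairs -/
theorem le_card_pairs (hP₀ : ∀ z, (∀ w, polar P₀ z w = 0) → z = 0) :
    (cnt (hypExt (hypExt P₀)) 0 - 1) * (Nat.card F * (cnt (hypExt P₀) 0 - 1))
      ≤ (pairs (hypExt P₀)).ncard := by
  classical
  have := Fintype.ofFinite F
  have hI := iso_hypExt hP₀
  let α := {v : F × F × (F × F × V₀) // v ≠ 0 ∧ hypExt (hypExt P₀) v = 0}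
  let β := {c : F × F × V₀ // c ≠ 0 ∧ hypExt P₀ c = 0}
  have hmove : ∀ v : α, ∃ k : eichlerGroup (hypExt P₀), k.1 (1, 0, 0) = v.1 := fun v => by
    obtain ⟨k, hk, e⟩ := eichler_move_singular hI v.1 v.2.1 v.2.2
    exact ⟨⟨k, hk⟩, e⟩
  choose k hk using hmove
  let g : α × (F × β) → pairs (hypExt P₀) := fun s =>
    ⟨((k s.1).1 (1, 0, 0), (k s.1).1 (s.2.1, 0, s.2.2.1)), by
      refine ⟨?_, ?_, ?_, ?_, fun r hr => ?_⟩
      · rw [hk]; exact s.1.2.2
      · rw [hk]; exact s.1.2.1
      · rw [eichlerGroup_le _ (k s.1).2, hypExt_apply (Q := hypExt P₀)]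
        simp [s.2.2.2.2]
      · rw [isometry_polar (eichlerGroup_le _ (k s.1).2), polar_hypExt (Q := hypExt P₀)]
        simp
      · rw [← map_smul] at hr
        have := congrArg (fun w : F × F × (F × F × V₀) => w.2.2) ((k s.1).1.injective hr)
        simp at this
        exact s.2.2.2.1 this⟩
  have hg : Function.Injective g := by
    rintro ⟨v, t, c⟩ ⟨v', t', c'⟩ h
    have h1 : (k v).1 (1, 0, 0) = (k v').1 (1, 0, 0) := congrArg Prod.fst (congrArg Subtype.val h)
    have h2 : (k v).1 (t, 0, c.1) = (k v').1 (t', 0, c'.1) := congrArg Prod.snd (congrArg Subtype.val h)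
    rw [hk, hk] at h1
    have hv' : v' = v := Subtype.ext h1.symm
    subst v'
    have h3 := (k v).1.injective h2
    simp only [Prod.mk.injEq, true_and] at h3
    exact Prod.ext rfl (Prod.ext h3.1 (Subtype.ext h3.2))
  have h1 := Nat.card_le_card_of_injective g hg
  have hsub : ∀ {Z : Type _} [AddCommGroup Z] [Module F Z] [Finite Z] (Q : QuadraticForm F Z),
      Nat.card {v : Z // v ≠ 0 ∧ Q v = 0} = cnt Q 0 - 1 := by
    intro Z _ _ _ Q
    rw [show Nat.card {v : Z // v ≠ 0 ∧ Q v = 0} = ({v : Z | Q v = 0} \ {0}).ncard from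
      Nat.card_congr (Equiv.subtypeEquivRight fun v => and_comm),
      Set.ncard_diff_singleton_of_mem (by simp)]
    rfl
  rw [Nat.card_prod, Nat.card_prod, hsub, hsub, Nat.card_coe_set_eq] at h1
  exact h1

/-- pairs are covered by the spans of the images -/
theorem pairs_le_eImages (hP₀ : ∀ z, (∀ w, polar P₀ z w = 0) → z = 0)
    (A : AddSubgroup (F × F × (F × F × V₀)))
    {p : (F × F × (F × F × V₀)) × (F × F × (F × F × V₀))} (hp : p ∈ pairs (hypExt P₀))
    (h1 : p.1 ∈ Submodule.span F (A : Set _)) (h2 : p.2 ∈ Submodule.span F (A : Set _)) :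
    (pairs (hypExt P₀)).ncard ≤ (eImages (hypExt P₀) A).ncard *
      ((Nat.card (Submodule.span F (A : Set (F × F × (F × F × V₀)))) - 1) *
        (Nat.card (Submodule.span F (A : Set (F × F × (F × F × V₀)))) - Nat.card F)) := by
  classical
  set S := Submodule.span F (A : Set (F × F × (F × F × V₀))) with hS
  refine card_le_family_mul (eImages (hypExt P₀) A) (pairs (hypExt P₀)) (fun A' => {p' | p' ∈ pairs (hypExt P₀) ∧
    p'.1 ∈ Submodule.span F (A' : Set _) ∧ p'.2 ∈ Submodule.span F (A' : Set _)}) _ ?_ ?_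
  · rintro _ ⟨k, rfl⟩
    obtain ⟨K, hK⟩ := k
    set S' := Submodule.span F (img K A : Set (F × F × (F × F × V₀)))
    have hS' : Nat.card S' = Nat.card S := by
      have hmap : S.map (K : (F × F × (F × F × V₀)) →ₗ[F] F × F × (F × F × V₀)) = S' := by
        rw [hS, Submodule.map_span]
        refine congrArg (Submodule.span F) ?_
        ext w
        constructor
        · rintro ⟨u, hu, rfl⟩
          refine mem_img.2 ?_
          show K.symm (K u) ∈ A
          rw [K.symm_apply_apply]; exact hu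
        · intro hw
          exact ⟨_, mem_img.1 hw, K.apply_symm_apply w⟩
      rw [← hmap]
      exact (Nat.card_congr (K.submoduleMap S).toEquiv).symm
    rw [← hS']
    let W' := {u : S' // u ≠ 0}
    let Fib := fun u : W' => {w : S' // w ∉ Submodule.span F {u.1}}
    have hc : Nat.card (Σ u : W', Fib u) = (Nat.card S' - 1) * (Nat.card S' - Nat.card F) := by
      have := Fintype.ofFinite S'
      have := Fintype.ofFinite F
      have hf : ∀ u : W', Nat.card (Fib u) = Nat.card S' - Nat.card F := fun u => by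
        rw [Nat.card_eq_fintype_card, Fintype.card_subtype_compl, ← Nat.card_eq_fintype_card,
          ← Nat.card_eq_fintype_card]
        congr 1
        exact (Nat.card_congr (LinearEquiv.toSpanNonzeroSingleton F _ u.1 u.2).toEquiv).symm
      rw [Nat.card_sigma, Finset.sum_congr rfl fun u _ => hf u, Finset.sum_const, smul_eq_mul,
        Finset.card_univ]
      congr 1
      rw [Fintype.card_subtype_compl, Fintype.card_subtype_eq, Nat.card_eq_fintype_card]
    rw [← hc, ← Nat.card_coe_set_eq]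
    refine Nat.card_le_card_of_injective (fun p' : {p' | p' ∈ pairs (hypExt P₀) ∧ _} =>
      (⟨⟨⟨p'.1.1, p'.2.2.1⟩, fun h => p'.2.1.2.1 (congrArg Subtype.val h :)⟩,
        ⟨⟨p'.1.2, p'.2.2.2⟩, fun h => by
          obtain ⟨r, hr⟩ := Submodule.mem_span_singleton.1 h
          exact p'.2.1.2.2.2.2 r (congrArg Subtype.val hr :).symm⟩⟩ : Σ u : W', Fib u)) ?_
    intro a b hab
    have e1 := congrArg (fun s : Σ u : W', Fib u => ((s.1.1 : F × F × (F × F × V₀)), (s.2.1 : F × F × (F × F × V₀)))) hab
    exact Subtype.ext e1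
  · intro p' hp'
    obtain ⟨K, hK, hk1, hk2⟩ := exists_mover_pair hP₀ hp hp' S h1 h2
    have hmem : ∀ u : F × F × (F × F × V₀), K⁻¹ u ∈ S → u ∈ Submodule.span F (img K A : Set _) := by
      intro u hu
      have h3 := Submodule.mem_map_of_mem (f := (K : (F × F × (F × F × V₀)) →ₗ[F] F × F × (F × F × V₀))) hu
      rw [hS, Submodule.map_span] at h3
      have e : K (K⁻¹ u) = u := K.apply_symm_apply u
      simp only [LinearEquiv.coe_coe, e] at h3
      refine Submodule.span_mono ?_ h3
      rintro _ ⟨x, hx, rfl⟩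
      exact mem_img.2 (by rw [show K⁻¹ (K x) = x from K.symm_apply_apply x]; exact hx)
    exact ⟨img K A, ⟨⟨K, hK⟩, rfl⟩, hp', hmem _ hk1, hmem _ hk2⟩

theorem pairs_le_images (hP₀ : ∀ z, (∀ w, polar P₀ z w = 0) → z = 0)
    (A : AddSubgroup (F × F × (F × F × V₀)))
    {p : (F × F × (F × F × V₀)) × (F × F × (F × F × V₀))} (hp : p ∈ pairs (hypExt P₀))
    (h1 : p.1 ∈ Submodule.span F (A : Set _)) (h2 : p.2 ∈ Submodule.span F (A : Set _)) :
    (pairs (hypExt P₀)).ncard ≤ (images (hypExt P₀) A).ncard *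
      ((Nat.card (Submodule.span F (A : Set (F × F × (F × F × V₀)))) - 1) *
        (Nat.card (Submodule.span F (A : Set (F × F × (F × F × V₀)))) - Nat.card F)) :=
  (pairs_le_eImages hP₀ A hp h1 h2).trans
    (Nat.mul_le_mul_right _ (Set.ncard_le_ncard (eImages_subset A) (Set.toFinite _)))

/-- two independent vectors in a big totally singular span -/
theorem exists_pair_of_singular {A : AddSubgroup (F × F × (F × F × V₀))}
    (hA : ∀ v ∈ A, hypExt (hypExt P₀) v = 0)
    (hbig : 2 ≤ Module.finrank F (Submodule.span F (A : Set (F × F × (F × F × V₀))))) :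
    ∃ p ∈ pairs (hypExt P₀), p.1 ∈ Submodule.span F (A : Set _) ∧
      p.2 ∈ Submodule.span F (A : Set _) := by
  obtain ⟨v, hv, hv0⟩ : ∃ v ∈ A, v ≠ 0 := by
    by_contra hne
    push Not at hne
    have : Submodule.span F (A : Set (F × F × (F × F × V₀))) = ⊥ :=
      Submodule.span_eq_bot.2 hne
    rw [this, finrank_bot] at hbig
    omega
  obtain ⟨w, hw, hwv⟩ : ∃ w ∈ A, ∀ r : F, w ≠ r • v := by
    by_contra hne
    push Not at hne
    have hle : Submodule.span F (A : Set (F × F × (F × F × V₀))) ≤ Submodule.span F {v} :=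
      Submodule.span_le.2 fun w hw => by
        obtain ⟨r, hr⟩ := hne w hw
        exact Submodule.mem_span_singleton.2 ⟨r, hr.symm⟩
    have := Submodule.finrank_mono hle
    rw [finrank_span_singleton hv0] at this
    omega
  exact ⟨(v, w), ⟨hA v hv, hv0, hA w hw, orth_of_singular hA hv hw, hwv⟩,
    Submodule.subset_span hv, Submodule.subset_span hw⟩

variable {X : Type*} [Finite X] [MulAction (Grp (hypExt P₀)) X]

/-- a geometric sum below the next power -/
theorem sum_le_pow (r : ℕ) (hr : 1 ≤ r) :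
    (r + 1) ^ 5 + (r + 1) ^ 4 + (r + 1) ^ 3 + (r + 1) ^ 2 + (r + 1) + 1 ≤ (r + 1) ^ 6 := by
  have h : ((r + 1) ^ 5 + (r + 1) ^ 4 + (r + 1) ^ 3 + (r + 1) ^ 2 + (r + 1) + 1) * r + 1
      = (r + 1) ^ 6 := by ring
  nlinarith [Nat.le_mul_of_pos_right ((r + 1) ^ 5 + (r + 1) ^ 4 + (r + 1) ^ 3 + (r + 1) ^ 2 + (r + 1) + 1) hr]

theorem lines_arith (r : ℕ) (hr : 1 ≤ r) :
    ((r + 1) ^ 5 + (r + 1) ^ 4 + (r + 1) ^ 3 + (r + 1) ^ 2 + (r + 1) + 1) * (r + 1) ^ 2
      ≤ (r + 2) * (r * r + 2 * r + 2) * (r + 1) ^ 5 := by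
  refine (Nat.mul_le_mul_right _ (sum_le_pow r hr)).trans ?_
  calc (r + 1) ^ 6 * (r + 1) ^ 2 = (r + 1) * (r + 1) ^ 2 * (r + 1) ^ 5 := by ring
    _ ≤ _ := Nat.mul_le_mul_right _ (Nat.mul_le_mul (by omega) (by ring_nf; omega))

/-- dimension three -/
theorem high_three (hP₀ : ∀ z, (∀ w, polar P₀ z w = 0) → z = 0)
    (hd : Module.finrank F V₀ = 1) (h3 : 3 ≤ Nat.card F)
    (hX : Nat.card X < Nat.card F ^ 5 + Nat.card F ^ 4 + Nat.card F ^ 3 + Nat.card F ^ 2
      + Nat.card F + 1)
    (hX3 : Nat.card F = 3 → Nat.card X < 351) (y : X) :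
    fixer (hypExt P₀) y = ⊥ ∨
      Nat.card F ^ (Module.finrank F (F × F × V₀) / 2 + 1) < Nat.card (fixer (hypExt P₀) y) := by
  classical
  have := Fintype.ofFinite F
  set q := Nat.card F with hq
  set A := fixer (hypExt P₀) y with hA
  have hdU : Module.finrank F (F × F × V₀) = 3 := by
    simp only [Module.finrank_prod, Module.finrank_self, hd]
  by_contra hne
  push Not at hne
  obtain ⟨hne, hle⟩ := hne
  rw [hdU, show 3 / 2 + 1 = 2 from rfl] at hle
  have hV : Nat.card V₀ = q := by rw [Module.natCard_eq_pow_finrank (K := F), hd, pow_one]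
  have hU : Nat.card (F × F × V₀) = q ^ 3 := by rw [Nat.card_prod, Nat.card_prod, hV]; ring
  have hW : Nat.card (F × F × (F × F × V₀)) = q ^ 5 := by
    rw [Nat.card_prod, Nat.card_prod, hU]; ring
  have hU0 : ∀ c, cnt (hypExt (hypExt P₀)) c = (q - 1) * q ^ 3 + q * ((q - 1) * q + q * cnt P₀ c) := by
    intro c
    rw [← le_cnt_hypExt (P := hypExt P₀), hU, ← le_cnt_hypExt (P := P₀), hV]
  have hc0 : cnt P₀ 0 = 1 := by
    obtain ⟨b, hb⟩ := exists_nonsing hP₀
    have hb0 : b ≠ 0 := fun h => hb (by rw [h, map_zero])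
    have : Subsingleton {w : V₀ // P₀ w = 0} := by
      refine ⟨fun ⟨u, hu⟩ ⟨w, hw⟩ => Subtype.ext ?_⟩
      have h0 : ∀ u : V₀, P₀ u = 0 → u = 0 := fun u hu => by
        obtain ⟨r, rfl⟩ := exists_smul_eq_of_finrank_eq_one hd hb0 u
        rw [QuadraticMap.map_smul, smul_eq_mul, mul_eq_zero, mul_self_eq_zero] at hu
        rw [hu.resolve_right hb, zero_smul]
      exact (h0 u hu).trans (h0 w hw).symm
    have := cnt_pos (Q := P₀)
    have := Finite.card_le_one_iff_subsingleton.2 ‹Subsingleton {w : V₀ // P₀ w = 0}›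
    rw [cnt] at *
    omega
  obtain ⟨r, hr⟩ : ∃ r, q = r + 1 := ⟨q - 1, by omega⟩
  have hZ : cnt (hypExt (hypExt P₀)) 0 = q ^ 4 := by
    rw [hU0, hc0, hr, add_tsub_cancel_right]; ring
  have hlev : ∀ t : F, t ≠ 0 → q ^ 4 - q ^ 2 ≤ cnt (hypExt (hypExt P₀)) t := fun t _ => by
    rw [hU0, hr, add_tsub_cancel_right]
    refine Nat.sub_le_iff_le_add.2 ?_
    nlinarith [Nat.zero_le ((r + 1) * ((r + 1) * cnt P₀ t))]
  have hI := iso_hypExt hP₀
  by_cases hns : ∃ v ∈ A, hypExt (hypExt P₀) v ≠ 0
  · obtain ⟨v, hv, hQv⟩ := hns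
    have hv0 : v ≠ 0 := fun h => hQv (by rw [h, map_zero])
    have hcls := classes_le_images hI A
    have h1 := le_two_mul_sqClass (hypExt P₀) _ hQv _ hlev
    rw [← hq] at h1
    have hsub : sqClass (hypExt P₀) (hypExt (hypExt P₀) v) ⊆ classes (hypExt P₀) A :=
      fun w hw => ⟨v, hv, hv0, hw⟩
    have ha1 : 0 < Nat.card A - 1 := by
      have : Nat.card A ≠ 1 := fun h => hne (AddSubgroup.card_eq_one.1 h)
      have : 0 < Nat.card A := Nat.card_pos
      omega
    by_cases hq5 : 4 ≤ q
    · -- one class suffices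
      refine false_of_count hX ha1 ((Set.ncard_le_ncard hsub (Set.toFinite _)).trans hcls) ?_
      rw [hW]
      obtain ⟨s, hs⟩ : ∃ s, Nat.card A = s + 1 := ⟨Nat.card A - 1, by omega⟩
      obtain ⟨k, hk⟩ : ∃ k, q = k + 4 := ⟨q - 4, by omega⟩
      rw [show Nat.card A - 1 = s by omega, hs]
      have h4 : r * (q ^ 2 * (r * (q + 1))) ≤ 2 * (sqClass (hypExt P₀) (hypExt (hypExt P₀) v)).ncard := by
        refine le_trans ?_ h1
        rw [hr, add_tsub_cancel_right]
        refine Nat.mul_le_mul_left _ (Nat.le_sub_of_add_le ?_)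
        have : (r + 1) ^ 4 = (r + 1) ^ 2 * (r * (r + 1 + 1)) + (r + 1) ^ 2 := by ring
        omega
      have h5 : (s + 1) * s ≤ q ^ 2 * (r * (q + 1)) := by
        have h6 : s + 1 ≤ q ^ 2 := hs ▸ hle
        have h7 : s ≤ r * (q + 1) := by
          have : r * (q + 1) + 1 = q ^ 2 := by rw [hr]; ring
          omega
        exact Nat.mul_le_mul h6 h7
      have hN : 2 * (q ^ 5 + q ^ 4 + q ^ 3 + q ^ 2 + q + 1) ≤ r * q ^ 5 := by
        obtain rfl : r = k + 3 := by omega
        rw [hr]
        ring_nf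
        nlinarith [Nat.zero_le k, Nat.zero_le (k ^ 2), Nat.zero_le (k ^ 3), Nat.zero_le (k ^ 4),
          Nat.zero_le (k ^ 5), Nat.zero_le (k ^ 6)]
      have h8 : 2 * ((q ^ 5 + q ^ 4 + q ^ 3 + q ^ 2 + q + 1) * (s + 1) * s) ≤
          2 * ((sqClass (hypExt P₀) (hypExt (hypExt P₀) v)).ncard * q ^ 5) :=
        calc _ = 2 * (q ^ 5 + q ^ 4 + q ^ 3 + q ^ 2 + q + 1) * ((s + 1) * s) := by ring
          _ ≤ r * q ^ 5 * (q ^ 2 * (r * (q + 1))) := Nat.mul_le_mul hN h5
          _ = r * (q ^ 2 * (r * (q + 1))) * q ^ 5 := by ring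
          _ ≤ 2 * (sqClass (hypExt P₀) (hypExt (hypExt P₀) v)).ncard * q ^ 5 :=
            Nat.mul_le_mul_right _ h4
          _ = _ := by ring
      omega
    · have hq3 : q = 3 := by omega
      rw [hq3] at h1 hle hZ
      have hX' := hX3 hq3
      norm_num at h1
      obtain ⟨n, -, hn⟩ : ∃ n, n ≤ 5 ∧ Nat.card A = 3 ^ n :=
        (Nat.dvd_prime_pow Nat.prime_three).1 (by
          have := A.card_addSubgroup_dvd_card
          rwa [hW, hq3] at this)
      have hn2 : n ≤ 2 := by
        rw [hn] at hle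
        exact (Nat.pow_le_pow_iff_right (by norm_num)).1 hle
      interval_cases n
      · exact hne (AddSubgroup.card_eq_one.1 (by rw [hn]; norm_num))
      · refine false_of_count hX' ha1 ((Set.ncard_le_ncard hsub (Set.toFinite _)).trans hcls) ?_
        rw [hW, hq3, hn]
        norm_num
        omega
      · -- a second class is met
        obtain ⟨w, hw, hw0, hval⟩ : ∃ w ∈ A, w ≠ 0 ∧
            hypExt (hypExt P₀) w ≠ hypExt (hypExt P₀) v := by
          by_contra hall
          push Not at hall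
          have h9 : ((A : Set (F × F × (F × F × V₀))) \ {0, v, -v}).Nonempty := by
            rw [← Set.ncard_pos (Set.toFinite _)]
            have h3' : ({0, v, -v} : Set (F × F × (F × F × V₀))).ncard ≤ 3 := by
              refine (Set.ncard_insert_le _ _).trans (Nat.succ_le_succ ((Set.ncard_insert_le _ _).trans ?_))
              rw [Set.ncard_singleton]
            have h9' : (A : Set (F × F × (F × F × V₀))).ncard = 9 := by
              rw [← Nat.card_coe_set_eq]; exact hn
            have := Set.le_ncard_sdiff ({0, v, -v} : Set (F × F × (F × F × V₀))) (A : Set _)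
            omega
          obtain ⟨u, hu, hu'⟩ := h9
          simp only [Set.mem_insert_iff, Set.mem_singleton_iff, not_or] at hu'
          have h10 := hall _ hu hu'.1
          have h11 := hall _ (A.add_mem hu hv) fun h => hu'.2.2 (eq_neg_of_add_eq_zero_left h)
          have h12 := hall _ (A.sub_mem hu hv) fun h => hu'.2.1 (sub_eq_zero.1 h)
          rw [QuadraticMap.map_add (⇑(hypExt (hypExt P₀))), h10] at h11
          rw [sub_eq_add_neg, QuadraticMap.map_add (⇑(hypExt (hypExt P₀))), QuadraticMap.map_neg, h10,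
            polar_neg_right] at h12
          have h2 : (2 : F) ≠ 0 := by
            intro h
            have := Fintype.ofFinite F
            have hc := FiniteField.cast_card_eq_zero F
            rw [← Nat.card_eq_fintype_card, ← hq, hq3,
              show ((3 : ℕ) : F) = 2 + 1 by norm_num, h, zero_add] at hc
            exact one_ne_zero hc
          exact hQv ((mul_eq_zero.1 (show (2 : F) * hypExt (hypExt P₀) v = 0 by
            linear_combination h11 + h12)).resolve_left h2)
        have hdisj : Disjoint (sqClass (hypExt P₀) (hypExt (hypExt P₀) v))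
            (sqClass (hypExt P₀) (hypExt (hypExt P₀) w)) := by
          rw [Set.disjoint_left]
          rintro u ⟨-, μ, hμ, e⟩ ⟨-, ν, hν, e'⟩
          have hsq : ∀ t : F, t ≠ 0 → t * t = 1 := fun t ht => by
            have := Fintype.ofFinite F
            have h4 := FiniteField.pow_card_sub_one_eq_one t ht
            rw [← Nat.card_eq_fintype_card, ← hq, hq3] at h4
            rw [← pow_two]; exact h4
          rw [e, hsq μ hμ, one_mul, hsq ν hν, one_mul] at e'
          exact hval e'.symm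
        have hw' : 72 ≤ (sqClass (hypExt P₀) (hypExt (hypExt P₀) w)).ncard := by
          by_cases hQw : hypExt (hypExt P₀) w = 0
          · rw [hQw]
            have := sqClass_zero_ncard (hypExt P₀)
            omega
          · have := le_two_mul_sqClass (hypExt P₀) _ hQw _ hlev
            rw [← hq, hq3] at this
            norm_num at this
            omega
        have hun := Set.ncard_le_ncard (Set.union_subset hsub
          (fun u hu => (⟨w, hw, hw0, hu⟩ : u ∈ classes (hypExt P₀) A))) (Set.toFinite _)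
        rw [Set.ncard_union_eq hdisj (Set.toFinite _) (Set.toFinite _)] at hun
        refine false_of_count hX' ha1 hcls ?_
        rw [hW, hq3, hn]
        norm_num
        omega
  · push Not at hns
    have hspan := two_mul_finrank_span (P := hypExt P₀) (nondeg_hypExt hP₀) hns
    rw [hdU] at hspan
    set S := Submodule.span F (A : Set (F × F × (F × F × V₀))) with hS
    have hSc : Nat.card S = q ^ Module.finrank F S := Module.natCard_eq_pow_finrank
    have hAS : Nat.card A ≤ Nat.card S := Nat.card_le_card_of_injective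
      (fun a => (⟨a.1, Submodule.subset_span a.2⟩ : S)) fun a b e => Subtype.ext (congrArg Subtype.val e :)
    by_cases h2 : 2 ≤ Module.finrank F S
    · have h22 : Module.finrank F S = 2 := by omega
      obtain ⟨p, hp, hp1, hp2⟩ := exists_pair_of_singular hns h2
      have h1 := (le_card_pairs hP₀).trans (pairs_le_images hP₀ A hp hp1 hp2)
      have hcU : cnt (hypExt P₀) 0 = q * q := by
        rw [← le_cnt_hypExt, hV, hc0, ← hq, hr, add_tsub_cancel_right]; ring
      rw [← hS, hSc, h22, ← hq, hZ, hcU] at h1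
      refine false_of_count hX ?_ h1 ?_
      · have : q < q ^ 2 := by nlinarith
        exact Nat.mul_pos (by omega) (by omega)
      · rw [hW, hr]
        have e1 : (r + 1) ^ 2 - 1 = r * (r + 2) := Nat.sub_eq_of_eq_add (by ring)
        have e2 : (r + 1) ^ 2 - (r + 1) = r * (r + 1) := Nat.sub_eq_of_eq_add (by ring)
        have e3 : (r + 1) ^ 4 - 1 = r * ((r + 2) * (r * r + 2 * r + 2)) :=
          Nat.sub_eq_of_eq_add (by ring)
        have e4 : (r + 1) * (r + 1) - 1 = r * (r + 2) := Nat.sub_eq_of_eq_add (by ring)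
        rw [e1, e2, e3, e4]
        rw [hr] at hle
        calc _ ≤ ((r + 1) ^ 5 + (r + 1) ^ 4 + (r + 1) ^ 3 + (r + 1) ^ 2 + (r + 1) + 1)
              * (r + 1) ^ 2 * (r * (r + 2) * (r * (r + 1))) :=
              Nat.mul_le_mul_right _ (Nat.mul_le_mul_left _ hle)
          _ ≤ (r + 2) * (r * r + 2 * r + 2) * (r + 1) ^ 5 * (r * (r + 2) * (r * (r + 1))) :=
              Nat.mul_le_mul_right _ (lines_arith r (by omega))
          _ = _ := by ring
    · -- a line
      obtain ⟨v, hv, hv0⟩ : ∃ v ∈ A, v ≠ 0 := by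
        by_contra hall
        push Not at hall
        exact hne ((AddSubgroup.eq_bot_iff_forall A).2 hall)
      have h1 := sqClass_le_images hI hv hv0
      rw [hns v hv] at h1
      have hz := sqClass_zero_ncard (hypExt P₀)
      have ha : Nat.card A ≤ q := hAS.trans (by
        rw [hSc]
        exact (Nat.pow_le_pow_right (by omega) (show Module.finrank F S ≤ 1 by omega)).trans_eq (pow_one q))
      obtain ⟨s, hs⟩ : ∃ s, Nat.card A = s + 1 := ⟨Nat.card A - 1, by
        have : 0 < Nat.card A := Nat.card_pos; omega⟩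
      refine false_of_count hX ?_ h1 ?_
      · have : Nat.card A ≠ 1 := fun h => hne (AddSubgroup.card_eq_one.1 h)
        omega
      · rw [hW, hs, add_tsub_cancel_right,
          show (sqClass (hypExt P₀) 0).ncard = q ^ 4 - 1 by omega, hr,
          show (r + 1) ^ 4 - 1 = r * ((r + 2) * (r * r + 2 * r + 2)) from Nat.sub_eq_of_eq_add (by ring)]
        calc _ ≤ ((r + 1) ^ 5 + (r + 1) ^ 4 + (r + 1) ^ 3 + (r + 1) ^ 2 + (r + 1) + 1)
              * (r + 1) ^ 2 * r :=
              Nat.mul_le_mul (Nat.mul_le_mul_left _ ((by omega : s + 1 ≤ r + 1).trans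
                (Nat.le_self_pow two_ne_zero _))) (by omega)
          _ ≤ (r + 2) * (r * r + 2 * r + 2) * (r + 1) ^ 5 * r :=
              Nat.mul_le_mul_right _ (lines_arith r (by omega))
          _ = _ := by ring

end plane

end Cfsg.Agent.Lib.MinIndexOrth
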