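import Cfsg.Agent.Lib.MinIndexOrth.Plus
import Cfsg.Agent.Lib.Classical.Binary

/-!
Transitive sets of the groups of minus type along the tower of planes over the anisotropic binary form.
-/

set_option autoImplicit false
set_option linter.unusedSectionVars false

namespace Cfsg.Agent.Lib.MinIndexOrth

open QuadraticMap
open Cfsg.Agent.Lib.Classical Cfsg.Agent.Lib.MinDegree.Orth

universe u

variable {F : Type u} [Field F] [Fintype F] {a b : F}

/-- the binary form -/
noncomputable abbrev minusBase (a b : F) : QSp F :=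
  ⟨F × F, binQ a b⟩

theorem minusBase_card (a b : F) : Nat.card (minusBase a b).carrier = Nat.card F * Nat.card F :=
  Nat.card_prod F F

theorem minusBase_finrank (a b : F) : Module.finrank F (minusBase a b).carrier = 2 := by
  show Module.finrank F (F × F) = 2
  simp

theorem cnt_minus_zero (hab : BinAniso a b) : ∀ t,
    Nat.card F * cnt (tw (minusBase a b) t).form 0 + Nat.card F ^ (t + 2)
      = Nat.card F ^ (2 * t + 2) + Nat.card F ^ (t + 1)
  | 0 => by
    have h : cnt (tw (minusBase a b) 0).form 0 = 1 := hab.natCard_zeros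
    rw [h]
    ring
  | t + 1 => by
    have ih := cnt_minus_zero hab t
    rw [cnt_tw_succ', natCard_tw, minusBase_card]
    obtain ⟨r, hr⟩ : ∃ r, Nat.card F = r + 1 := ⟨Nat.card F - 1, by
      have := Nat.card_pos (α := F); omega⟩
    rw [hr] at ih ⊢
    rw [add_tsub_cancel_right]
    linear_combination (r + 1) * ih

theorem cnt_minus_ne (hab : BinAniso a b) {c : F} (hc : c ≠ 0) : ∀ t,
    Nat.card F * cnt (tw (minusBase a b) t).form c = Nat.card F ^ (2 * t + 2) + Nat.card F ^ (t + 1)
  | 0 => by
    have h : cnt (tw (minusBase a b) 0).form c = Nat.card F + 1 :=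
      (natCard_binQ_eq hab hc).trans hab.natCard_one
    rw [h]
    ring
  | t + 1 => by
    have ih := cnt_minus_ne hab hc t
    rw [cnt_tw_succ', natCard_tw, minusBase_card]
    obtain ⟨r, hr⟩ : ∃ r, Nat.card F = r + 1 := ⟨Nat.card F - 1, by
      have := Nat.card_pos (α := F); omega⟩
    rw [hr] at ih ⊢
    rw [add_tsub_cancel_right]
    linear_combination (r + 1) * ih

theorem natCard_minus (t : ℕ) :
    Nat.card (F × F × (F × F × (tw (minusBase a b) t).carrier)) = Nat.card F ^ (2 * (t + 3)) := by
  rw [natCard_two, minusBase_card]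
  ring

theorem finrank_minus (t : ℕ) : Module.finrank F (tw (minusBase a b) t).carrier = 2 * t + 2 := by
  rw [finrank_tw, minusBase_finrank]

/-- minus type -/
theorem smallTrivial_minus (hab : BinAniso a b) :
    ∀ (s T : ℕ), (Nat.card F - 1) * T + 1 + Nat.card F ^ (s + 4)
        = Nat.card F ^ (2 * s + 7) + Nat.card F ^ (s + 3) →
      SmallTrivial (Grp (hypExt (tw (minusBase a b) s).form)) T := by
  have hq : 2 ≤ Nat.card F := Finite.one_lt_card
  obtain ⟨r, hr⟩ : ∃ r, Nat.card F = r + 1 := ⟨Nat.card F - 1, by omega⟩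
  have hnd : ∀ z, (∀ w, polar (minusBase a b).form z w = 0) → z = 0 := nondeg_binQ hab
  have hgen : ∀ (s T : ℕ), (Nat.card F - 1) * T + 1 + Nat.card F ^ (s + 4)
        = Nat.card F ^ (2 * s + 7) + Nat.card F ^ (s + 3) →
      T ≤ 2 * Nat.card (F × F × (F × F × (tw (minusBase a b) s).carrier)) ∧
      ((Nat.card F - 1) * T + 1 ≤ (Nat.card F - 1) * Nat.card (F × F × (F × F × (tw (minusBase a b) s).carrier))
        + Nat.card F * cnt (hypExt (hypExt (tw (minusBase a b) s).form)) 0) ∧
      ∀ c : F, c ≠ 0 → Nat.card {x : F // x * x = 1} * T ≤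
        Nat.card {x : F // x * x = 1} * Nat.card (F × F × (F × F × (tw (minusBase a b) s).carrier))
          + Nat.card F * cnt (hypExt (hypExt (tw (minusBase a b) s).form)) c := by
    intro s T hT
    have h0 : Nat.card F * cnt (hypExt (hypExt (tw (minusBase a b) s).form)) 0 + Nat.card F ^ (s + 2 + 2)
        = Nat.card F ^ (2 * (s + 2) + 2) + Nat.card F ^ (s + 2 + 1) := cnt_minus_zero hab (s + 2)
    have hne : ∀ c : F, c ≠ 0 → Nat.card F * cnt (hypExt (hypExt (tw (minusBase a b) s).form)) c
        = Nat.card F ^ (2 * (s + 2) + 2) + Nat.card F ^ (s + 2 + 1) := fun c hc => cnt_minus_ne hab hc (s + 2)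
    rw [natCard_minus]
    have her : Nat.card {x : F // x * x = 1} ≤ r := by
      have := (sqOne_le F).2.1
      omega
    rw [hr] at hT h0 hne ⊢
    rw [add_tsub_cancel_right] at hT ⊢
    set N := (r + 1) ^ (s + 3) with hN
    set M := (r + 1) ^ (2 * (s + 3)) with hM
    have eT : (r + 1) ^ (2 * s + 7) = r * M + M := by rw [hM]; ring
    have eN : (r + 1) ^ (s + 4) = r * N + N := by rw [hN]; ring
    have eN' : (r + 1) ^ (s + 2 + 2) = r * N + N := by rw [hN]; ring
    have eM : (r + 1) ^ (2 * (s + 2) + 2) = M := by rw [hM]; ring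
    rw [eT, eN] at hT
    rw [eN', eM] at h0
    refine ⟨?_, by omega, fun c hc => ?_⟩
    · refine Nat.le_of_mul_le_mul_left ?_ (show 0 < r by omega)
      have h1 : 1 * M ≤ r * M := Nat.mul_le_mul_right _ (by omega)
      have h2 : r * (2 * M) = 2 * (r * M) := by ring
      omega
    · have h := hne c hc
      rw [eM] at h
      set C := cnt (hypExt (hypExt (tw (minusBase a b) s).form)) c with hC
      set e := Nat.card {x : F // x * x = 1} with he
      refine Nat.le_of_mul_le_mul_left ?_ (show 0 < r by omega)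
      calc r * (e * T) = e * (r * T) := by ring
        _ ≤ e * (r * M + M) := Nat.mul_le_mul_left _ (by omega)
        _ = r * (e * M) + e * M := by ring
        _ ≤ r * (e * M) + r * ((r + 1) * C) :=
          Nat.add_le_add_left (Nat.mul_le_mul her (by omega)) _
        _ = _ := by ring
  intro s
  induction s with
  | zero =>
    intro T hT
    obtain ⟨h1, h3, h5⟩ := hgen 0 T hT
    haveI : Nontrivial (tw (minusBase a b) 0).carrier := inferInstanceAs (Nontrivial (F × F))
    refine smallTrivial_four hnd (finrank_minus 0) ?_ (fun h => ?_) (fun h => ?_) h1 h3 h5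
    · rw [hr] at hT ⊢
      rw [add_tsub_cancel_right] at hT
      refine Nat.le_of_mul_le_mul_left ?_ (show 0 < r by omega)
      have e : r * fourBound (r + 1) + 1 + (r + 1) ^ (0 + 3) = (r + 1) ^ (2 * 0 + 7) + (r + 1) ^ (0 + 4) := by
        unfold fourBound; ring
      have : (r + 1) ^ (0 + 3) ≤ (r + 1) ^ (0 + 4) := Nat.pow_le_pow_right (by omega) (by omega)
      omega
    · rw [h] at hT
      norm_num at hT
      omega
    · show cnt (binQ a b) 0 + 1 ≠ _
      have : cnt (binQ a b) 0 = 1 := hab.natCard_zeros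
      omega
  | succ s ih =>
    intro T hT
    obtain ⟨h1, h3, h5⟩ := hgen (s + 1) T hT
    obtain ⟨K, hK⟩ := exists_geom r (s + 3)
    have hJ : (Nat.card F - 1) * (K * ((r + 1) ^ (s + 4) + 1)) + 1 + Nat.card F ^ (s + 4)
        = Nat.card F ^ (2 * s + 7) + Nat.card F ^ (s + 3) := by
      rw [hr, add_tsub_cancel_right]
      linear_combination ((r + 1) ^ (s + 4) + 1) * hK
    haveI := tw_nontrivial (minusBase a b) s
    refine smallTrivial_step (tw_nondeg hnd (s + 1)) (by rw [finrank_minus]; omega)
      (ih _ hJ) h1 h3 h5 ?_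
    rw [natCard_minus,
      show Module.finrank F (F × F × (tw (minusBase a b) (s + 1)).carrier) / 2 + 1 = s + 4 by
        simp only [Module.finrank_prod, Module.finrank_self, finrank_minus]
        omega]
    rw [hr, add_tsub_cancel_right] at hT hJ
    rw [hr]
    set J := K * ((r + 1) ^ (s + 4) + 1) with hJd
    refine Nat.le_of_mul_le_mul_left ?_ (show 0 < r by omega)
    have a1 : r * T ≤ (r + 1) ^ (2 * s + 9) := by
      have : (r + 1) ^ (s + 1 + 3) ≤ (r + 1) ^ (s + 1 + 4) := Nat.pow_le_pow_right (by omega) (by omega)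
      have e9 : (r + 1) ^ (2 * (s + 1) + 7) = (r + 1) ^ (2 * s + 9) := by ring
      omega
    have a2 : (r + 1) ^ (2 * s + 6) ≤ r * J := by
      have := two_mul_pow_le (q := r + 1) (by omega) (show 2 * s + 6 < 2 * s + 7 by omega)
      have : (r + 1) ^ (s + 4) ≤ (r + 1) ^ (2 * s + 6) := Nat.pow_le_pow_right (by omega) (by omega)
      have : 1 ≤ (r + 1) ^ (s + 3) := Nat.one_le_pow _ _ (by omega)
      omega
    calc r * (T * (r + 1) ^ (s + 4)) = r * T * (r + 1) ^ (s + 4) := by ring
      _ ≤ (r + 1) ^ (2 * s + 9) * (r + 1) ^ (s + 4) := Nat.mul_le_mul_right _ a1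
      _ = (r + 1) ^ (3 * s + 13) := by ring
      _ ≤ (r + 1) ^ (4 * s + 14) := Nat.pow_le_pow_right (by omega) (by omega)
      _ = (r + 1) ^ (2 * s + 6) * (r + 1) ^ (2 * (s + 1 + 3)) := by ring
      _ ≤ r * J * (r + 1) ^ (2 * (s + 1 + 3)) := Nat.mul_le_mul_right _ a2
      _ = _ := by ring

end Cfsg.Agent.Lib.MinIndexOrth
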