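import Cfsg.Agent.Lib.MinIndexOrth.Step

/-!
Transitive sets of the odd-dimensional groups along the tower of planes over the square form.
-/

set_option autoImplicit false
set_option linter.unusedSectionVars false

namespace Cfsg.Agent.Lib.MinIndexOrth

open QuadraticMap
open Cfsg.Agent.Lib.Classical Cfsg.Agent.Lib.MinDegree.Orth

universe u

section general

variable {F : Type u} [Field F] [Fintype F]

theorem natCard_tw (B : QSp F) (t : ℕ) :
    Nat.card (tw B t).carrier = Nat.card F ^ (2 * t) * Nat.card B.carrier := by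
  rw [Nat.card_eq_fintype_card, Nat.card_eq_fintype_card, Nat.card_eq_fintype_card, card_tw]

theorem finrank_tw (B : QSp F) (t : ℕ) :
    Module.finrank F (tw B t).carrier = 2 * t + Module.finrank F B.carrier := by
  induction t with
  | zero =>
    show Module.finrank F B.carrier = _
    simp
  | succ t ih =>
    show Module.finrank F (F × F × (tw B t).carrier) = _
    simp only [Module.finrank_prod, Module.finrank_self, ih]
    ring

theorem natCard_two (B : QSp F) (t : ℕ) :
    Nat.card (F × F × (F × F × (tw B t).carrier)) = Nat.card F ^ (2 * (t + 2)) * Nat.card B.carrier :=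
  natCard_tw B (t + 2)

theorem cnt_tw_succ' (B : QSp F) (t : ℕ) (c : F) :
    cnt (tw B (t + 1)).form c
      = (Nat.card F - 1) * Nat.card (tw B t).carrier + Nat.card F * cnt (tw B t).form c := by
  rw [cnt_tw_succ, Nat.card_eq_fintype_card, Nat.card_eq_fintype_card]

/-- the square form -/
noncomputable abbrev oddBase (F : Type u) [Field F] [Fintype F] : QSp F :=
  ⟨F, QuadraticMap.sq (R := F) (A := F)⟩

theorem oddBase_card : Nat.card (oddBase F).carrier = Nat.card F := rfl

theorem oddBase_nondeg (h2 : (2 : F) ≠ 0) :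
    ∀ z, (∀ w, polar (oddBase F).form z w = 0) → z = 0 := nondeg_sq h2

theorem cnt_odd_zero : ∀ t, cnt (tw (oddBase F) t).form 0 = Nat.card F ^ (2 * t)
  | 0 => by
    show Nat.card {z : F // QuadraticMap.sq (R := F) (A := F) z = 0} = _
    rw [Nat.card_eq_one_iff_unique.2]
    · simp
    · refine ⟨⟨fun a b => Subtype.ext ?_⟩, ⟨⟨0, map_zero _⟩⟩⟩
      have h : ∀ z : {z : F // QuadraticMap.sq (R := F) (A := F) z = 0}, z.1 = 0 := fun z => by
        have := z.2
        simpa [QuadraticMap.sq] using this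
      rw [h a, h b]
  | t + 1 => by
    rw [cnt_tw_succ', cnt_odd_zero t, natCard_tw, oddBase_card]
    obtain ⟨r, hr⟩ : ∃ r, Nat.card F = r + 1 := ⟨Nat.card F - 1, by
      have := Nat.card_pos (α := F); omega⟩
    rw [hr, add_tsub_cancel_right]
    ring

theorem cnt_odd_ge (c : F) : ∀ t,
    Nat.card F ^ (2 * t) ≤ cnt (tw (oddBase F) t).form c + Nat.card F ^ t
  | 0 => by simp
  | t + 1 => by
    have ih := cnt_odd_ge c t
    rw [cnt_tw_succ', natCard_tw, oddBase_card]
    obtain ⟨r, hr⟩ : ∃ r, Nat.card F = r + 1 := ⟨Nat.card F - 1, by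
      have := Nat.card_pos (α := F); omega⟩
    rw [hr] at ih ⊢
    rw [add_tsub_cancel_right]
    have h := Nat.mul_le_mul_left (r + 1) ih
    have e : (r + 1) ^ (2 * (t + 1)) = r * ((r + 1) ^ (2 * t) * (r + 1)) + (r + 1) * (r + 1) ^ (2 * t) := by ring
    have e2 : (r + 1) ^ (t + 1) = (r + 1) * (r + 1) ^ t := by ring
    rw [Nat.mul_add] at h
    omega

theorem two_mul_pow_le {q : ℕ} (hq : 2 ≤ q) {a b : ℕ} (h : a < b) : 2 * q ^ a ≤ q ^ b :=
  calc 2 * q ^ a ≤ q * q ^ a := Nat.mul_le_mul_right _ hq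
    _ = q ^ (a + 1) := by ring
    _ ≤ q ^ b := Nat.pow_le_pow_right (by omega) h

/-- five and more elements -/
theorem smallTrivial_odd (hodd : Odd (Nat.card F)) (h5 : 5 ≤ Nat.card F) :
    ∀ (t T : ℕ), (Nat.card F - 1) * T + 1 = Nat.card F ^ (2 * (t + 3)) →
      SmallTrivial (Grp (hypExt (tw (oddBase F) t).form)) T := by
  have h2 : (2 : F) ≠ 0 := two_ne_zero_of_odd_card (by rwa [← Nat.card_eq_fintype_card])
  obtain ⟨r, hr⟩ : ∃ r, Nat.card F = r + 1 := ⟨Nat.card F - 1, by omega⟩
  -- the conditions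
  have hgen : ∀ (t T : ℕ), (Nat.card F - 1) * T + 1 = Nat.card F ^ (2 * (t + 3)) →
      T ≤ 2 * Nat.card (F × F × (F × F × (tw (oddBase F) t).carrier)) ∧
      ((Nat.card F - 1) * T + 1 ≤ (Nat.card F - 1) * Nat.card (F × F × (F × F × (tw (oddBase F) t).carrier))
        + Nat.card F * cnt (hypExt (hypExt (tw (oddBase F) t).form)) 0) ∧
      ∀ c : F, c ≠ 0 → Nat.card {s : F // s * s = 1} * T ≤
        Nat.card {s : F // s * s = 1} * Nat.card (F × F × (F × F × (tw (oddBase F) t).carrier))
          + Nat.card F * cnt (hypExt (hypExt (tw (oddBase F) t).form)) c := by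
    intro t T hT
    rw [natCard_two, oddBase_card]
    have hz : cnt (hypExt (hypExt (tw (oddBase F) t).form)) 0 = Nat.card F ^ (2 * (t + 2)) :=
      cnt_odd_zero (t + 2)
    rw [hz]
    rw [hr, add_tsub_cancel_right] at hT ⊢
    set M := (r + 1) ^ (2 * (t + 2)) with hM
    have eT : (r + 1) ^ (2 * (t + 3)) = (r + 1) * (M * (r + 1)) := by rw [hM]; ring
    rw [eT] at hT
    refine ⟨?_, ?_, fun c _ => ?_⟩
    · refine Nat.le_of_mul_le_mul_left ?_ (show 0 < r by omega)
      have : r * (2 * (M * (r + 1))) = (r + r) * (M * (r + 1)) := by ring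
      have h3 : (r + 1) * (M * (r + 1)) ≤ (r + r) * (M * (r + 1)) :=
        Nat.mul_le_mul_right _ (by omega)
      omega
    · have : r * (M * (r + 1)) + (r + 1) * M = (r + 1) * (M * (r + 1)) := by ring
      omega
    · set C := cnt (hypExt (hypExt (tw (oddBase F) t).form)) c with hC
      have h3 : M ≤ C + (r + 1) ^ (t + 2) := by
        have := cnt_odd_ge c (t + 2)
        rwa [hr] at this
      have h4 : 2 * (r + 1) ^ (t + 2) ≤ M := two_mul_pow_le (by omega) (by omega)
      set e := Nat.card {s : F // s * s = 1} with he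
      have he2 : e ≤ 2 := (sqOne_le F).1
      refine Nat.le_of_mul_le_mul_left ?_ (show 0 < r by omega)
      calc r * (e * T) = e * (r * T) := by ring
        _ ≤ e * ((r + 1) * (M * (r + 1))) := Nat.mul_le_mul_left _ (by omega)
        _ = r * (e * (M * (r + 1))) + e * ((r + 1) * M) := by ring
        _ ≤ r * (e * (M * (r + 1))) + 2 * ((r + 1) * M) :=
          Nat.add_le_add_left (Nat.mul_le_mul_right _ he2) _
        _ ≤ r * (e * (M * (r + 1))) + r * ((r + 1) * C) := by
          refine Nat.add_le_add_left ?_ _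
          have h6 : 2 * M ≤ r * C := by
            have : 4 * C ≤ r * C := Nat.mul_le_mul_right _ (by omega)
            omega
          calc 2 * ((r + 1) * M) = (r + 1) * (2 * M) := by ring
            _ ≤ (r + 1) * (r * C) := Nat.mul_le_mul_left _ h6
            _ = _ := by ring
        _ = _ := by ring
  intro t
  induction t with
  | zero =>
    intro T hT
    obtain ⟨h1, h3, h4⟩ := hgen 0 T hT
    have hd : Module.finrank F (tw (oddBase F) 0).carrier = 1 := Module.finrank_self F
    haveI : Nontrivial (tw (oddBase F) 0).carrier := inferInstanceAs (Nontrivial F)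
    refine smallTrivial_three (oddBase_nondeg h2) hd (by omega) ?_ (fun h => by omega) h1 h3 h4
    rw [hr, add_tsub_cancel_right] at hT
    rw [hr]
    refine Nat.le_of_mul_le_mul_left ?_ (show 0 < r by omega)
    have e : r * ((r + 1) ^ 5 + (r + 1) ^ 4 + (r + 1) ^ 3 + (r + 1) ^ 2 + (r + 1) + 1) + 1
        = (r + 1) ^ (2 * (0 + 3)) := by ring
    omega
  | succ t ih =>
    intro T hT
    obtain ⟨h1, h3, h4⟩ := hgen (t + 1) T hT
    obtain ⟨J, hJ⟩ : ∃ J, (Nat.card F - 1) * J + 1 = Nat.card F ^ (2 * (t + 3)) := by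
      obtain ⟨J, hJ⟩ : Nat.card F - 1 ∣ Nat.card F ^ (2 * (t + 3)) - 1 := by
        simpa using Nat.sub_dvd_pow_sub_pow (Nat.card F) 1 (2 * (t + 3))
      have : 1 ≤ Nat.card F ^ (2 * (t + 3)) := Nat.one_le_pow _ _ (by omega)
      exact ⟨J, by omega⟩
    haveI := tw_nontrivial (oddBase F) t
    refine smallTrivial_step (tw_nondeg (oddBase_nondeg h2) (t + 1)) ?_ (ih J hJ) h1 h3 h4 ?_
    · rw [finrank_tw]
      have : Module.finrank F (oddBase F).carrier = 1 := Module.finrank_self F
      omega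
    · rw [natCard_two, oddBase_card,
        show Module.finrank F (F × F × (tw (oddBase F) (t + 1)).carrier) / 2 + 1 = t + 3 by
          simp only [Module.finrank_prod, Module.finrank_self, finrank_tw]
          have : Module.finrank F (oddBase F).carrier = 1 := Module.finrank_self F
          omega]
      rw [hr, add_tsub_cancel_right] at hT hJ
      rw [hr]
      refine Nat.le_of_mul_le_mul_left ?_ (show 0 < r by omega)
      have hJ' : (r + 1) ^ (2 * t + 5) ≤ r * J := by
        have h := two_mul_pow_le (q := r + 1) (by omega) (show 2 * t + 5 < 2 * (t + 3) by omega)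
        have h0 : 1 ≤ (r + 1) ^ (2 * t + 5) := Nat.one_le_pow _ _ (by omega)
        omega
      calc r * (T * (r + 1) ^ (t + 3)) = r * T * (r + 1) ^ (t + 3) := by ring
        _ ≤ (r + 1) ^ (2 * (t + 1 + 3)) * (r + 1) ^ (t + 3) := Nat.mul_le_mul_right _ (by omega)
        _ = (r + 1) ^ (3 * t + 11) := by ring
        _ ≤ (r + 1) ^ (4 * t + 12) := Nat.pow_le_pow_right (by omega) (by omega)
        _ = (r + 1) ^ (2 * t + 5) * ((r + 1) ^ (2 * (t + 1 + 2)) * (r + 1)) := by ring
        _ ≤ r * J * ((r + 1) ^ (2 * (t + 1 + 2)) * (r + 1)) := Nat.mul_le_mul_right _ hJ'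
        _ = _ := by ring

/-- three elements -/
theorem smallTrivial_odd_three (hq : Nat.card F = 3) :
    ∀ (t T : ℕ), 2 * T + 3 ^ (t + 3) = 3 ^ (2 * (t + 3)) →
      SmallTrivial (Grp (hypExt (tw (oddBase F) t).form)) T := by
  have h2 : (2 : F) ≠ 0 := two_ne_zero_of_odd_card (by rw [← Nat.card_eq_fintype_card, hq]; decide)
  have hgen : ∀ (t T : ℕ), 2 * T + 3 ^ (t + 3) = 3 ^ (2 * (t + 3)) →
      T ≤ 2 * Nat.card (F × F × (F × F × (tw (oddBase F) t).carrier)) ∧
      ((Nat.card F - 1) * T + 1 ≤ (Nat.card F - 1) * Nat.card (F × F × (F × F × (tw (oddBase F) t).carrier))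
        + Nat.card F * cnt (hypExt (hypExt (tw (oddBase F) t).form)) 0) ∧
      ∀ c : F, c ≠ 0 → Nat.card {s : F // s * s = 1} * T ≤
        Nat.card {s : F // s * s = 1} * Nat.card (F × F × (F × F × (tw (oddBase F) t).carrier))
          + Nat.card F * cnt (hypExt (hypExt (tw (oddBase F) t).form)) c := by
    intro t T hT
    rw [natCard_two, oddBase_card]
    have hz : cnt (hypExt (hypExt (tw (oddBase F) t).form)) 0 = Nat.card F ^ (2 * (t + 2)) :=
      cnt_odd_zero (t + 2)
    rw [hz, hq]
    set M := 3 ^ (2 * (t + 2)) with hM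
    have eT : 3 ^ (2 * (t + 3)) = 9 * M := by rw [hM]; ring
    have h9 : 3 ^ (t + 3) = 3 * 3 ^ (t + 2) := by ring
    have h0 : 1 ≤ 3 ^ (t + 2) := Nat.one_le_pow _ _ (by omega)
    refine ⟨by omega, by omega, fun c _ => ?_⟩
    set C := cnt (hypExt (hypExt (tw (oddBase F) t).form)) c with hC
    have h3 : M ≤ C + 3 ^ (t + 2) := by
      have := cnt_odd_ge c (t + 2)
      rwa [hq] at this
    rcases (by have := (sqOne_le F).1; omega : Nat.card {s : F // s * s = 1} = 0
      ∨ Nat.card {s : F // s * s = 1} = 1 ∨ Nat.card {s : F // s * s = 1} = 2) with he | he | he <;>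
      rw [he] <;> omega
  intro t
  induction t with
  | zero =>
    intro T hT
    obtain ⟨h1, h3, h4⟩ := hgen 0 T hT
    have hd : Module.finrank F (tw (oddBase F) 0).carrier = 1 := Module.finrank_self F
    haveI : Nontrivial (tw (oddBase F) 0).carrier := inferInstanceAs (Nontrivial F)
    norm_num at hT
    refine smallTrivial_three (oddBase_nondeg h2) hd (by omega) ?_ (fun _ => by omega) h1 h3 h4
    rw [hq]
    norm_num
    omega
  | succ t ih =>
    intro T hT
    obtain ⟨h1, h3, h4⟩ := hgen (t + 1) T hT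
    obtain ⟨J, hJ⟩ : ∃ J, 2 * J + 3 ^ (t + 3) = 3 ^ (2 * (t + 3)) := by
      have hodd : ∀ k, 3 ^ k % 2 = 1 := fun k => by rw [Nat.pow_mod]; simp
      have := hodd (t + 3)
      have := hodd (2 * (t + 3))
      have : 3 ^ (t + 3) ≤ 3 ^ (2 * (t + 3)) := Nat.pow_le_pow_right (by norm_num) (by omega)
      exact ⟨(3 ^ (2 * (t + 3)) - 3 ^ (t + 3)) / 2, by omega⟩
    haveI := tw_nontrivial (oddBase F) t
    refine smallTrivial_step (tw_nondeg (oddBase_nondeg h2) (t + 1)) ?_ (ih J hJ) h1 h3 h4 ?_
    · rw [finrank_tw]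
      have : Module.finrank F (oddBase F).carrier = 1 := Module.finrank_self F
      omega
    · rw [natCard_two, oddBase_card,
        show Module.finrank F (F × F × (tw (oddBase F) (t + 1)).carrier) / 2 + 1 = t + 3 by
          simp only [Module.finrank_prod, Module.finrank_self, finrank_tw]
          have : Module.finrank F (oddBase F).carrier = 1 := Module.finrank_self F
          omega, hq]
      have hJ' : 3 ^ (2 * t + 5) ≤ J := by
        have h6 : 3 ^ (2 * (t + 3)) = 3 * 3 ^ (2 * t + 5) := by ring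
        have h7 : 3 ^ (t + 3) ≤ 3 ^ (2 * t + 5) := Nat.pow_le_pow_right (by norm_num) (by omega)
        omega
      calc T * 3 ^ (t + 3) ≤ 3 ^ (2 * (t + 1 + 3)) * 3 ^ (t + 3) := Nat.mul_le_mul_right _ (by linarith [Nat.zero_le (3 ^ (t + 1 + 3)), Nat.zero_le T])
        _ = 3 ^ (3 * t + 11) := by ring
        _ ≤ 3 ^ (4 * t + 12) := Nat.pow_le_pow_right (by norm_num) (by omega)
        _ = 3 ^ (2 * t + 5) * (3 ^ (2 * (t + 1 + 2)) * 3) := by ring
        _ ≤ _ := Nat.mul_le_mul_right _ hJ'

end general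

end Cfsg.Agent.Lib.MinIndexOrth
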