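import Cfsg.Agent.Lib.MinIndexOrth.Pairing

/-!
Orbits of the additive groups fixed by points, under the normaliser of the radical.
-/

set_option autoImplicit false
set_option linter.unusedSectionVars false

namespace Cfsg.Agent.Lib.MinIndexOrth

open QuadraticMap
open Cfsg.Agent.Lib.Classical Cfsg.Agent.Lib.MinDegree.Orth

variable {F : Type*} [Field F] [Finite F] {U : Type*} [AddCommGroup U] [Module F U] [Finite U]

/-- the maps induced on the radical -/
def movers (P : QuadraticForm F U) : Subgroup ((F × F × U) ≃ₗ[F] (F × F × U)) where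
  carrier := {K | ∃ g, Acts P g K}
  one_mem' := ⟨rad P 0, acts_rad 0⟩
  mul_mem' := fun ⟨g, hg⟩ ⟨g', hg'⟩ => ⟨g * g', hg.mul hg'⟩
  inv_mem' := fun {K} ⟨g, hg⟩ => ⟨g⁻¹, fun w => by
    rw [inv_mul_eq_iff_eq_mul, ← mul_assoc, hg, show K (K⁻¹ w) = w from K.apply_symm_apply w,
      mul_assoc, mul_inv_cancel, mul_one]⟩

/-- the image of an additive group -/
def img (K : (F × F × U) ≃ₗ[F] (F × F × U)) (A : AddSubgroup (F × F × U)) :
    AddSubgroup (F × F × U) :=
  A.map K.toLinearMap.toAddMonoidHom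

/-- all images -/
def images (P : QuadraticForm F U) (A : AddSubgroup (F × F × U)) :
    Set (AddSubgroup (F × F × U)) :=
  (fun K => img K A) '' (movers P : Set ((F × F × U) ≃ₗ[F] (F × F × U)))

variable {P : QuadraticForm F U}

theorem mem_img {K : (F × F × U) ≃ₗ[F] (F × F × U)} {A : AddSubgroup (F × F × U)}
    {w : F × F × U} : w ∈ img K A ↔ K⁻¹ w ∈ A := by
  constructor
  · rintro ⟨v, hv, rfl⟩
    show K.symm (K v) ∈ A
    rwa [K.symm_apply_apply]
  · intro h
    exact ⟨_, h, K.apply_symm_apply w⟩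

theorem img_mul (K K' : (F × F × U) ≃ₗ[F] (F × F × U)) (A : AddSubgroup (F × F × U)) :
    img (K * K') A = img K (img K' A) := by
  ext w
  rw [mem_img, mem_img, mem_img, mul_inv_rev]
  rfl

theorem img_one (A : AddSubgroup (F × F × U)) : img 1 A = A := by
  ext w; rw [mem_img, inv_one]; rfl

theorem card_img (K : (F × F × U) ≃ₗ[F] (F × F × U)) (A : AddSubgroup (F × F × U)) :
    Nat.card (img K A) = Nat.card A :=
  (Nat.card_congr (K.toEquiv.subtypeEquiv fun v => by
    show v ∈ A ↔ K v ∈ img K A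
    rw [mem_img, show K⁻¹ (K v) = v from K.symm_apply_apply v])).symm

theorem card_of_mem_images {A A' : AddSubgroup (F × F × U)} (h : A' ∈ images P A) :
    Nat.card A' = Nat.card A := by
  obtain ⟨K, -, rfl⟩ := h
  exact card_img K A

theorem mem_images_self (A : AddSubgroup (F × F × U)) : A ∈ images P A :=
  ⟨1, (movers P).one_mem, img_one A⟩

theorem ind_mem_movers (k : eichlerGroup P) : (k.1 : (F × F × U) ≃ₗ[F] (F × F × U)) ∈ movers P :=
  ⟨_, acts_ind k⟩

theorem index_eq {A B : AddSubgroup (F × F × U)} (h : Nat.card A = Nat.card B) :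
    A.index = B.index := by
  have h1 := A.card_mul_index
  rw [← B.card_mul_index, h] at h1
  exact Nat.eq_of_mul_eq_mul_left Nat.card_pos h1

variable {X : Type*} [MulAction (Grp P) X] [Finite X]

theorem fixer_smul {g : Grp P} {K : (F × F × U) ≃ₗ[F] (F × F × U)} (h : Acts P g K) (x : X) :
    fixer P (g • x) = img K (fixer P x) := by
  ext w
  rw [mem_img, ← fixer_acts h x (K⁻¹ w), show K (K⁻¹ w) = w from K.apply_symm_apply w]

theorem card_fixer_smul {g : Grp P} {K : (F × F × U) ≃ₗ[F] (F × F × U)} (h : Acts P g K) (x : X) :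
    Nat.card (fixer P (g • x)) = Nat.card (fixer P x) := by
  rw [fixer_smul h, card_img]

open scoped _root_.Classical in
/-- several points, each with its images -/
theorem sum_images_le {β : Type*} [Fintype β] (xs : β → X)
    (h : ∀ b b', (∃ r, rad P r • xs b = xs b') → b = b')
    (h2 : ∀ b b', fixer P (xs b') ∈ images P (fixer P (xs b)) → fixer P (xs b) = fixer P (xs b')) :
    ∑ b, (images P (fixer P (xs b))).ncard * (fixer P (xs b)).index ≤ Nat.card X := by
  have hex : ∀ A A' : AddSubgroup (F × F × U), ∃ g : Grp P, A' ∈ images P A →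
      ∃ K, Acts P g K ∧ A' = img K A := by
    intro A A'
    by_cases hA : A' ∈ images P A
    · obtain ⟨K, ⟨g, hg⟩, rfl⟩ := hA
      exact ⟨g, fun _ => ⟨K, hg, rfl⟩⟩
    · exact ⟨1, fun h => absurd h hA⟩
  choose g0 hg0 using hex
  have hft : ∀ b, Fintype ↥(images P (fixer P (xs b))) := fun b => Fintype.ofFinite _
  let ι := Σ b, (images P (fixer P (xs b)) : Set (AddSubgroup (F × F × U)))
  let pts : ι → X := fun s => g0 (fixer P (xs s.1)) s.2.1 • xs s.1
  have hfix : ∀ s : ι, fixer P (pts s) = s.2.1 := fun s => by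
    obtain ⟨K, hK, e⟩ := hg0 _ _ s.2.2
    rw [fixer_smul hK, e]
  have hsum := sum_index_le pts (P := P) ?_
  · rw [Fintype.sum_sigma] at hsum
    refine le_trans (le_of_eq (Finset.sum_congr rfl fun b _ => ?_)) hsum
    rw [Finset.sum_congr rfl (fun s _ => show (fixer P (pts ⟨b, s⟩)).index = (fixer P (xs b)).index by
      rw [hfix ⟨b, s⟩]; exact index_eq (card_of_mem_images s.2)), Finset.sum_const,
      Finset.card_univ, smul_eq_mul, ← Nat.card_eq_fintype_card, Nat.card_coe_set_eq]
  · rintro ⟨b, A, hA⟩ ⟨b', A', hA'⟩ ⟨r, hr⟩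
    have e := congrArg (fixer P) hr
    rw [fixer_rad, hfix ⟨b, A, hA⟩, hfix ⟨b', A', hA'⟩] at e
    change A = A' at e
    subst e
    have hAA : fixer P (xs b) = fixer P (xs b') := by
      refine h2 b b' ?_
      obtain ⟨K, hK, hKe⟩ := hA
      obtain ⟨K', hK', hKe'⟩ := hA'
      refine ⟨K'⁻¹ * K, (movers P).mul_mem ((movers P).inv_mem hK') hK, ?_⟩
      simp only at hKe hKe' ⊢
      rw [img_mul, hKe, ← hKe', ← img_mul, inv_mul_cancel, img_one]
    obtain ⟨K, hK, -⟩ := hg0 _ _ hA
    have hbb : b = b' := by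
      refine h b b' ⟨K⁻¹ r, ?_⟩
      change rad P r • g0 (fixer P (xs b)) A • xs b = g0 (fixer P (xs b')) A • xs b' at hr
      rw [← hAA, smul_smul] at hr
      have e2 : rad P r * g0 (fixer P (xs b)) A = g0 (fixer P (xs b)) A * rad P (K⁻¹ r) := by
        rw [hK, show K (K⁻¹ r) = r from K.apply_symm_apply r]
      rw [e2, mul_smul, smul_left_cancel_iff] at hr
      exact hr
    subst hbb
    rfl

theorem images_mul_le (x : X) :
    (images P (fixer P x)).ncard * (fixer P x).index ≤ Nat.card X := by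
  simpa using sum_images_le (P := P) (fun _ : Unit => x) (fun _ _ _ => rfl) (fun _ _ _ => rfl)

theorem images_add_le (x y : X) (hne : Nat.card (fixer P x) ≠ Nat.card (fixer P y)) :
    (images P (fixer P x)).ncard * (fixer P x).index
      + (images P (fixer P y)).ncard * (fixer P y).index ≤ Nat.card X := by
  have h := sum_images_le (P := P) (fun b : Bool => if b then x else y) ?_ ?_
  · simpa using h
  · rintro (_ | _) (_ | _) ⟨r, hr⟩
    all_goals first
      | rfl
      | (exfalso
         simp only [Bool.false_eq_true, if_false, if_true] at hr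
         have := congrArg (fun z => Nat.card (fixer P z)) hr
         simp only [fixer_rad] at this
         first | exact hne this | exact hne this.symm)
  · rintro (_ | _) (_ | _) hm
    all_goals first
      | rfl
      | (exfalso
         simp only [Bool.false_eq_true, if_false, if_true] at hm
         have := card_of_mem_images hm
         first | exact hne this | exact hne this.symm)

theorem two_mul_images_le (x y : X) (he : fixer P x = fixer P y)
    (hne : ∀ r, rad P r • x ≠ y) :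
    2 * ((images P (fixer P x)).ncard * (fixer P x).index) ≤ Nat.card X := by
  have h := sum_images_le (P := P) (fun b : Bool => if b then x else y) ?_ ?_
  · simp only [Fintype.sum_bool, if_true, Bool.false_eq_true, if_false, ← he] at h
    omega
  · rintro (_ | _) (_ | _) ⟨r, hr⟩
    all_goals first
      | rfl
      | (exfalso
         simp only [Bool.false_eq_true, if_false, if_true] at hr
         first
           | exact hne r hr
           | (refine hne (-r) ?_; rw [← hr, ← rad_inv, inv_smul_smul]))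
  · rintro (_ | _) (_ | _) _
    all_goals first
      | rfl
      | simp [he]

/-- invariant sets of objects are covered by the images -/
theorem card_le_images_mul (P : QuadraticForm F U) {α : Type*} [Finite α]
    (A : AddSubgroup (F × F × U)) (T : Set α) (S : AddSubgroup (F × F × U) → Set α) (m : ℕ)
    (hm : ∀ A' ∈ images P A, (S A').ncard ≤ m)
    (hcov : ∀ t ∈ T, ∃ A' ∈ images P A, t ∈ S A') :
    T.ncard ≤ (images P A).ncard * m := by
  classical
  have hfin : (images P A).Finite := Set.toFinite _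
  have hsub : T ⊆ ⋃ A' ∈ hfin.toFinset, S A' := fun t ht => by
    obtain ⟨A', hA', h⟩ := hcov t ht
    exact Set.mem_biUnion (hfin.mem_toFinset.2 hA') h
  refine (Set.ncard_le_ncard hsub (Set.toFinite _)).trans ((Finset.set_ncard_biUnion_le _ _).trans ?_)
  refine (Finset.sum_le_sum fun A' hA' => hm A' (hfin.mem_toFinset.1 hA')).trans ?_
  rw [Finset.sum_const, smul_eq_mul, Set.ncard_eq_toFinset_card _ hfin]

/-- vectors -/
theorem card_le_images_mul_vec (P : QuadraticForm F U) (A : AddSubgroup (F × F × U))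
    (T : Set (F × F × U)) (hcov : ∀ w ∈ T, ∃ K ∈ movers P, K⁻¹ w ∈ A) (h0 : (0 : F × F × U) ∉ T) :
    T.ncard ≤ (images P A).ncard * (Nat.card A - 1) := by
  classical
  refine card_le_images_mul P A T (fun A' => {w | w ∈ A' ∧ w ∈ T}) _ (fun A' hA' => ?_) ?_
  · rw [← card_of_mem_images hA',
      show Nat.card A' - 1 = ((A' : Set (F × F × U)) \ {0}).ncard by
        rw [Set.ncard_diff_singleton_of_mem A'.zero_mem, ← Nat.card_coe_set_eq]; rfl]
    exact Set.ncard_le_ncard (fun w hw => ⟨hw.1, fun e => h0 (e ▸ hw.2)⟩) (Set.toFinite _)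
  · intro w hw
    obtain ⟨K, hK, h⟩ := hcov w hw
    exact ⟨img K A, ⟨K, hK, rfl⟩, mem_img.2 h, hw⟩

/-- the torus -/
def torK (c : Fˣ) : (F × F × U) ≃ₗ[F] (F × F × U) :=
  (hypScale c : (F × F × U) ≃ₗ[F] (F × F × U)).trans (LinearEquiv.smulOfUnit c)

theorem torK_apply (c : Fˣ) (w : F × F × U) : torK c w = (c : F) • hypScale c w := rfl

theorem scale_mem_movers (c : Fˣ) : torK (U := U) c ∈ movers P := by
  refine ⟨⟨lev c (hypScale c), lev_scale_mem c⟩, fun w => Subtype.ext ?_⟩
  rw [Subgroup.coe_mul, Subgroup.coe_mul, torK_apply]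
  exact lev_siegel (hypScale_mem P c) w

/-- a non-zero element carries all vectors of its square class -/
theorem exists_mover_level {e f : U} (h : IsotropicNondeg P e f) {v w : F × F × U} (hv : v ≠ 0)
    (hw : w ≠ 0) {μ : F} (hμ : μ ≠ 0) (hval : hypExt P w = μ * μ * hypExt P v) :
    ∃ K ∈ movers P, K⁻¹ w = v := by
  set c : Fˣ := Units.mk0 μ hμ
  set K₀ := torK (U := U) c with hK₀
  have hQ : hypExt P (K₀ v) = μ * μ * hypExt P v := by
    rw [hK₀, torK_apply, QuadraticMap.map_smul, hypScale_mem P c, smul_eq_mul]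
    rfl
  have hK0 : K₀ v ≠ 0 := fun e => hv (K₀.map_eq_zero_iff.1 e)
  obtain ⟨k, hk, hkv⟩ := eichler_move h (K₀ v) hK0
  obtain ⟨l, hl, hlw⟩ := eichler_move h w hw
  rw [hQ, ← hval] at hkv
  refine ⟨l * k⁻¹ * K₀, (movers P).mul_mem ((movers P).mul_mem (ind_mem_movers ⟨l, hl⟩)
    ((movers P).inv_mem (ind_mem_movers ⟨k, hk⟩))) (scale_mem_movers c), ?_⟩
  show (l * k⁻¹ * K₀).symm w = v
  rw [LinearEquiv.symm_apply_eq]
  show w = l (k.symm (K₀ v))
  rw [← hkv, k.symm_apply_apply, hlw]

/-- the vectors of a square class -/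
def sqClass (P : QuadraticForm F U) (c : F) : Set (F × F × U) :=
  {w | w ≠ 0 ∧ ∃ μ : F, μ ≠ 0 ∧ hypExt P w = μ * μ * c}

theorem sqClass_le_images {e f : U} (h : IsotropicNondeg P e f) {A : AddSubgroup (F × F × U)}
    {v : F × F × U} (hv : v ∈ A) (hv0 : v ≠ 0) :
    (sqClass P (hypExt P v)).ncard ≤ (images P A).ncard * (Nat.card A - 1) :=
  card_le_images_mul_vec P A _ (fun w hw => by
    obtain ⟨hw0, μ, hμ, hw⟩ := hw
    obtain ⟨K, hK, e⟩ := exists_mover_level h hv0 hw0 hμ hw
    exact ⟨K, hK, e ▸ hv⟩) fun h => h.1 rfl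

theorem images_subsingleton_or {A : AddSubgroup (F × F × U)} :
    1 < (images P A).ncard ∨ ∀ K ∈ movers P, img K A = A := by
  by_cases hA : ∀ K ∈ movers P, img K A = A
  · exact Or.inr hA
  · left
    push Not at hA
    obtain ⟨K, hK, hne⟩ := hA
    exact (Set.one_lt_ncard (Set.toFinite _)).2
      ⟨_, ⟨K, hK, rfl⟩, _, mem_images_self A, hne⟩

section plane

variable {V₀ : Type*} [AddCommGroup V₀] [Module F V₀] [Finite V₀] {P₀ : QuadraticForm F V₀}

/-- singular vectors of `U` up to scalars -/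
theorem exists_move_line [Nontrivial V₀] (hP₀ : ∀ z, (∀ w, polar P₀ z w = 0) → z = 0)
    (m : F × F × V₀) (hm : m ≠ 0) (hms : hypExt P₀ m = 0) :
    ∃ k : eichlerGroup P₀, ∃ x : F, x ≠ 0 ∧ x • k.1 (1, 0, 0) = m := by
  obtain ⟨k, hk, x, hx, e⟩ := exists_plane_form hP₀ m hm
  refine ⟨⟨k, hk⟩, x, hx, ?_⟩
  rw [hms, zero_div] at e
  rw [← map_smul]
  simpa using e

/-- pairs of singular vectors spanning totally singular lines -/
def pairs (P : QuadraticForm F U) : Set ((F × F × U) × (F × F × U)) :=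
  {p | hypExt P p.1 = 0 ∧ p.1 ≠ 0 ∧ hypExt P p.2 = 0 ∧ polar (hypExt P) p.1 p.2 = 0 ∧
    ∀ r : F, p.2 ≠ r • p.1}

theorem exists_mover_pair [Nontrivial V₀] (hP₀ : ∀ z, (∀ w, polar P₀ z w = 0) → z = 0)
    {p p' : (F × F × (F × F × V₀)) × (F × F × (F × F × V₀))}
    (hp : p ∈ pairs (hypExt P₀)) (hp' : p' ∈ pairs (hypExt P₀))
    (S : Submodule F (F × F × (F × F × V₀))) (h1 : p.1 ∈ S) (h2 : p.2 ∈ S) :
    ∃ K ∈ eichlerGroup (hypExt P₀), K⁻¹ p'.1 ∈ S ∧ K⁻¹ p'.2 ∈ S := by
  have := Fintype.ofFinite F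
  have hI := iso_hypExt hP₀
  have norm : ∀ p : (F × F × (F × F × V₀)) × (F × F × (F × F × V₀)), p ∈ pairs (hypExt P₀) →
      ∃ K ∈ eichlerGroup (hypExt P₀), K (1, 0, 0) = p.1 ∧
        ∃ a r : F, r ≠ 0 ∧ K (a, 0, (r, 0, 0)) = p.2 := by
    rintro ⟨u, w⟩ ⟨hu, hu0, hw, huw, hind⟩
    obtain ⟨k, hk, hku⟩ := eichler_move_singular hI u hu0 hu
    set w' := k.symm w with hw'
    have hkw : k w' = w := k.apply_symm_apply w
    have hy : w'.2.1 = 0 := by
      have := isometry_polar (eichlerGroup_le _ hk) (1, 0, 0) w'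
      rw [hku, hkw, huw] at this
      simpa [polar_hypExt] using this.symm
    have hms : hypExt P₀ w'.2.2 = 0 := by
      have := eichlerGroup_le _ hk w'
      rw [hkw, hw, hypExt_apply, hy, mul_zero, zero_add] at this
      exact this.symm
    have hm0 : w'.2.2 ≠ 0 := by
      intro h0
      refine hind w'.1 ?_
      show w = w'.1 • u
      rw [← hku, ← map_smul, ← hkw]
      refine congrArg k ?_
      refine Prod.ext ?_ (Prod.ext ?_ ?_) <;> simp [hy, h0]
    obtain ⟨j, r, hr, hj⟩ := exists_move_line hP₀ _ hm0 hms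
    refine ⟨k * hypInd j.1, mul_mem hk (MinDegree.Orth.hypInd_mem_eichler j.2), ?_, w'.1, r, hr, ?_⟩
    · show k (hypInd j.1 (1, 0, 0)) = u
      rw [hypInd_apply, map_zero]
      exact hku
    · show k (hypInd j.1 (w'.1, 0, (r, 0, 0))) = w
      rw [hypInd_apply]
      refine (congrArg k ?_).trans hkw
      refine Prod.ext rfl (Prod.ext hy.symm ?_)
      rw [← hj, ← map_smul]
      congr 1
      simp
  obtain ⟨K, hK, hK1, a, r, hr, hK2⟩ := norm p hp
  obtain ⟨K', hK', hK1', a', r', hr', hK2'⟩ := norm p' hp'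
  have e1 : (K' * K⁻¹)⁻¹ p'.1 = p.1 := by
    rw [← hK1', mul_inv_rev, inv_inv, LinearEquiv.mul_apply,
      show K'⁻¹ (K' (1, 0, 0)) = (1, 0, 0) from K'.symm_apply_apply _, hK1]
  refine ⟨K' * K⁻¹, mul_mem hK' (inv_mem hK), e1 ▸ h1, ?_⟩
  rw [← hK2', mul_inv_rev, inv_inv, LinearEquiv.mul_apply,
    show K'⁻¹ (K' (a', 0, (r', 0, 0))) = (a', 0, (r', 0, 0)) from K'.symm_apply_apply _]
  have e : ((a', 0, (r', 0, 0)) : F × F × (F × F × V₀))
      = (a' - r' / r * a) • (1, 0, 0) + (r' / r) • (a, 0, (r, 0, 0)) := by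
    refine Prod.ext ?_ (Prod.ext ?_ (Prod.ext ?_ (Prod.ext ?_ ?_))) <;>
      simp [div_mul_cancel₀ _ hr]
  rw [e, map_add, map_smul, map_smul, hK1, hK2]
  exact S.add_mem (S.smul_mem _ h1) (S.smul_mem _ h2)

end plane

/-- the images under `E` -/
def eImages (P : QuadraticForm F U) (A : AddSubgroup (F × F × U)) :
    Set (AddSubgroup (F × F × U)) :=
  Set.range fun k : eichlerGroup P => img k.1 A

theorem eImages_subset (A : AddSubgroup (F × F × U)) : eImages P A ⊆ images P A := by
  rintro _ ⟨k, rfl⟩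
  exact ⟨k.1, ind_mem_movers k, rfl⟩


end Cfsg.Agent.Lib.MinIndexOrth
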