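import Cfsg.Agent.Lib.MinIndexOrth.Basic
import Cfsg.Agent.Lib.MinIndexSp.Count

/-!
If every point fixes a large part of every radical, the action is trivial.
-/

set_option autoImplicit false
set_option linter.unusedSectionVars false

namespace Cfsg.Agent.Lib.MinIndexOrth

open QuadraticMap
open Cfsg.Agent.Lib.Classical Cfsg.Agent.Lib.MinDegree.Orth

variable {F : Type*} [Field F] [Finite F] {U : Type*} [AddCommGroup U] [Module F U] [Finite U]
variable {P : QuadraticForm F U} {X : Type*} [MulAction (Grp P) X]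

theorem card_proj_mul (x : X) :
    Nat.card (fixer P x) ≤ Nat.card F * (Nat.card (zline P x) * Nat.card (proj P x)) := by
  classical
  let f : fixer P x →+ F :=
    ((LinearMap.fst F F U).comp (LinearMap.snd F F (F × U))).toAddMonoidHom.comp (fixer P x).subtype
  have hf : ∀ w : fixer P x, f w = (w : F × F × U).2.1 := fun w => rfl
  let g : f.ker →+ proj P x :=
    { toFun := fun w => ⟨((w : fixer P x) : F × F × U).2.2, ((w : fixer P x) : F × F × U).1, by
        have h := AddMonoidHom.mem_ker.1 w.2
        rw [hf] at h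
        rw [← h]
        exact (w : fixer P x).2⟩
      map_zero' := rfl
      map_add' := fun _ _ => rfl }
  have h1 : Nat.card (fixer P x) ≤ Nat.card F * Nat.card f.ker := by
    rw [← f.ker.card_mul_index, mul_comm, AddSubgroup.index_ker]
    exact Nat.mul_le_mul_right _ (Nat.card_le_card_of_injective _ Subtype.val_injective)
  have h2 : Nat.card f.ker ≤ Nat.card (zline P x) * Nat.card (proj P x) := by
    rw [← g.ker.card_mul_index, AddSubgroup.index_ker]
    refine Nat.mul_le_mul ?_ (Nat.card_le_card_of_injective _ Subtype.val_injective)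
    have hker : ∀ w : g.ker, (((w : f.ker) : fixer P x) : F × F × U)
        = ((((w : f.ker) : fixer P x) : F × F × U).1, 0, 0) := fun w => by
      have hy := AddMonoidHom.mem_ker.1 (w : f.ker).2
      have hz := congrArg Subtype.val (AddMonoidHom.mem_ker.1 w.2)
      rw [hf] at hy
      exact Prod.ext rfl (Prod.ext hy hz)
    refine Nat.card_le_card_of_injective
      (fun w => (⟨(((w : f.ker) : fixer P x) : F × F × U).1, by
        show _ ∈ fixer P x
        rw [← hker w]
        exact ((w : f.ker) : fixer P x).2⟩ : zline P x)) fun w w' e => ?_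
    apply Subtype.ext; apply Subtype.ext; apply Subtype.ext
    rw [hker w, hker w', show (((w : f.ker) : fixer P x) : F × F × U).1
      = (((w' : f.ker) : fixer P x) : F × F × U).1 from congrArg Subtype.val e]
  exact h1.trans (Nat.mul_le_mul_left _ h2)

theorem proj_pairing (hP : ∀ z, (∀ w, polar P z w = 0) → z = 0) {x : X} (hz : zline P x ≠ ⊤) :
    Nat.card (proj P ((sig P)⁻¹ • x)) * Nat.card (proj P x) ≤ Nat.card U := by
  refine le_trans (MinIndexSp.pairing (QuadraticMap.polarBilin P) ⊤ _ _ (fun v _ => trivial)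
    (fun v _ => trivial) (zline P x) hz ?_ ⊥ ?_) ?_
  · intro m hm c hc
    exact polar_mem_zline hc hm
  · intro v _ hv
    exact AddSubgroup.mem_bot.2 (hP v fun w => hv w trivial)
  · rw [AddSubgroup.card_bot, mul_one]
    exact Nat.card_le_card_of_injective _ Subtype.val_injective

theorem card_le_pow_span (S : Set U) :
    S.ncard ≤ Nat.card F ^ Module.finrank F (Submodule.span F S) := by
  rw [← Module.natCard_eq_pow_finrank, ← Nat.card_coe_set_eq]
  exact Nat.card_le_card_of_injective (fun s => (⟨s.1, Submodule.subset_span s.2⟩ :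
    Submodule.span F S)) fun s t e => Subtype.ext (congrArg Subtype.val e :)

theorem finrank_add_le_of_orth (hP : ∀ z, (∀ w, polar P z w = 0) → z = 0) {S T : Set U}
    (h : ∀ s ∈ S, ∀ t ∈ T, polar P s t = 0) :
    Module.finrank F (Submodule.span F S) + Module.finrank F (Submodule.span F T)
      ≤ Module.finrank F U := by
  have hN : (QuadraticMap.polarBilin P).Nondegenerate :=
    ⟨fun z hz => hP z hz, fun z hz => hP z fun w => by
      have := hz w; rw [polarBilin_apply_apply, polar_comm] at this; exact this⟩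
  have hle : Submodule.span F T
      ≤ LinearMap.BilinForm.orthogonal (QuadraticMap.polarBilin P) (Submodule.span F S) := by
    rw [Submodule.span_le]
    intro t ht n hn
    show polar P n t = 0
    refine Submodule.span_induction (p := fun n _ => polar P n t = 0) (fun s hs => h s hs t ht) ?_
      ?_ ?_ hn
    · exact polar_zero_left _ _
    · intro a b _ _ ha hb; rw [polar_add_left, ha, hb, add_zero]
    · intro r a _ ha; rw [polar_smul_left, ha, smul_zero]
  have h1 := Submodule.finrank_mono hle
  have h2 := LinearMap.BilinForm.finrank_orthogonal hN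
    (Submodule.span F S)
  have h3 := (Submodule.span F S).finrank_le
  omega

/-- without root elements on the line the three projections are pairwise orthogonal -/
theorem orth_of_zline_bot {x : X} (hz : zline P x = ⊥) :
    (∀ m ∈ proj P ((sig P)⁻¹ • x), ∀ c ∈ proj P x, polar P m c = 0) ∧
    (∀ c ∈ proj P ((shift P)⁻¹ • x), ∀ m ∈ proj P x, polar P c m = 0) ∧
    (∀ c ∈ proj P ((shift P)⁻¹ • x), ∀ m ∈ proj P ((sig P)⁻¹ • x), polar P c m = 0) := by
  have h0 : ∀ t, t ∈ zline P x → t = 0 := fun t ht => AddSubgroup.mem_bot.1 (hz ▸ ht)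
  exact ⟨fun m hm c hc => h0 _ (polar_mem_zline hc hm),
    fun c hc m hm => h0 _ ((polar_shift_mem hc).1 m hm),
    fun c hc m hm => h0 _ ((polar_shift_mem hc).2 m hm)⟩

/-- the multiples of `b` in the part of the radical fixing `x` -/
def coords (P : QuadraticForm F U) {X : Type*} [MulAction (Grp P) X] (x : X) (b : F × F × U) :
    AddSubgroup F :=
  (fixer P x).comap (LinearMap.toSpanSingleton F (F × F × U) b).toAddMonoidHom

omit [Finite F] [Finite U] in
theorem mem_coords {x : X} {b : F × F × U} {β : F} : β ∈ coords P x b ↔ β • b ∈ fixer P x := Iff.rfl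

omit [Finite F] [Finite U] in
theorem coords_eq_zline {x : X} {k : eichlerGroup P} {b : F × F × U}
    (hk : k.1 (1, 0, 0) = b) : coords P x b = zline P ((ind P k)⁻¹ • x) := by
  ext β
  rw [mem_coords, show (β ∈ zline P ((ind P k)⁻¹ • x)) =
    (((β, 0, 0) : F × F × U) ∈ fixer P ((ind P k)⁻¹ • x)) from rfl]
  have h := fixer_acts (acts_ind k) ((ind P k)⁻¹ • x) (β, 0, 0)
  rw [smul_inv_smul] at h
  rw [← h, ← hk, ← map_smul]
  simp

theorem card_fixer_ind (x : X) (k : eichlerGroup P) :
    Nat.card (fixer P ((ind P k) • x)) = Nat.card (fixer P x) := by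
  refine (Nat.card_congr ((k.1 : (F × F × U) ≃ₗ[F] (F × F × U)).toEquiv.subtypeEquiv fun w => ?_)).symm
  exact (fixer_acts (acts_ind k) x w).symm

theorem isPrimePow_card_space : IsPrimePow (Nat.card F) := by
  have := Fintype.ofFinite F
  rw [Nat.card_eq_fintype_card]
  exact FiniteField.isPrimePow_card F

/-- subgroup orders are powers of the characteristic -/
theorem two_mul_le_card {V : Type*} [AddCommGroup V] [Module F V] [Finite V] (A B : AddSubgroup V)
    (h : Nat.card B < Nat.card A) : 2 * Nat.card B ≤ Nat.card A := by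
  obtain ⟨p, n, hp, -, hpn⟩ := (isPrimePow_nat_iff _).1 (isPrimePow_card_space (F := F))
  have hV : Nat.card V = p ^ (n * Module.finrank F V) := by
    rw [Module.natCard_eq_pow_finrank (K := F), ← hpn, pow_mul]
  obtain ⟨a, -, ha⟩ := (Nat.dvd_prime_pow hp).1 (hV ▸ A.card_addSubgroup_dvd_card)
  obtain ⟨b, -, hb⟩ := (Nat.dvd_prime_pow hp).1 (hV ▸ B.card_addSubgroup_dvd_card)
  rw [ha, hb] at h ⊢
  have hab : b < a := (Nat.pow_lt_pow_iff_right hp.one_lt).1 h
  calc 2 * p ^ b ≤ p * p ^ b := Nat.mul_le_mul_right _ hp.two_le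
    _ = p ^ (b + 1) := (pow_succ' p b).symm
    _ ≤ p ^ a := Nat.pow_le_pow_right hp.pos hab

variable [Finite X]

/-- the trivial case -/
theorem subsingleton_of_fixed [MulAction.IsPretransitive (Grp P) X] {e f : U}
    (h : IsotropicNondeg P e f) (hall : ∀ (x : X) w, w ∈ fixer P x) : Subsingleton X := by
  have hR : ∀ w (x : X), rad P w • x = x := fun w x => hall x w
  let K : Subgroup (Grp P) := (MulAction.toPermHom (Grp P) X).ker
  have hK : ∀ g : Grp P, (∀ x : X, g • x = x) → g ∈ K := fun g hg =>
    MonoidHom.mem_ker.2 (Equiv.ext hg)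
  haveI : K.Normal := MonoidHom.normal_ker _
  have hb : hypExt (hypExt P) ((0 : F), (1 : F), (0 : F × F × U)) = 0 := by simp [hypExt_apply]
  obtain ⟨g, hg, hge⟩ := eichler_move_singular h.ext ((0 : F), (1 : F), (0 : F × F × U))
    (fun e => one_ne_zero (congrArg (fun p : F × F × (F × F × U) => p.2.1) e)) hb
  have hle : eichlerGroup (hypExt P) ≤ K.map (Grp P).subtype := by
    rw [eichlerGroup, Subgroup.closure_le]
    rintro _ (⟨w, rfl⟩ | ⟨w, rfl⟩)
    · exact ⟨rad P w, hK _ (hR w), rfl⟩
    · -- conjugate of a radical element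
      have hg' := eichlerGroup_le _ hg
      set v := g.symm ((0, 0, -w) : F × F × (F × F × U)) with hv
      have hgv : g v = (0, 0, -w) := g.apply_symm_apply _
      have hvy : v.2.1 = 0 := by
        have := isometry_polar hg' (1, 0, 0) v
        rw [hge, hgv] at this
        simpa [polar_hypExt] using this.symm
      let gG : Grp P := ⟨g, hg⟩
      have hmem : gG * rad P (-v.2.2) * gG⁻¹ ∈ K :=
        (MonoidHom.normal_ker (MulAction.toPermHom (Grp P) X)).conj_mem _ (hK _ (hR _)) gG
      refine ⟨_, hmem, ?_⟩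
      rw [Subgroup.coe_subtype, Subgroup.coe_mul, Subgroup.coe_mul, Subgroup.coe_inv]
      change g * hypSiegel (hypExt P) (-v.2.2) * g⁻¹ = _
      have e' : hypSiegel' (hypExt P) w = hypSwap * hypSiegel (hypExt P) w * hypSwap⁻¹ := by
        rw [inv_eq_of_mul_eq_one_right (hypSwap_mul_self (F := F) (V := F × F × U))]; rfl
      rw [e', hypSiegel_eq_eichler, hypSiegel_eq_eichler, eichlerEquiv_conj _ _ _ _ _ hg',
        eichlerEquiv_conj _ _ _ _ _ (hypSwap_mem _)]
      apply LinearEquiv.ext
      intro z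
      rw [eichlerEquiv_apply, eichlerEquiv_apply]
      have e1 : g (0, 0, - -v.2.2) = (0, 0, -w) - v.1 • (0, 1, 0) := by
        have hv' : ((0, 0, - -v.2.2) : F × F × (F × F × U)) = v - v.1 • (1, 0, 0) := by
          refine Prod.ext ?_ (Prod.ext ?_ ?_) <;> simp [hvy]
        rw [hv', map_sub, map_smul, hgv, hge]
      rw [e1, hge, hypSwap_apply, hypSwap_apply]
      simp only [polar_hypExt, hypExt_apply, polar_sub_right, polar_smul_right, Prod.fst_sub,
        Prod.snd_sub, Prod.smul_fst, Prod.smul_snd, smul_eq_mul]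
      refine Prod.ext ?_ (Prod.ext ?_ ?_) <;> simp <;> ring
  refine ⟨fun x y => ?_⟩
  obtain ⟨g', rfl⟩ := MulAction.exists_smul_eq (Grp P) x y
  obtain ⟨k, hk, he⟩ := hle g'.2
  rw [Subgroup.coe_subtype, SetLike.coe_eq_coe] at he
  rw [← he]
  exact (Equiv.ext_iff.1 (MonoidHom.mem_ker.1 hk) x).symm

variable (P) in
/-- multiples of singular vectors, counted -/
theorem sum_coords_le (A : AddSubgroup (F × F × U)) (z : ℕ)
    (hz : ∀ b : F × F × U, hypExt P b = 0 → b ≠ 0 →
      z ≤ Nat.card {β : Fˣ // (β : F) • b ∈ A}) :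
    z * Nat.card (SingVec (hypExt P)) ≤ (Nat.card F - 1) * (Nat.card A - 1) := by
  classical
  have := Fintype.ofFinite F
  have := Fintype.ofFinite U
  let S := Σ b : SingVec (hypExt P), {β : Fˣ // (β : F) • b.1 ∈ A}
  have h1 : z * Nat.card (SingVec (hypExt P)) ≤ Nat.card S := by
    rw [Nat.card_sigma, Nat.card_eq_fintype_card, mul_comm, ← smul_eq_mul, ← Finset.card_univ,
      ← Finset.sum_const]
    exact Finset.sum_le_sum fun b _ => hz b.1 b.2.1 b.2.2
  have h2 : Nat.card {a : A // a ≠ 0} = Nat.card A - 1 := by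
    rw [Nat.card_eq_fintype_card, Fintype.card_subtype_compl, Fintype.card_subtype_eq,
      ← Nat.card_eq_fintype_card]
  refine h1.trans ?_
  rw [← Nat.card_units, ← h2, ← Nat.card_prod]
  refine Nat.card_le_card_of_injective (fun s : S => (s.2.1,
    (⟨⟨(s.2.1 : F) • s.1.1, s.2.2⟩, fun e => s.1.2.2 ((smul_eq_zero.1
      (congrArg Subtype.val e :)).resolve_left s.2.1.ne_zero)⟩ : {a : A // a ≠ 0}))) ?_
  rintro ⟨⟨b, hb⟩, ⟨β, hβ⟩⟩ ⟨⟨b', hb'⟩, ⟨β', hβ'⟩⟩ e
  simp only [Prod.mk.injEq, Subtype.mk.injEq] at e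
  obtain ⟨rfl, e⟩ := e
  obtain rfl := smul_right_injective (F × F × U) β.ne_zero e
  rfl

theorem card_units_mem (A : AddSubgroup F) :
    Nat.card {β : Fˣ // (β : F) ∈ A} = Nat.card A - 1 := by
  classical
  have := Fintype.ofFinite F
  rw [show Nat.card A - 1 = Nat.card {a : A // a ≠ 0} by
    rw [Nat.card_eq_fintype_card, Nat.card_eq_fintype_card, Fintype.card_subtype_compl,
      Fintype.card_subtype_eq]]
  exact Nat.card_congr
    ⟨fun β => ⟨⟨_, β.2⟩, fun e => β.1.ne_zero (congrArg Subtype.val e :)⟩,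
      fun a => ⟨Units.mk0 a.1.1 fun e => a.2 (Subtype.ext e), a.1.2⟩,
      fun β => Subtype.ext (Units.ext rfl), fun a => rfl⟩

/-- when every point fixes more than `q^(d/2+1)` radical elements the action is trivial -/
theorem subsingleton_of_large [MulAction.IsPretransitive (Grp P) X] {e f : U}
    (h : IsotropicNondeg P e f) (hd : 3 ≤ Module.finrank F U)
    (hq : Module.finrank F U = 3 → 3 ≤ Nat.card F)
    (hsing : (Nat.card F - 1) * Nat.card U ≤ Nat.card (SingVec (hypExt P)))
    (hbig : ∀ x : X, Nat.card F ^ (Module.finrank F U / 2 + 1) < Nat.card (fixer P x)) :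
    Subsingleton X := by
  classical
  rcases isEmpty_or_nonempty X with hX | hX
  · infer_instance
  set q := Nat.card F with hqdef
  set d := Module.finrank F U with hddef
  obtain ⟨x, hmin⟩ := Finite.exists_min fun y : X => Nat.card (fixer P y)
  set a := Nat.card (fixer P x) with hadef
  have hq2 : 2 ≤ q := Finite.one_lt_card
  have hU : Nat.card U = q ^ d := Module.natCard_eq_pow_finrank
  have hW : Nat.card (F × F × U) = q * q * q ^ d := by
    rw [Nat.card_prod, Nat.card_prod, hU, mul_assoc]
  have hP := h.nondeg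
  -- every singular vector has two multiples, and many if one has not all
  have key : ∀ b : F × F × U, hypExt P b = 0 → b ≠ 0 → coords P x b ≠ ⊤ →
      a * a ≤ q * q * (Nat.card (coords P x b) * Nat.card (coords P x b)) * q ^ d ∧
        2 ≤ Nat.card (coords P x b) := by
    intro b hb hb0 hne
    obtain ⟨k, hk, hkb⟩ := eichler_move_singular h b hb0 hb
    rw [coords_eq_zline (P := P) (x := x) (k := ⟨k, hk⟩) hkb] at hne ⊢
    set x' := (ind P ⟨k, hk⟩)⁻¹ • x
    have hx' : Nat.card (fixer P x') = a := by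
      rw [hadef, ← card_fixer_ind x' ⟨k, hk⟩, smul_inv_smul]
    have h1 := card_proj_mul (P := P) x'
    have h2 := card_proj_mul (P := P) ((sig P)⁻¹ • x')
    rw [zline_sig] at h2
    have h3 := proj_pairing hP hne
    have hy := hmin ((sig P)⁻¹ • x')
    set z := Nat.card (zline P x')
    rw [hU] at h3
    refine ⟨?_, ?_⟩
    · calc a * a ≤ (q * (z * Nat.card (proj P x'))) *
            (q * (z * Nat.card (proj P ((sig P)⁻¹ • x')))) :=
            Nat.mul_le_mul (hx' ▸ h1) (hy.trans h2)
        _ = q * q * (z * z) * (Nat.card (proj P ((sig P)⁻¹ • x')) * Nat.card (proj P x')) := by ring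
        _ ≤ _ := Nat.mul_le_mul_left _ h3
    · have hz0 : 0 < z := Nat.card_pos
      by_contra hlt
      have hz1 : zline P x' = ⊥ := AddSubgroup.eq_bot_of_card_eq _ (show z = 1 by omega)
      have hbot := (orth_of_zline_bot hz1).1
      have h4 := finrank_add_le_of_orth hP
        (S := (proj P ((sig P)⁻¹ • x') : Set U)) (T := (proj P x' : Set U)) hbot
      have big : ∀ y : X, zline P y = ⊥ →
          d / 2 < Module.finrank F (Submodule.span F (proj P y : Set U)) := by
        intro y hy
        have h1 := card_proj_mul (P := P) y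
        rw [hy, AddSubgroup.card_bot, one_mul] at h1
        have h2 := lt_of_lt_of_le (hbig y) h1
        rw [pow_succ', Nat.mul_lt_mul_left (by omega : 0 < q)] at h2
        have h3 := card_le_pow_span (F := F) (proj P y : Set U)
        rw [← Nat.card_coe_set_eq] at h3
        exact (Nat.pow_lt_pow_iff_right (by omega : 1 < q)).1 (lt_of_lt_of_le h2 h3)
      have := big x' hz1
      have := big ((sig P)⁻¹ • x') (by rw [zline_sig, hz1])
      omega
  by_cases hall : ∀ b : F × F × U, hypExt P b = 0 → b ≠ 0 → coords P x b = ⊤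
  · -- all multiples
    have hW' : ∀ w, w ∈ fixer P x := by
      have hs : ∀ b : F × F × U, hypExt P b = 0 → b ∈ fixer P x := by
        intro b hb
        by_cases hb0 : b = 0
        · rw [hb0]; exact zero_mem _
        · have := mem_coords.1 (hall b hb hb0 ▸ AddSubgroup.mem_top (1 : F))
          rwa [one_smul] at this
      intro w
      have e : w = (w.1, 0, 0) + (0, w.2.1, 0) + ((-P w.2.2, 1, w.2.2) - ((0, 1, 0) + (-P w.2.2, 0, 0))) := by
        ext <;> simp
      rw [e]
      exact add_mem (add_mem (hs _ (by simp [hypExt_apply])) (hs _ (by simp [hypExt_apply])))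
        (sub_mem (hs _ (by simp [hypExt_apply]))
          (add_mem (hs _ (by simp [hypExt_apply])) (hs _ (by simp [hypExt_apply]))))
    refine subsingleton_of_fixed h fun y w => ?_
    have h1 : a = Nat.card (F × F × U) := by
      rw [hadef, (AddSubgroup.eq_top_iff' _).2 hW', AddSubgroup.card_top]
    have h2 : Nat.card (F × F × U) ≤ Nat.card (fixer P y) := h1.symm.le.trans (hmin y)
    rw [AddSubgroup.eq_top_of_le_card (fixer P y) h2]
    trivial
  exfalso
  push Not at hall
  obtain ⟨b₀, hb₀, hb₀0, hne₀⟩ := hall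
  obtain ⟨ha0, -⟩ := key b₀ hb₀ hb₀0 hne₀
  -- a lower bound for all multiples
  have h2z : ∀ b : F × F × U, hypExt P b = 0 → b ≠ 0 → 2 ≤ Nat.card (coords P x b) := by
    intro b hb hb0
    by_cases hc : coords P x b = ⊤
    · rw [hc, AddSubgroup.card_top]; exact hq2
    · exact (key b hb hb0 hc).2
  have count : ∀ z, (∀ b : F × F × U, hypExt P b = 0 → b ≠ 0 → z + 1 ≤ Nat.card (coords P x b)) →
      z * q ^ d < a := by
    intro z hz
    have h1 := sum_coords_le P (fixer P x) z fun b hb hb0 => by
      rw [show {β : Fˣ // (β : F) • b ∈ fixer P x} = {β : Fˣ // (β : F) ∈ coords P x b} from rfl,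
        card_units_mem]
      have := hz b hb hb0
      omega
    have h2 := (Nat.mul_le_mul_left z hsing).trans h1
    rw [← mul_assoc, mul_comm z, mul_assoc, hU] at h2
    have h3 := Nat.le_of_mul_le_mul_left h2 (by omega : 0 < q - 1)
    have ha1 : 0 < a := Nat.card_pos
    have : a = Nat.card (fixer P x) := rfl
    omega
  have ha1 := count 1 fun b hb hb0 => h2z b hb hb0
  rw [one_mul] at ha1
  -- `a` is at least twice `|U|`
  let U' : AddSubgroup (F × F × U) :=
    (LinearMap.ker (LinearMap.fst F F (F × U))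
      ⊓ LinearMap.ker ((LinearMap.fst F F U).comp (LinearMap.snd F F (F × U)))).toAddSubgroup
  have hU' : Nat.card U' = q ^ d := by
    rw [← hU]
    exact Nat.card_congr ⟨fun u => (u : F × F × U).2.2, fun c => ⟨(0, 0, c), rfl, rfl⟩,
      fun u => by
        obtain ⟨⟨s, t, c⟩, hs, ht⟩ := u
        change s = 0 at hs; change t = 0 at ht
        subst hs ht; rfl,
      fun c => rfl⟩
  have ha2 : 2 * q ^ d ≤ a := by
    rw [← hU']; exact two_mul_le_card (F := F) _ U' (hU'.symm ▸ ha1)
  -- a lower bound for the multiples from `key`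
  obtain ⟨z, hz1, hz2⟩ : ∃ z, z ≤ Nat.card F ∧ (∀ b : F × F × U, hypExt P b = 0 → b ≠ 0 →
      z ≤ Nat.card (coords P x b)) ∧ a * a ≤ q * q * (z * z) * q ^ d := by
    have hne : Nonempty {b : F × F × U // hypExt P b = 0 ∧ b ≠ 0} := ⟨⟨b₀, hb₀, hb₀0⟩⟩
    obtain ⟨⟨b, hb, hb0⟩, hbm⟩ := Finite.exists_min
      fun b : {b : F × F × U // hypExt P b = 0 ∧ b ≠ 0} => Nat.card (coords P x b.1)
    refine ⟨Nat.card (coords P x b), Nat.card_le_card_of_injective _ Subtype.val_injective,
      fun b' hb' hb'0 => hbm ⟨b', hb', hb'0⟩, ?_⟩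
    by_cases hc : coords P x b = ⊤
    · rw [hc, AddSubgroup.card_top]
      refine ha0.trans ?_
      have : Nat.card (coords P x b₀) ≤ q := Nat.card_le_card_of_injective _ Subtype.val_injective
      gcongr
    · exact (key b hb hb0 hc).1
  obtain ⟨hz2, hz3⟩ := hz2
  have h5 := count (z - 1) fun b hb hb0 => by
    have := hz2 b hb hb0
    have := h2z b hb hb0
    omega
  have h6 : 2 * (z * q ^ d) < 3 * a := by
    have : z * q ^ d ≤ (z - 1) * q ^ d + q ^ d := by
      rw [← Nat.succ_mul]; exact Nat.mul_le_mul_right _ (by omega)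
    omega
  -- contradiction
  have h7 : 4 * (a * a) * q ^ d < 9 * (q * q) * (a * a) := by
    calc 4 * (a * a) * q ^ d ≤ 4 * (q * q * (z * z) * q ^ d) * q ^ d := by gcongr
      _ = q * q * ((2 * (z * q ^ d)) * (2 * (z * q ^ d))) := by ring
      _ < q * q * ((3 * a) * (3 * a)) :=
        Nat.mul_lt_mul_of_pos_left (Nat.mul_lt_mul'' h6 h6) (Nat.mul_pos (by omega) (by omega))
      _ = _ := by ring
  have ha3 : 0 < a := Nat.card_pos
  have h8 : 4 * q ^ d < 9 * (q * q) := by
    by_contra hcon
    push Not at hcon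
    have := Nat.mul_le_mul_right (a * a) hcon
    nlinarith
  rcases Nat.lt_or_ge d 4 with hd4 | hd4
  · have h3 : d = 3 := by omega
    have := hq h3
    rw [h3] at h8
    nlinarith
  · have : q ^ 4 ≤ q ^ d := Nat.pow_le_pow_right (by omega) hd4
    nlinarith [Nat.mul_le_mul hq2 hq2]

end Cfsg.Agent.Lib.MinIndexOrth
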