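import Cfsg.Agent.Lib.MinIndexOrth.Odd

/-!
Transitive sets of the groups of plus type along the tower of planes over the empty form.
-/

set_option autoImplicit false
set_option linter.unusedSectionVars false

namespace Cfsg.Agent.Lib.MinIndexOrth

open QuadraticMap
open Cfsg.Agent.Lib.Classical Cfsg.Agent.Lib.MinDegree.Orth

universe u

/-- one less than a power is a multiple of one less than its base -/
theorem exists_geom (r : ℕ) : ∀ n, ∃ K, r * K + 1 = (r + 1) ^ n
  | 0 => ⟨0, by simp⟩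
  | n + 1 => by
    obtain ⟨K, hK⟩ := exists_geom r n
    exact ⟨K * (r + 1) + 1, by rw [pow_succ, ← hK]; ring⟩

section general

variable {F : Type u} [Field F] [Fintype F]

/-- the empty form -/
noncomputable abbrev plusBase (F : Type u) [Field F] [Fintype F] : QSp F :=
  ⟨Fin 0 → F, 0⟩

theorem plusBase_card : Nat.card (plusBase F).carrier = 1 :=
  Nat.card_eq_one_iff_unique.2 ⟨inferInstanceAs (Subsingleton (Fin 0 → F)), ⟨0⟩⟩

theorem plusBase_nondeg : ∀ z, (∀ w, polar (plusBase F).form z w = 0) → z = 0 :=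
  fun z _ => Subsingleton.elim (α := Fin 0 → F) z 0

theorem plusBase_finrank : Module.finrank F (plusBase F).carrier = 0 :=
  Module.finrank_fin_fun F

theorem cnt_plus_zero : ∀ t,
    Nat.card F * cnt (tw (plusBase F) t).form 0 + Nat.card F ^ t
      = Nat.card F ^ (2 * t) + Nat.card F ^ (t + 1)
  | 0 => by
    have h : cnt (tw (plusBase F) 0).form 0 = 1 := by
      show Nat.card {z : Fin 0 → F // (0 : QuadraticForm F (Fin 0 → F)) z = 0} = 1
      exact Nat.card_eq_one_iff_unique.2 ⟨inferInstance, ⟨⟨0, rfl⟩⟩⟩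
    rw [h]
    ring
  | t + 1 => by
    have ih := cnt_plus_zero t
    rw [cnt_tw_succ', natCard_tw, plusBase_card]
    obtain ⟨r, hr⟩ : ∃ r, Nat.card F = r + 1 := ⟨Nat.card F - 1, by
      have := Nat.card_pos (α := F); omega⟩
    rw [hr] at ih ⊢
    rw [add_tsub_cancel_right]
    linear_combination (r + 1) * ih

theorem cnt_plus_ne {c : F} (hc : c ≠ 0) : ∀ t,
    Nat.card F * cnt (tw (plusBase F) t).form c + Nat.card F ^ t = Nat.card F ^ (2 * t)
  | 0 => by
    have h : cnt (tw (plusBase F) 0).form c = 0 := by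
      show Nat.card {z : Fin 0 → F // (0 : QuadraticForm F (Fin 0 → F)) z = c} = 0
      haveI : IsEmpty {z : Fin 0 → F // (0 : QuadraticForm F (Fin 0 → F)) z = c} :=
        ⟨fun z => hc z.2.symm⟩
      exact Nat.card_of_isEmpty
    rw [h]
    ring
  | t + 1 => by
    have ih := cnt_plus_ne hc t
    rw [cnt_tw_succ', natCard_tw, plusBase_card]
    obtain ⟨r, hr⟩ : ∃ r, Nat.card F = r + 1 := ⟨Nat.card F - 1, by
      have := Nat.card_pos (α := F); omega⟩
    rw [hr] at ih ⊢
    rw [add_tsub_cancel_right]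
    linear_combination (r + 1) * ih

theorem natCard_plus (t : ℕ) :
    Nat.card (F × F × (F × F × (tw (plusBase F) t).carrier)) = Nat.card F ^ (2 * (t + 2)) := by
  rw [natCard_two, plusBase_card, mul_one]

theorem finrank_plus (t : ℕ) : Module.finrank F (tw (plusBase F) t).carrier = 2 * t := by
  rw [finrank_tw, plusBase_finrank, add_zero]

/-- four and more elements -/
theorem smallTrivial_plus (h4 : 4 ≤ Nat.card F) :
    ∀ (s T : ℕ), (Nat.card F - 1) * T + 1 + Nat.card F ^ (s + 3)
        = Nat.card F ^ (2 * s + 7) + Nat.card F ^ (s + 4) →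
      SmallTrivial (Grp (hypExt (tw (plusBase F) (s + 1)).form)) T := by
  obtain ⟨r, hr⟩ : ∃ r, Nat.card F = r + 1 := ⟨Nat.card F - 1, by omega⟩
  have hgen : ∀ (s T : ℕ), (Nat.card F - 1) * T + 1 + Nat.card F ^ (s + 3)
        = Nat.card F ^ (2 * s + 7) + Nat.card F ^ (s + 4) →
      T ≤ 2 * Nat.card (F × F × (F × F × (tw (plusBase F) (s + 1)).carrier)) ∧
      ((Nat.card F - 1) * T + 1 ≤ (Nat.card F - 1) * Nat.card (F × F × (F × F × (tw (plusBase F) (s + 1)).carrier))
        + Nat.card F * cnt (hypExt (hypExt (tw (plusBase F) (s + 1)).form)) 0) ∧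
      ∀ c : F, c ≠ 0 → Nat.card {x : F // x * x = 1} * T ≤
        Nat.card {x : F // x * x = 1} * Nat.card (F × F × (F × F × (tw (plusBase F) (s + 1)).carrier))
          + Nat.card F * cnt (hypExt (hypExt (tw (plusBase F) (s + 1)).form)) c := by
    intro s T hT
    have h0 : Nat.card F * cnt (hypExt (hypExt (tw (plusBase F) (s + 1)).form)) 0 + Nat.card F ^ (s + 3)
        = Nat.card F ^ (2 * (s + 3)) + Nat.card F ^ (s + 3 + 1) := cnt_plus_zero (s + 3)
    have hne : ∀ c : F, c ≠ 0 → Nat.card F * cnt (hypExt (hypExt (tw (plusBase F) (s + 1)).form)) c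
        + Nat.card F ^ (s + 3) = Nat.card F ^ (2 * (s + 3)) := fun c hc => cnt_plus_ne hc (s + 3)
    rw [natCard_plus, show s + 1 + 2 = s + 3 by omega]
    have h4r : 4 ≤ r + 1 := by omega
    rw [hr] at hT h0 hne ⊢
    rw [add_tsub_cancel_right] at hT ⊢
    set N := (r + 1) ^ (s + 3) with hN
    set M := (r + 1) ^ (2 * (s + 3)) with hM
    have eT : (r + 1) ^ (2 * s + 7) = r * M + M := by rw [hM]; ring
    have eN : (r + 1) ^ (s + 4) = r * N + N := by rw [hN]; ring
    have eN' : (r + 1) ^ (s + 3 + 1) = r * N + N := by rw [hN]; ring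
    rw [eT, eN] at hT
    rw [eN'] at h0
    have hMN : 16 * r * N ≤ M := by
      have e : M = N * N := by rw [hM, hN]; ring
      have h64 : 16 * r ≤ (r + 1) ^ 3 :=
        calc 16 * r ≤ 16 * (r + 1) := by omega
          _ ≤ ((r + 1) * (r + 1)) * (r + 1) :=
            Nat.mul_le_mul_right _ (le_trans (by norm_num) (Nat.mul_le_mul h4r h4r))
          _ = _ := by ring
      have h3 : (r + 1) ^ 3 ≤ N := Nat.pow_le_pow_right (by omega) (by omega)
      rw [e]
      exact Nat.mul_le_mul_right _ (by omega)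
    refine ⟨?_, by omega, fun c hc => ?_⟩
    · refine Nat.le_of_mul_le_mul_left ?_ (show 0 < r by omega)
      have h1 : 3 * M ≤ r * M := Nat.mul_le_mul_right _ (by omega)
      have h2 : r * (2 * M) = 2 * (r * M) := by ring
      have h3 : 16 * r * N = 16 * (r * N) := by ring
      omega
    · have h := hne c hc
      set C := cnt (hypExt (hypExt (tw (plusBase F) (s + 1)).form)) c with hC
      set e := Nat.card {x : F // x * x = 1} with he
      have he2 : e ≤ 2 := (sqOne_le F).1
      refine Nat.le_of_mul_le_mul_left ?_ (show 0 < r by omega)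
      calc r * (e * T) = e * (r * T) := by ring
        _ ≤ e * (r * M + M + r * N) := Nat.mul_le_mul_left _ (by omega)
        _ = r * (e * M) + e * (M + r * N) := by ring
        _ ≤ r * (e * M) + 2 * (M + r * N) := Nat.add_le_add_left (Nat.mul_le_mul_right _ he2) _
        _ ≤ r * (e * M) + r * ((r + 1) * C) := by
          refine Nat.add_le_add_left ?_ _
          have h1 : 3 * ((r + 1) * C) ≤ r * ((r + 1) * C) := Nat.mul_le_mul_right _ (by omega)
          have h3 : 16 * r * N = 16 * (r * N) := by ring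
          have h5 : 3 * N ≤ r * N := Nat.mul_le_mul_right _ (by omega)
          omega
        _ = _ := by ring
  intro s
  induction s with
  | zero =>
    intro T hT
    obtain ⟨h1, h3, h5⟩ := hgen 0 T hT
    haveI := tw_nontrivial (plusBase F) 0
    refine smallTrivial_four (tw_nondeg plusBase_nondeg 1) (finrank_plus 1) ?_ (fun h => by omega)
      (fun h => by omega) h1 h3 h5
    rw [hr, add_tsub_cancel_right] at hT
    rw [hr]
    refine Nat.le_of_mul_le_mul_left ?_ (show 0 < r by omega)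
    have e : r * fourBound (r + 1) + 1 + (r + 1) ^ (0 + 3) = (r + 1) ^ (2 * 0 + 7) + (r + 1) ^ (0 + 4) := by
      unfold fourBound; ring
    omega
  | succ s ih =>
    intro T hT
    obtain ⟨h1, h3, h5⟩ := hgen (s + 1) T hT
    obtain ⟨K, hK⟩ := exists_geom r (s + 4)
    have hJ : (Nat.card F - 1) * (K * ((r + 1) ^ (s + 3) + 1)) + 1 + Nat.card F ^ (s + 3)
        = Nat.card F ^ (2 * s + 7) + Nat.card F ^ (s + 4) := by
      rw [hr, add_tsub_cancel_right]
      linear_combination ((r + 1) ^ (s + 3) + 1) * hK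
    haveI := tw_nontrivial (plusBase F) (s + 1)
    refine smallTrivial_step (tw_nondeg plusBase_nondeg (s + 2)) (by rw [finrank_plus]; omega)
      (ih _ hJ) h1 h3 h5 ?_
    rw [natCard_plus,
      show Module.finrank F (F × F × (tw (plusBase F) (s + 1 + 1)).carrier) / 2 + 1 = s + 4 by
        simp only [Module.finrank_prod, Module.finrank_self, finrank_plus]
        omega]
    rw [hr, add_tsub_cancel_right] at hT hJ
    rw [hr]
    set J := K * ((r + 1) ^ (s + 3) + 1) with hJd
    refine Nat.le_of_mul_le_mul_left ?_ (show 0 < r by omega)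
    have a1 : r * T ≤ 2 * (r + 1) ^ (2 * s + 9) := by
      have : (r + 1) ^ (s + 1 + 4) ≤ (r + 1) ^ (2 * s + 9) := Nat.pow_le_pow_right (by omega) (by omega)
      have e9 : (r + 1) ^ (2 * (s + 1) + 7) = (r + 1) ^ (2 * s + 9) := by ring
      omega
    have a2 : (r + 1) ^ (2 * s + 7) ≤ r * J := by
      have := two_mul_pow_le (q := r + 1) (by omega) (show s + 3 < s + 4 by omega)
      have : 1 ≤ (r + 1) ^ (s + 3) := Nat.one_le_pow _ _ (by omega)
      omega
    calc r * (T * (r + 1) ^ (s + 4)) = r * T * (r + 1) ^ (s + 4) := by ring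
      _ ≤ 2 * (r + 1) ^ (2 * s + 9) * (r + 1) ^ (s + 4) := Nat.mul_le_mul_right _ a1
      _ = 2 * (r + 1) ^ (3 * s + 13) := by ring
      _ ≤ (r + 1) ^ (4 * s + 15) := two_mul_pow_le (by omega) (by omega)
      _ = (r + 1) ^ (2 * s + 7) * (r + 1) ^ (2 * (s + 1 + 1 + 2)) := by ring
      _ ≤ r * J * (r + 1) ^ (2 * (s + 1 + 1 + 2)) := Nat.mul_le_mul_right _ a2
      _ = _ := by ring

/-- two elements -/
theorem smallTrivial_plus_two (hq : Nat.card F = 2) :
    ∀ (s T : ℕ), T + 2 ^ (s + 3) = 2 ^ (2 * s + 7) →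
      SmallTrivial (Grp (hypExt (tw (plusBase F) (s + 1)).form)) T := by
  have hgen : ∀ (s T : ℕ), T + 2 ^ (s + 3) = 2 ^ (2 * s + 7) →
      T ≤ 2 * Nat.card (F × F × (F × F × (tw (plusBase F) (s + 1)).carrier)) ∧
      ((Nat.card F - 1) * T + 1 ≤ (Nat.card F - 1) * Nat.card (F × F × (F × F × (tw (plusBase F) (s + 1)).carrier))
        + Nat.card F * cnt (hypExt (hypExt (tw (plusBase F) (s + 1)).form)) 0) ∧
      ∀ c : F, c ≠ 0 → Nat.card {x : F // x * x = 1} * T ≤
        Nat.card {x : F // x * x = 1} * Nat.card (F × F × (F × F × (tw (plusBase F) (s + 1)).carrier))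
          + Nat.card F * cnt (hypExt (hypExt (tw (plusBase F) (s + 1)).form)) c := by
    intro s T hT
    have h0 : Nat.card F * cnt (hypExt (hypExt (tw (plusBase F) (s + 1)).form)) 0 + Nat.card F ^ (s + 3)
        = Nat.card F ^ (2 * (s + 3)) + Nat.card F ^ (s + 3 + 1) := cnt_plus_zero (s + 3)
    have hne : ∀ c : F, c ≠ 0 → Nat.card F * cnt (hypExt (hypExt (tw (plusBase F) (s + 1)).form)) c
        + Nat.card F ^ (s + 3) = Nat.card F ^ (2 * (s + 3)) := fun c hc => cnt_plus_ne hc (s + 3)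
    rw [natCard_plus, show s + 1 + 2 = s + 3 by omega]
    rw [(sqOne_le F).2.2 hq]
    rw [hq] at h0 hne ⊢
    have eT : 2 ^ (2 * s + 7) = 2 * 2 ^ (2 * (s + 3)) := by ring
    have eN : 2 ^ (s + 3 + 1) = 2 * 2 ^ (s + 3) := by ring
    have hpos : 1 ≤ 2 ^ (s + 3) := Nat.one_le_pow _ _ (by norm_num)
    refine ⟨by omega, by omega, fun c hc => ?_⟩
    have := hne c hc
    omega
  intro s
  induction s with
  | zero =>
    intro T hT
    obtain ⟨h1, h3, h5⟩ := hgen 0 T hT
    haveI := tw_nontrivial (plusBase F) 0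
    norm_num at hT
    refine smallTrivial_four (tw_nondeg plusBase_nondeg 1) (finrank_plus 1) ?_ (fun _ => by omega)
      (fun h => by omega) h1 h3 h5
    rw [hq]
    unfold fourBound
    omega
  | succ s ih =>
    intro T hT
    obtain ⟨h1, h3, h5⟩ := hgen (s + 1) T hT
    obtain ⟨J, hJ⟩ : ∃ J, J + 2 ^ (s + 3) = 2 ^ (2 * s + 7) :=
      ⟨2 ^ (2 * s + 7) - 2 ^ (s + 3), Nat.sub_add_cancel (Nat.pow_le_pow_right (by norm_num) (by omega))⟩
    haveI := tw_nontrivial (plusBase F) (s + 1)
    refine smallTrivial_step (tw_nondeg plusBase_nondeg (s + 2)) (by rw [finrank_plus]; omega)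
      (ih _ hJ) h1 h3 h5 ?_
    rw [natCard_plus,
      show Module.finrank F (F × F × (tw (plusBase F) (s + 1 + 1)).carrier) / 2 + 1 = s + 4 by
        simp only [Module.finrank_prod, Module.finrank_self, finrank_plus]
        omega, hq]
    have e6 : 2 ^ (2 * s + 7) = 2 * 2 ^ (2 * s + 6) := by ring
    have h6 : 2 ^ (s + 3) ≤ 2 ^ (2 * s + 6) := Nat.pow_le_pow_right (by norm_num) (by omega)
    calc T * 2 ^ (s + 4) ≤ 2 ^ (2 * (s + 1) + 7) * 2 ^ (s + 4) :=
          Nat.mul_le_mul_right _ (by linarith [Nat.zero_le (2 ^ (s + 1 + 3))])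
      _ = 2 ^ (3 * s + 13) := by ring
      _ ≤ 2 ^ (4 * s + 14) := Nat.pow_le_pow_right (by norm_num) (by omega)
      _ = 2 ^ (2 * s + 6) * 2 ^ (2 * (s + 1 + 1 + 2)) := by ring
      _ ≤ J * 2 ^ (2 * (s + 1 + 1 + 2)) := Nat.mul_le_mul_right _ (by omega)

end general

end Cfsg.Agent.Lib.MinIndexOrth
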