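import Cfsg.Agent.Lib.MinIndexOrth.Pairing
import Cfsg.Agent.Lib.MinIndexOrth.Cocycle

/-!
Small transitive sets of `E(xy + P)` have no point on which the radical of a singular point is
regular, once the smaller non-trivial stabilisers in the radical are known to be large.
-/

set_option autoImplicit false
set_option linter.unusedSectionVars false

namespace Cfsg.Agent.Lib.MinIndexOrth

open QuadraticMap
open Cfsg.Agent.Lib.Classical Cfsg.Agent.Lib.MinDegree.Orth

variable {F : Type*} [Field F] [Finite F]

section general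

variable {U : Type*} [AddCommGroup U] [Module F U] [Finite U] {P : QuadraticForm F U}

/-- elements fixing the standard point act on the radical -/
theorem exists_acts_of_fix (g : Grp P) (hge : g.1 (1, 0, 0) = (1, 0, 0)) :
    ∃ K, Acts P g K := by
  have hg1 : g.1 ∈ isoGroup (hypExt (hypExt P)) := eichlerGroup_le _ g.2
  set v := g.1 (0, 1, 0) with hv
  have hvy : v.2.1 = 1 := by
    have := isometry_polar hg1 (1, 0, 0) (0, 1, 0)
    simpa [hge, polar_hypExt, hv] using this
  have hvx : v.1 = -hypExt P v.2.2 := by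
    have := hg1 (0, 1, 0)
    rw [← hv, hypExt_apply, hypExt_apply (Q := hypExt P), hvy] at this
    simp at this
    linear_combination this
  obtain ⟨j, hj, hjg⟩ := eq_hypInd ((hypSiegel (hypExt P) v.2.2)⁻¹ * g.1)
    (mul_mem (inv_mem (hypSiegel_mem _ _)) hg1) (by
      show (hypSiegel (hypExt P) v.2.2).symm (g.1 (1, 0, 0)) = _
      rw [LinearEquiv.symm_apply_eq, hge, hypSiegel_apply]
      simp) (by
      show (hypSiegel (hypExt P) v.2.2).symm (g.1 (0, 1, 0)) = _
      rw [LinearEquiv.symm_apply_eq, ← hv, hypSiegel_apply]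
      refine Prod.ext ?_ (Prod.ext hvy ?_) <;> simp [hvx])
  refine ⟨j, fun w => Subtype.ext ?_⟩
  show g.1 * hypSiegel (hypExt P) w = hypSiegel (hypExt P) (j w) * g.1
  have hgj : g.1 = hypSiegel (hypExt P) v.2.2 * hypInd j := by rw [hjg, mul_inv_cancel_left]
  have h2 : hypInd j * hypSiegel (hypExt P) w = hypSiegel (hypExt P) (j w) * hypInd j := by
    rw [← hypInd_conj_siegel j hj w, inv_mul_cancel_right]
  rw [hgj, mul_assoc, h2, ← mul_assoc, hypSiegel_add, ← mul_assoc, hypSiegel_add, add_comm]

theorem dvd_cnt_hypExt {p : ℕ} (hU : p ∣ Nat.card U) (hF : p ∣ Nat.card F) (c : F) :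
    p ∣ cnt (hypExt P) c := by
  have := Fintype.ofFinite F
  have h := cnt_hypExt (Q := P) c
  exact (Nat.dvd_add_left hU).1 (h ▸ dvd_add (hU.mul_left _) (hF.mul_right _))

theorem le_cnt_hypExt (c : F) :
    (Nat.card F - 1) * Nat.card U + Nat.card F * cnt P c = cnt (hypExt P) c := by
  have := Fintype.ofFinite F
  have h := cnt_hypExt (Q := P) c
  have hq : 1 ≤ Nat.card F := Nat.card_pos
  have : Nat.card U ≤ Nat.card F * Nat.card U := Nat.le_mul_of_pos_left _ hq
  rw [Nat.sub_one_mul]
  omega

/-- a singular point carrying at most as many points as it has singular lines -/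
theorem dvd_points {X : Type*} [Finite X] [MulAction (Grp P) X]
    [MulAction.IsPretransitive (Grp P) X] {e f : U} (h : IsotropicNondeg P e f) (x : X)
    (hx : fixer P x = ⊥)
    (hshift : ∀ (g : Grp P) K, Acts P g K → ∃ r, rad P r • x = g • x) :
    Nat.card X ∣ (cnt (hypExt (hypExt P)) 0 - 1) * Nat.card (F × F × U) := by
  classical
  set V := F × F × (F × F × U) with hV
  set e₁ : V := (1, 0, 0) with he₁
  let H := MulAction.stabilizer (Grp P) e₁
  let S := MulAction.stabilizer (Grp P) x
  have hH : H.index = cnt (hypExt (hypExt P)) 0 - 1 := by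
    rw [MulAction.index_stabilizer]
    have horb : MulAction.orbit (Grp P) e₁ = {v : V | hypExt (hypExt P) v = 0} \ {0} := by
      ext v
      constructor
      · rintro ⟨g, rfl⟩
        refine ⟨?_, ?_⟩
        · show hypExt (hypExt P) (g.1 e₁) = 0
          rw [eichlerGroup_le _ g.2]
          simp [he₁, hypExt_apply]
        · intro h0
          have h0' : g.1 e₁ = 0 := h0
          rw [LinearEquiv.map_eq_zero_iff] at h0'
          exact one_ne_zero (congrArg Prod.fst h0')
      · rintro ⟨hv, hv0⟩
        obtain ⟨g, hg, hgv⟩ := eichler_move_singular h.ext v hv0 hv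
        exact ⟨⟨g, hg⟩, hgv⟩
    rw [horb, Set.ncard_diff_singleton_of_mem (by simp), cnt]
    rfl
  have hrel : S.relIndex H = Nat.card (F × F × U) := by
    rw [Subgroup.relIndex]
    show (MulAction.stabilizer H x).index = _
    rw [MulAction.index_stabilizer]
    have horb : MulAction.orbit H x = Set.range fun r => rad P r • x := by
      ext z
      constructor
      · rintro ⟨⟨g, hg⟩, rfl⟩
        obtain ⟨K, hK⟩ := exists_acts_of_fix g hg
        exact hshift g K hK
      · rintro ⟨r, rfl⟩
        refine ⟨⟨rad P r, ?_⟩, rfl⟩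
        show hypSiegel (hypExt P) r e₁ = e₁
        rw [hypSiegel_apply]; simp [he₁]
    rw [horb, Set.ncard_range_of_injective]
    intro r r' hr
    have hr' : rad P (-r' + r) • x = x := by
      rw [rad_add, mul_smul, show rad P r • x = rad P r' • x from hr, ← rad_inv, inv_smul_smul]
    have : -r' + r ∈ fixer P x := hr'
    rw [hx, AddSubgroup.mem_bot, neg_add_eq_zero] at this
    exact this.symm
  have hS : S.index = Nat.card X := MulAction.index_stabilizer_of_transitive (Grp P) x
  rw [← hS, ← hH, ← hrel, mul_comm, ← Subgroup.inf_relIndex_right,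
    Subgroup.relIndex_mul_index inf_le_right]
  exact Subgroup.index_dvd_of_le inf_le_left

end general

variable {V₀ : Type*} [AddCommGroup V₀] [Module F V₀] [Finite V₀] [Nontrivial V₀]
variable {P₀ : QuadraticForm F V₀}
variable {X : Type*} [Finite X] [MulAction (Grp (hypExt P₀)) X]

/-- the regular point shifts under everything acting on the radical -/
theorem exists_shift (x : X) (hx : fixer (hypExt P₀) x = ⊥)
    (h2 : Nat.card X < 2 * Nat.card (F × F × (F × F × V₀))) (g : Grp (hypExt P₀))
    (K : (F × F × (F × F × V₀)) ≃ₗ[F] (F × F × (F × F × V₀))) (hg : Acts (hypExt P₀) g K) :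
    ∃ r, rad (hypExt P₀) r • x = g • x := by
  by_contra hne
  push Not at hne
  have he : fixer (hypExt P₀) x = fixer (hypExt P₀) (g • x) := by
    symm
    rw [hx]
    rw [AddSubgroup.eq_bot_iff_forall] at hx ⊢
    intro w hw
    have h1 : K (K.symm w) ∈ fixer (hypExt P₀) (g • x) := by rwa [K.apply_symm_apply]
    have := hx _ ((fixer_acts hg x _).1 h1)
    rwa [LinearEquiv.map_eq_zero_iff] at this
  have := two_mul_images_le x (g • x) he hne
  rw [hx, AddSubgroup.index_bot] at this
  have h1 : 1 ≤ (images (hypExt P₀) (⊥ : AddSubgroup (F × F × (F × F × V₀)))).ncard :=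
    (Set.ncard_pos (Set.toFinite _)).2 ⟨_, mem_images_self _⟩
  nlinarith

/-- a point fixed by the opposite complement: its images fill a third of the singular vectors -/
theorem exists_second (hP₀ : ∀ z, (∀ w, polar P₀ z w = 0) → z = 0) (x : X)
    (hx : fixer (hypExt P₀) x = ⊥)
    (hlow : ∀ y : X, fixer (hypExt P₀) y = ⊥ ∨
      Nat.card F ^ (Module.finrank F (F × F × V₀) / 2 + 1) < Nat.card (fixer (hypExt P₀) y))
    (h2 : Nat.card X < 2 * Nat.card (F × F × (F × F × V₀))) :
    ∃ y : X, zline (hypExt P₀) y = ⊥ ∧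
      ∀ c : F × F × V₀, ((0, 0, c) : F × F × (F × F × V₀)) ∈ fixer (hypExt P₀) y := by
  classical
  have hD0 : ∀ k : eichlerGroup (hypExt P₀), ∃ r, rad (hypExt P₀) r • x = ind (hypExt P₀) k • x := fun k =>
    exists_shift x hx h2 (ind (hypExt P₀) k) _ (acts_ind k)
  choose D hD' using hD0
  have huniq : ∀ r r', rad (hypExt P₀) r • x = rad (hypExt P₀) r' • x → r = r' := fun r r' hr => by
    have hr' : rad (hypExt P₀) (-r' + r) • x = x := by
      rw [rad_add, mul_smul, hr, ← rad_inv, inv_smul_smul]
    have hm : -r' + r ∈ fixer (hypExt P₀) x := hr'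
    rw [hx, AddSubgroup.mem_bot, neg_add_eq_zero] at hm
    exact hm.symm
  have hD : ∀ k l, D (k * l) = k.1 (D l) + D k := fun k l => huniq _ _ <| by
    rw [hD', ind_mul, mul_smul, ← hD' l, smul_smul, acts_ind k, mul_smul, ← hD' k, smul_smul,
      ← rad_add]
  obtain ⟨r, hr⟩ := cocycle_cases hP₀ D hD
  set y := (sig (hypExt P₀))⁻¹ • rad (hypExt P₀) r • x with hy
  have hmem : ∀ (t : F) (c : F × F × V₀),
      ((t, 0, c) : F × F × (F × F × V₀)) ∈ fixer (hypExt P₀) y ↔
        ((t, 0, 0) : F × F × (F × F × V₀)) + Dr D r (-c) = 0 := by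
    intro t c
    rw [hy, mem_fixer_sig, tel_eq, mul_smul, smul_smul (ind (hypExt P₀) _), acts_ind, mul_smul, ← hD',
      smul_smul, smul_smul, ← rad_add, ← rad_add]
    constructor
    · intro h
      have := huniq _ _ h
      simp only [kS] at this
      simp only [Dr, kS]
      linear_combination (norm := abel) this
    · intro h
      simp only [Dr, kS] at h
      congr 2
      simp only [kS]
      linear_combination (norm := abel) h
  have hDr0 : Dr D r 0 = 0 := by
    have h0 := hD 1 1
    simp only [mul_one, Subgroup.coe_one] at h0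
    have hk : kS (hypExt P₀) (0 : F × F × V₀) = 1 := Subtype.ext hypSiegel_zero
    rw [Dr, hk, hypSiegel_zero, LinearEquiv.coe_one, id_eq, add_sub_cancel_right]
    simpa using h0
  have htop : ∀ u, (Dr D r u).2.1 = 0 := fun u => by
    rw [Dr, hypSiegel_apply]
    simp [cocycle_top hP₀ D hD u]
  have hz : zline (hypExt P₀) y = ⊥ := by
    rw [AddSubgroup.eq_bot_iff_forall]
    intro t ht
    have h1 := (hmem t 0).1 ht
    rw [neg_zero, hDr0, add_zero] at h1
    exact congrArg Prod.fst h1
  refine ⟨y, hz, fun c => ?_⟩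
  rcases hr with hr | ⟨⟨u, hu0, hu⟩, hcard⟩
  · exact (hmem 0 c).2 (by rw [hr, add_zero]; rfl)
  exfalso
  have hproj : ∀ c, c ∈ proj (hypExt P₀) y ↔ (Dr D r (-c)).2.2 = 0 := by
    intro c
    constructor
    · rintro ⟨t, ht⟩
      have := congrArg (fun w : F × F × (F × F × V₀) => w.2.2) ((hmem t c).1 ht)
      simpa using this
    · intro h
      refine ⟨-(Dr D r (-c)).1, (hmem _ c).2 ?_⟩
      refine Prod.ext ?_ (Prod.ext ?_ ?_) <;> simp [h, htop]
  have hne : fixer (hypExt P₀) y ≠ ⊥ := by
    intro hb
    obtain ⟨t, ht⟩ := (hproj (-u)).2 (by rw [neg_neg]; exact hu)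
    rw [hb, AddSubgroup.mem_bot] at ht
    exact hu0 (neg_eq_zero.1 (congrArg (fun w : F × F × (F × F × V₀) => w.2.2) ht))
  have h1 := card_proj_mul (P := hypExt P₀) y
  rw [hz, AddSubgroup.card_bot, one_mul] at h1
  have h3 : Nat.card (proj (hypExt P₀) y) ≤ Nat.card {u : F × F × V₀ | (Dr D r u).2.2 = 0} := by
    refine Nat.card_le_card_of_injective (fun c => ⟨-c.1, (hproj c.1).1 c.2⟩) fun c c' e => ?_
    exact Subtype.ext (neg_inj.1 (congrArg Subtype.val e))
  have h4 : Nat.card (fixer (hypExt P₀) y) ≤ Nat.card F ^ (Module.finrank F (F × F × V₀) / 2 + 1) := by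
    rw [pow_succ']
    exact h1.trans (Nat.mul_le_mul_left _ (h3.trans hcard))
  rcases hlow y with h | h
  · exact hne h
  · omega

/-- transport of an orthogonal object along images taken inside `E` -/
theorem count_images {α : Type*} [Finite α] (A : AddSubgroup (F × F × (F × F × V₀))) (T : Set α)
    (act : eichlerGroup (hypExt P₀) → α → α) (hact : ∀ k l t, act (k * l) t = act k (act l t))
    (v : α) (m : ℕ)
    (hcov : ∀ t ∈ T, ∃ k, act k v = t)
    (hstab : {t | ∃ j : eichlerGroup (hypExt P₀), img j.1 A = A ∧ act j v = t}.ncard ≤ m) :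
    T.ncard ≤ (images (hypExt P₀) A).ncard * m := by
  refine card_le_images_mul (hypExt P₀) A T
    (fun A' => {t | ∃ k : eichlerGroup (hypExt P₀), img k.1 A = A' ∧ act k v = t}) m ?_ ?_
  · intro A' _
    by_cases hA' : ∃ k : eichlerGroup (hypExt P₀), img k.1 A = A'
    · obtain ⟨k₀, hk₀⟩ := hA'
      refine le_trans (Set.ncard_le_ncard ?_ (Set.toFinite _))
        ((Set.ncard_image_le (f := act k₀) (Set.toFinite _)).trans hstab)
      rintro t ⟨k, hk, rfl⟩
      refine ⟨act (k₀⁻¹ * k) v, ⟨k₀⁻¹ * k, ?_, rfl⟩, ?_⟩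
      · show img ((k₀.1)⁻¹ * k.1) A = A
        rw [img_mul, hk, ← hk₀, ← img_mul, inv_mul_cancel, img_one]
      · rw [← hact, mul_inv_cancel_left]
    · push Not at hA'
      rw [show {t | ∃ k : eichlerGroup (hypExt P₀), img k.1 A = A' ∧ act k v = t} = ∅ from
        Set.eq_empty_iff_forall_notMem.2 fun t ⟨k, hk, _⟩ => hA' k hk]
      simp
  · intro t ht
    obtain ⟨k, hk⟩ := hcov t ht
    exact ⟨img k.1 A, ⟨k.1, ind_mem_movers k, rfl⟩, k, rfl, hk⟩

/-- the main statement -/
theorem false_of_fixer_bot (hP₀ : ∀ z, (∀ w, polar P₀ z w = 0) → z = 0)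
    [MulAction.IsPretransitive (Grp (hypExt P₀)) X] (x : X) (hx : fixer (hypExt P₀) x = ⊥)
    (hlow : ∀ y : X, fixer (hypExt P₀) y = ⊥ ∨
      Nat.card F ^ (Module.finrank F (F × F × V₀) / 2 + 1) < Nat.card (fixer (hypExt P₀) y))
    (h2 : Nat.card X < 2 * Nat.card (F × F × (F × F × V₀)))
    (hN : (Nat.card F - 1) * Nat.card X + 1 < (Nat.card F - 1) * Nat.card (F × F × (F × F × V₀))
      + Nat.card F * cnt (hypExt (hypExt P₀)) 0)
    (hc : ∀ c : F, c ≠ 0 → Nat.card {t : F // t * t = 1} * Nat.card X <
      Nat.card {t : F // t * t = 1} * Nat.card (F × F × (F × F × V₀))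
        + Nat.card F * cnt (hypExt (hypExt P₀)) c) : False := by
  classical
  have := Fintype.ofFinite F
  obtain ⟨y, hz, hy0⟩ := exists_second hP₀ x hx hlow h2
  set A := fixer (hypExt P₀) y with hA
  set q := Nat.card F with hq
  have hq2 : 2 ≤ q := Finite.one_lt_card
  have hI := iso_hypExt hP₀
  have hW : Nat.card (F × F × (F × F × V₀)) = q ^ 2 * Nat.card (F × F × V₀) := card_space
  -- the index is at least the size of the field
  have hidx : q ≤ A.index := by
    have h1 := card_proj_mul (P := hypExt P₀) y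
    rw [hz, AddSubgroup.card_bot, one_mul, ← hA] at h1
    have h3 := h1.trans (Nat.mul_le_mul_left _ (Nat.card_le_card_of_injective _
      (Subtype.val_injective (p := fun c => c ∈ proj (hypExt P₀) y))))
    have h4 := A.card_mul_index
    rw [hW] at h4
    have hpos : 0 < Nat.card (F × F × V₀) := Nat.card_pos
    by_contra hlt
    push Not at hlt
    nlinarith [Nat.mul_le_mul h3 (le_refl A.index)]
  have hsum : Nat.card (F × F × (F × F × V₀)) + (images (hypExt P₀) A).ncard * q ≤ Nat.card X := by
    have hne : Nat.card (fixer (hypExt P₀) x) ≠ Nat.card (fixer (hypExt P₀) y) := by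
      rw [hx, AddSubgroup.card_bot]
      intro h1
      obtain ⟨u, hu⟩ := exists_ne (0 : F × F × V₀)
      have h3 : fixer (hypExt P₀) y = ⊥ := AddSubgroup.card_eq_one.1 h1.symm
      have := hy0 u
      rw [hA, h3, AddSubgroup.mem_bot] at this
      exact hu (congrArg (fun w : F × F × (F × F × V₀) => w.2.2) this)
    have h1 := images_add_le x y hne
    rw [hx, AddSubgroup.index_bot, ← hA] at h1
    have h3 : 1 ≤ (images (hypExt P₀) (⊥ : AddSubgroup (F × F × (F × F × V₀)))).ncard :=
      (Set.ncard_pos (Set.toFinite _)).2 ⟨_, mem_images_self _⟩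
    nlinarith [Nat.mul_le_mul_left (images (hypExt P₀) A).ncard hidx]
  have hz' : ∀ a : F, ((a, 0, 0) : F × F × (F × F × V₀)) ∈ A → a = 0 := fun a ha => by
    have : a ∈ zline (hypExt P₀) y := ha
    rwa [hz, AddSubgroup.mem_bot] at this
  have hnd := nondeg_hypExt hP₀
  by_cases hline : ∃ γ : F, ∀ b : F, ((γ * b, b, 0) : F × F × (F × F × V₀)) ∈ A
  · obtain ⟨γ, hγ⟩ := hline
    set v : F × F × (F × F × V₀) := (-γ, 1, 0) with hv
    have hv0 : v ≠ 0 := fun h => one_ne_zero (congrArg (fun w : F × F × (F × F × V₀) => w.2.1) h)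
    have hperp : ∀ w, polar (hypExt (hypExt P₀)) v w = 0 → w ∈ A := fun w hw => by
      rw [hv, polar_hypExt (Q := hypExt P₀)] at hw
      simp only [polar_zero_left, add_zero, one_mul] at hw
      have e : w = (γ * w.2.1, w.2.1, 0) + (0, 0, w.2.2) := by
        refine Prod.ext ?_ (Prod.ext ?_ ?_) <;> simp
        linear_combination hw
      rw [e]
      exact A.add_mem (hγ _) (hy0 _)
    have hmem : ∀ w, w ∈ A → polar (hypExt (hypExt P₀)) v w = 0 := fun w hw => by
      rw [hv, polar_hypExt (Q := hypExt P₀)]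
      simp only [polar_zero_left, add_zero, one_mul]
      have h1 := hz' (w.1 - γ * w.2.1) (by
        have := A.sub_mem (A.sub_mem hw (hγ w.2.1)) (hy0 w.2.2)
        convert this using 1
        refine Prod.ext ?_ (Prod.ext ?_ ?_) <;> simp)
      linear_combination h1
    -- vectors of the value of `v`
    have hbound : ({w : F × F × (F × F × V₀) | w ≠ 0 ∧ hypExt (hypExt P₀) w = -γ}).ncard ≤
        (images (hypExt P₀) A).ncard * ({μ : F | μ ≠ 0 ∧ μ * μ * (-γ) = -γ}).ncard := by
      refine count_images A _ (fun k w => k.1 w) (fun _ _ _ => rfl) v _ ?_ ?_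
      · rintro w ⟨hw0, hwv⟩
        obtain ⟨k, hk, hkv⟩ := eichler_move hI v hv0
        obtain ⟨l, hl, hlw⟩ := eichler_move hI w hw0
        have hvv : hypExt (hypExt P₀) v = -γ := by simp [hv, hypExt_apply (Q := hypExt P₀)]
        rw [hvv] at hkv
        rw [hwv] at hlw
        refine ⟨⟨l * k⁻¹, mul_mem hl (inv_mem hk)⟩, ?_⟩
        show l (k.symm v) = w
        rw [← hkv, k.symm_apply_apply, hlw]
      · refine (Set.ncard_le_ncard ?_ (Set.toFinite _)).trans
          (Set.ncard_image_le (f := fun μ : F => μ • v) (Set.toFinite _))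
        rintro w ⟨j, hj, rfl⟩
        have hjA : ∀ a ∈ A, polar (hypExt (hypExt P₀)) (j.1 v) a = 0 := fun a ha => by
          rw [← hj, mem_img] at ha
          have := hmem _ ha
          rw [← isometry_polar (eichlerGroup_le _ j.2)] at this
          convert this using 2
          exact (j.1.apply_symm_apply a).symm
        set u := j.1 v with hu
        have h1 : u.2.2 = 0 := hnd _ fun c => by
          have := hjA _ (hy0 c)
          rw [polar_hypExt (Q := hypExt P₀)] at this
          simpa using this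
        have h3 : u.1 = -γ * u.2.1 := by
          have := hjA _ (hγ 1)
          rw [polar_hypExt (Q := hypExt P₀), h1] at this
          simp at this
          linear_combination this
        have he : u = u.2.1 • v := by
          refine Prod.ext ?_ (Prod.ext ?_ ?_) <;> simp [hv, h1, h3, mul_comm]
        refine ⟨u.2.1, ⟨fun h0 => ?_, ?_⟩, he.symm⟩
        · rw [h0, zero_smul, hu, LinearEquiv.map_eq_zero_iff] at he
          exact hv0 he
        · have hval := eichlerGroup_le _ j.2 v
          rw [← hu, he, QuadraticMap.map_smul] at hval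
          simpa [hv, hypExt_apply (Q := hypExt P₀)] using hval
    have hsetc : ({w : F × F × (F × F × V₀) | w ≠ 0 ∧ hypExt (hypExt P₀) w = -γ}).ncard + (if -γ = 0 then 1 else 0)
        = cnt (hypExt (hypExt P₀)) (-γ) := by
      rw [cnt, show Nat.card {w // hypExt (hypExt P₀) w = -γ} = {w | hypExt (hypExt P₀) w = -γ}.ncard from rfl]
      split_ifs with h0
      · rw [show {w : F × F × (F × F × V₀) | w ≠ 0 ∧ hypExt (hypExt P₀) w = -γ}
          = {w | hypExt (hypExt P₀) w = -γ} \ {0} by ext w; exact and_comm,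
          Set.ncard_diff_singleton_add_one (by simp [h0]) (Set.toFinite _)]
      · rw [add_zero]
        congr 1
        ext w
        exact ⟨fun h => h.2, fun h => ⟨fun h' => h0 (by rw [← h, h', map_zero]), h⟩⟩
    by_cases hγ0 : -γ = 0
    · rw [if_pos hγ0] at hsetc
      rw [hγ0] at hbound hsetc
      simp only [mul_zero, and_true] at hbound
      have hcu : ({μ : F | μ ≠ 0}).ncard = q - 1 := by
        rw [show {μ : F | μ ≠ 0} = Set.univ \ {0} by ext; simp,
          Set.ncard_diff_singleton_of_mem (Set.mem_univ _), Set.ncard_univ]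
      rw [hcu] at hbound
      set i := Nat.card X with hi
      set Z := ({w : F × F × (F × F × V₀) | w ≠ 0 ∧ hypExt (hypExt P₀) w = 0}).ncard with hZ
      set M := Nat.card (F × F × (F × F × V₀)) with hM
      -- the count is squeezed between two consecutive multiples
      clear_value q
      obtain ⟨r, rfl⟩ : ∃ r, q = r + 1 := ⟨q - 1, by omega⟩
      simp only [add_tsub_cancel_right] at hN hbound
      have hlo : r * M + (r + 1) * Z ≤ r * i := by nlinarith
      have hdiv := dvd_points hI x hx (exists_shift x hx h2)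
      have hV : cnt (hypExt (hypExt (hypExt P₀))) 0 - 1 = r * M + (r + 1) * Z + r := by
        have h4 := le_cnt_hypExt (P := hypExt (hypExt P₀)) (0 : F)
        rw [← hq, add_tsub_cancel_right, ← hsetc, ← hM, Nat.mul_add, mul_one] at h4
        omega
      rw [hV, ← hM] at hdiv
      obtain ⟨ε, hε⟩ : ∃ ε, r * i = r * M + (r + 1) * Z + ε := ⟨_, (Nat.add_sub_cancel' hlo).symm⟩
      have hεr : ε < r := by
        rw [← hsetc, Nat.mul_add, mul_one] at hN
        omega
      obtain ⟨δ, hδ⟩ : ∃ δ, r = ε + δ := ⟨r - ε, by omega⟩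
      have hdiv' : i ∣ δ * M := by
        rw [show r * M + (r + 1) * Z + r = r * i + δ by omega, add_mul] at hdiv
        exact (Nat.dvd_add_right ((dvd_mul_left i r).mul_right _)).1 hdiv
      obtain ⟨p, hp⟩ := CharP.exists F
      obtain ⟨n, hpp, hn⟩ := FiniteField.card F p
      rw [← Nat.card_eq_fintype_card, ← hq] at hn
      have hgcd : Nat.gcd i M ∣ r + 1 := by
        have hMp : M = p ^ ((n : ℕ) * Module.finrank F (F × F × (F × F × V₀))) := by
          rw [hM, Module.natCard_eq_pow_finrank (K := F), ← hq, hn, ← pow_mul]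
        obtain ⟨s, -, hs⟩ := (Nat.dvd_prime_pow hpp).1 ((Nat.gcd_dvd_right i M).trans hMp.dvd)
        rw [hs, hn]
        refine pow_dvd_pow p (le_of_not_gt fun hlt => ?_)
        have h5 : p ^ ((n : ℕ) + 1) ∣ i :=
          (pow_dvd_pow p hlt).trans (hs ▸ Nat.gcd_dvd_left i M)
        have hMd : p ^ ((n : ℕ) + 1) ∣ M := (pow_dvd_pow p hlt).trans (hs ▸ Nat.gcd_dvd_right i M)
        have hqε : r + 1 ∣ ε := by
          have h6 : r + 1 ∣ r * i := (hn ▸ (pow_dvd_pow p (Nat.le_succ _)).trans h5).mul_left _
          have h7 : r + 1 ∣ r * M + (r + 1) * Z :=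
            dvd_add ((hn ▸ (pow_dvd_pow p (Nat.le_succ _)).trans hMd).mul_left _) (dvd_mul_right _ _)
          exact (Nat.dvd_add_right h7).1 (hε ▸ h6)
        have hε0 : ε = 0 := Nat.eq_zero_of_dvd_of_lt hqε (by omega)
        have hpZ : p ∣ Z := by
          have h6 : p ^ ((n : ℕ) + 1) ∣ (r + 1) * Z := by
            have := hε ▸ h5.mul_left r
            rw [hε0, add_zero] at this
            exact (Nat.dvd_add_right (hMd.mul_left _)).1 this
          rw [hn, pow_succ] at h6
          exact Nat.dvd_of_mul_dvd_mul_left (pow_pos hpp.pos _) h6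
        have hpq : p ∣ Nat.card F := by rw [← hq, hn]; exact dvd_pow_self _ n.pos.ne'
        have hpc : p ∣ cnt (hypExt (hypExt P₀)) 0 := dvd_cnt_hypExt
          ((dvd_pow hpq two_ne_zero).trans (Dvd.intro _ card_space.symm)) hpq 0
        rw [← hsetc] at hpc
        exact hpp.one_lt.ne' (Nat.dvd_one.1 ((Nat.dvd_add_right hpZ).1 hpc))
      have hi_dvd : i ∣ δ * (r + 1) := by
        have h6 : i ∣ Nat.gcd i (δ * M) := Nat.dvd_gcd dvd_rfl hdiv'
        exact (h6.trans (Nat.gcd_mul_right_dvd_mul_gcd i δ M)).trans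
          (Nat.mul_dvd_mul (Nat.gcd_dvd_right i δ) hgcd)
      have h7 := Nat.le_of_dvd (Nat.mul_pos (by omega) (by omega)) hi_dvd
      have h8 : (r + 1) ^ 2 < M := by
        rw [hW]
        have : 1 < Nat.card (F × F × V₀) := Finite.one_lt_card
        exact lt_mul_of_one_lt_right (by positivity) this
      nlinarith
    · rw [if_neg hγ0, add_zero] at hsetc
      have hμ : ({μ : F | μ ≠ 0 ∧ μ * μ * (-γ) = -γ}).ncard ≤ Nat.card {t : F // t * t = 1} :=
        Set.ncard_le_ncard (fun μ hμ => (mul_eq_right₀ hγ0).1 hμ.2) (Set.toFinite _)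
      rw [hsetc] at hbound
      have := hc (-γ) hγ0
      nlinarith [Nat.mul_le_mul_left ((images (hypExt P₀) A).ncard) hμ]
  · -- pairs carried by the largest subspace
    push Not at hline
    have hM0 : ∀ w : F × F × (F × F × V₀), (∀ t : F, t • w ∈ A) ↔ w.1 = 0 ∧ w.2.1 = 0 := by
      intro w
      constructor
      · intro h
        have h' : ∀ t : F, ((t * w.1, t * w.2.1, 0) : F × F × (F × F × V₀)) ∈ A := fun t => by
          have := A.sub_mem (h t) (hy0 (t • w.2.2))
          convert this using 1
          refine Prod.ext ?_ (Prod.ext ?_ ?_) <;> simp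
        have hb : w.2.1 = 0 := by
          by_contra hb
          obtain ⟨b, hb'⟩ := hline (w.1 / w.2.1)
          refine hb' ?_
          convert h' (b / w.2.1) using 2
          · field_simp
          · field_simp
        refine ⟨hz' _ ?_, hb⟩
        simpa [hb] using h' 1
      · rintro ⟨h1, h3⟩ t
        have := hy0 (t • w.2.2)
        convert this using 1
        refine Prod.ext ?_ (Prod.ext ?_ ?_) <;> simp [h1, h3]
    set T : Set ((F × F × (F × F × V₀)) × (F × F × (F × F × V₀))) :=
      {p | hypExt (hypExt P₀) p.1 = 0 ∧ p.1 ≠ 0 ∧ hypExt (hypExt P₀) p.2 = 0 ∧ polar (hypExt (hypExt P₀)) p.1 p.2 = 1} with hT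
    have hsolve : ∀ p ∈ T, ∃ k : eichlerGroup (hypExt P₀), k.1 (1, 0, 0) = p.1 ∧ k.1 (0, 1, 0) = p.2 := by
      rintro ⟨a, b⟩ ⟨ha, ha0, hb, hab⟩
      obtain ⟨k, hk, hka⟩ := eichler_move_singular hI a ha0 ha
      set w := k.symm b with hw
      have hwb : k w = b := k.apply_symm_apply b
      have h1 : w.2.1 = 1 := by
        have := isometry_polar (eichlerGroup_le _ hk) (1, 0, 0) w
        rw [hka, hwb, hab, polar_hypExt (Q := hypExt P₀)] at this
        simpa using this.symm
      have h3 : w.1 = -hypExt P₀ w.2.2 := by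
        have := eichlerGroup_le _ hk w
        rw [hwb, hb, hypExt_apply (Q := hypExt P₀), h1, mul_one] at this
        linear_combination -this
      refine ⟨⟨k * hypSiegel (hypExt P₀) w.2.2, mul_mem hk (hypSiegel_mem_eichler _ _)⟩, ?_, ?_⟩
      · show k (hypSiegel (hypExt P₀) _ _) = a
        rw [hypSiegel_apply]
        simpa using hka
      · show k (hypSiegel (hypExt P₀) _ _) = b
        rw [← hwb, hypSiegel_apply]
        congr 1
        refine Prod.ext ?_ (Prod.ext ?_ ?_) <;> simp [h1, h3]
    have hbound : T.ncard ≤ (images (hypExt P₀) A).ncard * (2 * (q - 1)) := by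
      refine count_images A T (fun k p => (k.1 p.1, k.1 p.2)) (fun _ _ _ => rfl)
        ((1, 0, 0), (0, 1, 0)) _ (fun p hp => ?_) ?_
      · obtain ⟨k, h1, h3⟩ := hsolve p hp
        exact ⟨k, Prod.ext h1 h3⟩
      · let f : Bool × Fˣ → (F × F × (F × F × V₀)) × (F × F × (F × F × V₀)) := fun s =>
          if s.1 then (((s.2 : F), 0, 0), (0, (s.2 : F)⁻¹, 0))
          else ((0, (s.2 : F), 0), ((s.2 : F)⁻¹, 0, 0))
        have hc2 : Nat.card (Bool × Fˣ) = 2 * (q - 1) := by
          rw [Nat.card_prod, Nat.card_units, hq]; simp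
        refine le_trans ?_ ((Finite.card_range_le f).trans hc2.le)
        refine Set.ncard_le_ncard ?_ (Set.toFinite _)
        rintro _ ⟨j, hj, rfl⟩
        -- `j` keeps the plane
        have hplane : ∀ v : F × F × (F × F × V₀), v.2.2 = 0 → (j.1 v).2.2 = 0 := fun v hv =>
          hnd _ fun c => by
            set w := j.1.symm ((0, 0, c) : F × F × (F × F × V₀)) with hw
            have hwA : ∀ t : F, t • w ∈ A := fun t => by
              rw [hw, ← map_smul]
              have h5 : t • ((0, 0, c) : F × F × (F × F × V₀)) ∈ img j.1 A := by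
                rw [hj]; simpa using hy0 (t • c)
              exact mem_img.1 h5
            obtain ⟨h1, h3⟩ := (hM0 w).1 hwA
            have := isometry_polar (eichlerGroup_le _ j.2) v w
            rw [hw, LinearEquiv.apply_symm_apply, ← hw, polar_hypExt (Q := hypExt P₀), polar_hypExt (Q := hypExt P₀), hv, h1, h3] at this
            simpa using this
        set a := j.1 ((1, 0, 0) : F × F × (F × F × V₀)) with ha
        set b := j.1 ((0, 1, 0) : F × F × (F × F × V₀)) with hb
        have ha2 : a.2.2 = 0 := hplane _ rfl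
        have hb2 : b.2.2 = 0 := hplane _ rfl
        have hqa : a.1 * a.2.1 = 0 := by
          have := eichlerGroup_le _ j.2 ((1, 0, 0) : F × F × (F × F × V₀))
          rw [← ha, hypExt_apply (Q := hypExt P₀), hypExt_apply (Q := hypExt P₀), ha2] at this
          simpa using this
        have hqb : b.1 * b.2.1 = 0 := by
          have := eichlerGroup_le _ j.2 ((0, 1, 0) : F × F × (F × F × V₀))
          rw [← hb, hypExt_apply (Q := hypExt P₀), hypExt_apply (Q := hypExt P₀), hb2] at this
          simpa using this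
        have hab : a.1 * b.2.1 + a.2.1 * b.1 = 1 := by
          have := isometry_polar (eichlerGroup_le _ j.2) ((1, 0, 0) : F × F × (F × F × V₀)) (0, 1, 0)
          rw [← ha, ← hb, polar_hypExt (Q := hypExt P₀), polar_hypExt (Q := hypExt P₀), ha2, hb2] at this
          rw [mul_comm a.2.1]
          simpa using this
        rcases mul_eq_zero.1 hqa with h0 | h0
        · rw [h0, zero_mul, zero_add] at hab
          have hne : a.2.1 ≠ 0 := left_ne_zero_of_mul_eq_one hab
          have hb1 : b.1 ≠ 0 := right_ne_zero_of_mul_eq_one hab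
          refine ⟨(false, Units.mk0 _ hne), ?_⟩
          simp only [f, Bool.false_eq_true, if_false, Units.val_mk0]
          refine Prod.ext (Prod.ext h0.symm (Prod.ext rfl ha2.symm))
            (Prod.ext ?_ (Prod.ext ((mul_eq_zero.1 hqb).resolve_left hb1).symm hb2.symm))
          exact (eq_inv_of_mul_eq_one_right hab).symm
        · rw [h0, zero_mul, add_zero] at hab
          have hne : a.1 ≠ 0 := left_ne_zero_of_mul_eq_one hab
          have hb1 : b.2.1 ≠ 0 := right_ne_zero_of_mul_eq_one hab
          refine ⟨(true, Units.mk0 _ hne), ?_⟩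
          simp only [f, if_true, Units.val_mk0]
          refine Prod.ext (Prod.ext rfl (Prod.ext h0.symm ha2.symm))
            (Prod.ext ((mul_eq_zero.1 hqb).resolve_right hb1).symm (Prod.ext ?_ hb2.symm))
          exact (eq_inv_of_mul_eq_one_right hab).symm
    -- there are many pairs
    have hmany : (q - 1) * Nat.card (F × F × V₀) * Nat.card (F × F × V₀) ≤ T.ncard := by
      have hmove : ∀ s : Fˣ × (F × F × V₀), ∃ k : eichlerGroup (hypExt P₀),
          k.1 (1, 0, 0) = (-(s.1 : F)⁻¹ * hypExt P₀ s.2, (s.1 : F), s.2) := by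
        intro s
        obtain ⟨k, hk, e⟩ := eichler_move_singular hI
          ((-(s.1 : F)⁻¹ * hypExt P₀ s.2, (s.1 : F), s.2) : F × F × (F × F × V₀))
          (fun h => s.1.ne_zero (congrArg (fun w : F × F × (F × F × V₀) => w.2.1) h))
          (by rw [hypExt_apply (Q := hypExt P₀)]; field_simp; ring)
        exact ⟨⟨k, hk⟩, e⟩
      choose k hk using hmove
      let g : (Fˣ × (F × F × V₀)) × (F × F × V₀) → T := fun s =>
        ⟨((k s.1).1 (1, 0, 0), (k s.1).1 (hypSiegel (hypExt P₀) s.2 (0, 1, 0))), by
          refine ⟨?_, ?_, ?_, ?_⟩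
          · rw [eichlerGroup_le _ (k s.1).2]; simp [hypExt_apply (Q := hypExt P₀)]
          · rw [ne_eq, LinearEquiv.map_eq_zero_iff]
            exact fun h => one_ne_zero (congrArg Prod.fst h)
          · rw [eichlerGroup_le _ (k s.1).2, hypSiegel_mem]; simp [hypExt_apply (Q := hypExt P₀)]
          · rw [isometry_polar (eichlerGroup_le _ (k s.1).2), hypSiegel_apply, polar_hypExt (Q := hypExt P₀)]
            simp⟩
      have hg : Function.Injective g := by
        rintro ⟨s, c⟩ ⟨s', c'⟩ h
        simp only [g, Subtype.mk.injEq, Prod.mk.injEq] at h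
        obtain ⟨h1, h3⟩ := h
        rw [hk, hk] at h1
        have hs : s = s' := Prod.ext (Units.ext (congrArg (fun w : F × F × (F × F × V₀) => w.2.1) h1))
          (congrArg (fun w : F × F × (F × F × V₀) => w.2.2) h1)
        subst hs
        have h4 := congrArg (fun w : F × F × (F × F × V₀) => w.2.2) ((k s).1.injective h3)
        rw [hypSiegel_apply, hypSiegel_apply] at h4
        exact Prod.ext rfl (by simpa using h4)
      have h5 := Nat.card_le_card_of_injective g hg
      rw [Nat.card_prod, Nat.card_prod, Nat.card_units, ← hq] at h5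
      exact h5
    have hd : 2 * q ≤ Nat.card (F × F × V₀) := by
      rw [Nat.card_prod, Nat.card_prod, ← hq]
      have : 2 ≤ Nat.card V₀ := Finite.one_lt_card
      nlinarith
    rw [hW] at hsum h2
    obtain ⟨r, hr⟩ : ∃ r, q = r + 1 := ⟨q - 1, by omega⟩
    rw [hr] at hbound hmany hd hsum h2
    simp only [add_tsub_cancel_right] at hbound hmany
    have hr0 : 1 ≤ r := by omega
    have h6 : Nat.card (F × F × V₀) * Nat.card (F × F × V₀) ≤ (images (hypExt P₀) A).ncard * 2 := by
      refine Nat.le_of_mul_le_mul_left ?_ (by omega : 0 < r)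
      calc _ = r * Nat.card (F × F × V₀) * Nat.card (F × F × V₀) := by ring
        _ ≤ _ := hmany.trans hbound
        _ = _ := by ring
    nlinarith

end Cfsg.Agent.Lib.MinIndexOrth
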