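import Cfsg.Agent.Lib.MinIndexOrth.FourPlus
import Cfsg.Agent.Lib.MinDegree.Orth.Tower

/-!
The recursion for transitive sets of `E(xy + P)` and the level counts along towers of planes.
-/

set_option autoImplicit false
set_option linter.unusedSectionVars false

namespace Cfsg.Agent.Lib.MinIndexOrth

open QuadraticMap
open Cfsg.Agent.Lib.Classical Cfsg.Agent.Lib.MinDegree.Orth

universe u

/-- every transitive set of size below `T` is a point -/
def SmallTrivial (G : Type u) [Group G] (T : ℕ) : Prop :=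
  ∀ (X : Type u) [Finite X] [MulAction G X] [MulAction.IsPretransitive G X],
    Nat.card X < T → Subsingleton X

/-- passing to quotients -/
theorem SmallTrivial.index {G : Type u} [Group G] [Finite G] {K : Type*} [Group K] (φ : G →* K)
    (hφ : Function.Surjective φ) {T : ℕ} (h : SmallTrivial G T) (H : Subgroup K) (hH : H ≠ ⊤) :
    T ≤ H.index := by
  by_contra hlt
  push Not at hlt
  set L := H.comap φ with hL
  have hidx : L.index = H.index := Subgroup.index_comap_of_surjective H hφ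
  have hsub : Subsingleton (G ⧸ L) := h (G ⧸ L) (by rw [← Subgroup.index_eq_card, hidx]; exact hlt)
  have h1 : L.index = 1 := by
    rw [Subgroup.index_eq_card]
    exact Nat.card_eq_one_iff_unique.2 ⟨hsub, inferInstance⟩
  exact hH (Subgroup.index_eq_one.1 (hidx ▸ h1))

variable {F : Type u} [Field F] [Finite F]

section

variable {V₀ : Type u} [AddCommGroup V₀] [Module F V₀] [Finite V₀] [Nontrivial V₀]
variable {P₀ : QuadraticForm F V₀}

/-- images under `E` from the recursion -/
theorem le_images_of_smallTrivial (hP₀ : ∀ z, (∀ w, polar P₀ z w = 0) → z = 0) {J : ℕ}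
    (hJ : SmallTrivial (eichlerGroup (hypExt P₀)) J)
    (A : AddSubgroup (F × F × (F × F × V₀))) (hbot : A ≠ ⊥) (htop : A ≠ ⊤) :
    J ≤ (images (hypExt P₀) A).ncard := by
  classical
  have := Fintype.ofFinite F
  by_contra hlt
  push Not at hlt
  let E := eImages (hypExt P₀) A
  letI : MulAction (eichlerGroup (hypExt P₀)) E :=
    { smul := fun k A' => ⟨img k.1 A'.1, by
        obtain ⟨l, hl⟩ := A'.2
        exact ⟨k * l, by rw [← hl, ← img_mul]; rfl⟩⟩
      one_smul := fun A' => Subtype.ext (img_one _)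
      mul_smul := fun k l A' => Subtype.ext (img_mul k.1 l.1 _) }
  have hsmul : ∀ (k : eichlerGroup (hypExt P₀)) (A' : E), (k • A').1 = img k.1 A'.1 := fun _ _ => rfl
  haveI : MulAction.IsPretransitive (eichlerGroup (hypExt P₀)) E := ⟨fun x y => by
    obtain ⟨l, hl⟩ := x.2
    obtain ⟨m, hm⟩ := y.2
    refine ⟨m * l⁻¹, Subtype.ext ?_⟩
    rw [hsmul, ← hl, ← hm, ← img_mul, ← Subgroup.coe_mul, inv_mul_cancel_right]⟩
  have hsub : Subsingleton E := hJ E (by
    rw [Nat.card_coe_set_eq]
    exact lt_of_le_of_lt (Set.ncard_le_ncard (eImages_subset A) (Set.toFinite _)) hlt)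
  have hfix : ∀ k : eichlerGroup (hypExt P₀), img k.1 A = A := fun k => by
    have h1 : (⟨_, ⟨k, rfl⟩⟩ : E) = ⟨A, ⟨1, img_one A⟩⟩ := Subsingleton.elim _ _
    exact congrArg Subtype.val h1
  exact (eq_bot_or_top_of_invariant (iso_hypExt hP₀) hfix).elim hbot htop

theorem card_singVec {U : Type u} [AddCommGroup U] [Module F U] [Finite U] (P : QuadraticForm F U) :
    Nat.card (SingVec (hypExt P)) = cnt (hypExt P) 0 - 1 := by
  rw [← singular_ncard, ← Nat.card_coe_set_eq]
  refine Nat.card_congr (Equiv.subtypeEquivRight fun w => ?_)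
  exact ⟨fun h => ⟨h.2, 1, one_ne_zero, by simpa using h.1⟩,
    fun h => ⟨by obtain ⟨μ, -, hw⟩ := h.2; simpa using hw, h.1⟩⟩

theorem singVec_ge {U : Type u} [AddCommGroup U] [Module F U] [Finite U] (P : QuadraticForm F U) :
    (Nat.card F - 1) * Nat.card U ≤ Nat.card (SingVec (hypExt P)) := by
  rw [card_singVec, ← le_cnt_hypExt]
  have h1 := cnt_pos (Q := P)
  have h2 : 1 ≤ Nat.card F * cnt P 0 := Nat.mul_pos Nat.card_pos h1
  omega

/-- dimension five and more -/
theorem smallTrivial_step (hP₀ : ∀ z, (∀ w, polar P₀ z w = 0) → z = 0)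
    (hd : 3 ≤ Module.finrank F V₀) {J T : ℕ} (hJ : SmallTrivial (eichlerGroup (hypExt P₀)) J)
    (hT2 : T ≤ 2 * Nat.card (F × F × (F × F × V₀)))
    (hTN : (Nat.card F - 1) * T + 1 ≤ (Nat.card F - 1) * Nat.card (F × F × (F × F × V₀))
      + Nat.card F * cnt (hypExt (hypExt P₀)) 0)
    (hTc : ∀ c : F, c ≠ 0 → Nat.card {t : F // t * t = 1} * T ≤
      Nat.card {t : F // t * t = 1} * Nat.card (F × F × (F × F × V₀))
        + Nat.card F * cnt (hypExt (hypExt P₀)) c)
    (hTJ : T * Nat.card F ^ (Module.finrank F (F × F × V₀) / 2 + 1)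
      ≤ J * Nat.card (F × F × (F × F × V₀))) :
    SmallTrivial (Grp (hypExt P₀)) T := by
  intro X _ _ _ hX
  classical
  have := Fintype.ofFinite F
  have hfU : Module.finrank F (F × F × V₀) = Module.finrank F V₀ + 2 := by
    simp only [Module.finrank_prod, Module.finrank_self]; ring
  have hhigh : ∀ y : X, fixer (hypExt P₀) y = ⊥ ∨
      Nat.card F ^ (Module.finrank F (F × F × V₀) / 2 + 1) < Nat.card (fixer (hypExt P₀) y) :=
    high_of_images hX (by omega) (fun A h1 h2 => le_images_of_smallTrivial hP₀ hJ A h1 h2) hTJ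
  have hq : 2 ≤ Nat.card F := Finite.one_lt_card
  have hsq : 0 < Nat.card {t : F // t * t = 1} := by
    haveI : Nonempty {t : F // t * t = 1} := ⟨⟨1, one_mul 1⟩⟩
    exact Nat.card_pos
  by_cases hbot : ∃ x : X, fixer (hypExt P₀) x = ⊥
  · exfalso
    obtain ⟨x, hx⟩ := hbot
    refine false_of_fixer_bot hP₀ x hx hhigh (by omega) ?_ fun c hc => ?_
    · have h1 : (Nat.card F - 1) * (Nat.card X + 1) ≤ (Nat.card F - 1) * T := Nat.mul_le_mul_left _ hX
      rw [Nat.mul_add, mul_one] at h1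
      omega
    · exact lt_of_lt_of_le (Nat.mul_lt_mul_of_pos_left hX hsq) (hTc c hc)
  · push Not at hbot
    exact subsingleton_of_large (iso_hypExt hP₀) (by omega) (by omega) (singVec_ge _)
      fun x => (hhigh x).resolve_left (hbot x)

/-- dimension three -/
theorem smallTrivial_three (hP₀ : ∀ z, (∀ w, polar P₀ z w = 0) → z = 0)
    (hd : Module.finrank F V₀ = 1) (h3 : 3 ≤ Nat.card F) {T : ℕ}
    (hTs : T ≤ Nat.card F ^ 5 + Nat.card F ^ 4 + Nat.card F ^ 3 + Nat.card F ^ 2 + Nat.card F + 1)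
    (hT3 : Nat.card F = 3 → T ≤ 351)
    (hT2 : T ≤ 2 * Nat.card (F × F × (F × F × V₀)))
    (hTN : (Nat.card F - 1) * T + 1 ≤ (Nat.card F - 1) * Nat.card (F × F × (F × F × V₀))
      + Nat.card F * cnt (hypExt (hypExt P₀)) 0)
    (hTc : ∀ c : F, c ≠ 0 → Nat.card {t : F // t * t = 1} * T ≤
      Nat.card {t : F // t * t = 1} * Nat.card (F × F × (F × F × V₀))
        + Nat.card F * cnt (hypExt (hypExt P₀)) c) :
    SmallTrivial (Grp (hypExt P₀)) T := by
  intro X _ _ _ hX
  classical
  have := Fintype.ofFinite F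
  have hfU : Module.finrank F (F × F × V₀) = 3 := by
    simp only [Module.finrank_prod, Module.finrank_self, hd]
  have hhigh : ∀ y : X, fixer (hypExt P₀) y = ⊥ ∨
      Nat.card F ^ (Module.finrank F (F × F × V₀) / 2 + 1) < Nat.card (fixer (hypExt P₀) y) :=
    high_three hP₀ hd h3 (lt_of_lt_of_le hX hTs) fun h => lt_of_lt_of_le hX (hT3 h)
  have hsq : 0 < Nat.card {t : F // t * t = 1} := by
    haveI : Nonempty {t : F // t * t = 1} := ⟨⟨1, one_mul 1⟩⟩
    exact Nat.card_pos
  by_cases hbot : ∃ x : X, fixer (hypExt P₀) x = ⊥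
  · exfalso
    obtain ⟨x, hx⟩ := hbot
    refine false_of_fixer_bot hP₀ x hx hhigh (by omega) ?_ fun c hc => ?_
    · have h1 : (Nat.card F - 1) * (Nat.card X + 1) ≤ (Nat.card F - 1) * T := Nat.mul_le_mul_left _ hX
      rw [Nat.mul_add, mul_one] at h1
      omega
    · exact lt_of_lt_of_le (Nat.mul_lt_mul_of_pos_left hX hsq) (hTc c hc)
  · push Not at hbot
    exact subsingleton_of_large (iso_hypExt hP₀) (by omega) (fun _ => h3) (singVec_ge _)
      fun x => (hhigh x).resolve_left (hbot x)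

/-- dimension four -/
theorem smallTrivial_four (hP₀ : ∀ z, (∀ w, polar P₀ z w = 0) → z = 0)
    (hd : Module.finrank F V₀ = 2) {T : ℕ}
    (hTb : T ≤ fourBound (Nat.card F)) (hT120 : Nat.card F = 2 → T ≤ 120)
    (hminus : Nat.card F = 3 → cnt P₀ 0 + 1 ≠ 2 * Nat.card F)
    (hT2 : T ≤ 2 * Nat.card (F × F × (F × F × V₀)))
    (hTN : (Nat.card F - 1) * T + 1 ≤ (Nat.card F - 1) * Nat.card (F × F × (F × F × V₀))
      + Nat.card F * cnt (hypExt (hypExt P₀)) 0)
    (hTc : ∀ c : F, c ≠ 0 → Nat.card {t : F // t * t = 1} * T ≤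
      Nat.card {t : F // t * t = 1} * Nat.card (F × F × (F × F × V₀))
        + Nat.card F * cnt (hypExt (hypExt P₀)) c) :
    SmallTrivial (Grp (hypExt P₀)) T := by
  intro X _ _ _ hX
  classical
  have hq : 2 ≤ Nat.card F := Finite.one_lt_card
  have hsq : 0 < Nat.card {t : F // t * t = 1} := by
    haveI : Nonempty {t : F // t * t = 1} := ⟨⟨1, one_mul 1⟩⟩
    exact Nat.card_pos
  refine subsingleton_four hP₀ hd (lt_of_lt_of_le hX hTb)
    (fun h => lt_of_lt_of_le hX (hT120 h)) hminus (by omega) ?_ fun c hc => ?_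
  · have h1 : (Nat.card F - 1) * (Nat.card X + 1) ≤ (Nat.card F - 1) * T := Nat.mul_le_mul_left _ hX
    rw [Nat.mul_add, mul_one] at h1
    omega
  · exact lt_of_lt_of_le (Nat.mul_lt_mul_of_pos_left hX hsq) (hTc c hc)

end

/-- at most two square roots of one -/
theorem sqOne_le (F : Type*) [Field F] [Finite F] :
    Nat.card {t : F // t * t = 1} ≤ 2 ∧ Nat.card {t : F // t * t = 1} ≤ Nat.card F - 1 ∧
      (Nat.card F = 2 → Nat.card {t : F // t * t = 1} = 1) := by
  classical
  have h1 : Nat.card {t : F // t * t = 1} ≤ 2 := by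
    refine (Nat.card_mono (Set.toFinite ({1, -1} : Set F)) ?_).trans ?_
    · intro t ht
      exact (mul_self_eq_one_iff.1 ht)
    · rw [Nat.card_coe_set_eq]
      exact (Set.ncard_insert_le _ _).trans (by rw [Set.ncard_singleton])
  have h2 : Nat.card {t : F // t * t = 1} ≤ Nat.card F - 1 := by
    rw [← Nat.card_units]
    refine Nat.card_le_card_of_injective (fun t => Units.mk0 t.1 fun h => by
      have := t.2
      rw [h, mul_zero] at this
      exact zero_ne_one this) fun a b e => Subtype.ext (congrArg Units.val e :)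
  refine ⟨h1, h2, fun h => le_antisymm (by omega) ?_⟩
  haveI : Nonempty {t : F // t * t = 1} := ⟨⟨1, one_mul 1⟩⟩
  exact Nat.card_pos

end Cfsg.Agent.Lib.MinIndexOrth
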